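/-
A width-one 3-transposition quandle on four generators has at most 81 elements: a certificate.
-/
import Mathlib

set_option autoImplicit false

namespace H99
namespace WidthOne

/-- Base generator and conjugating word for each of the 81 points. -/
def pointWord : List (Fin 4 × List (Fin 4)) :=
  [(0, []), (0, [2, 3, 1, 2, 3, 1]), (0, [3, 2, 1, 3, 2, 1]), (3, []), (0, [1, 2, 0, 3, 2, 1]),
   (0, [0, 2, 1, 3, 2, 1]), (0, [3]), (0, [2, 1, 3, 2, 1]), (0, [1, 2, 3, 1, 2]), (2, []),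
   (0, [0, 3, 1, 2, 3, 1]), (0, [1, 3, 0, 2, 3, 1]), (2, [0, 3]), (1, [1, 3, 0, 2]), (1, [1, 2, 0, 3]),
   (0, [3, 2]), (0, [1, 2, 3, 1]), (1, [1, 0, 3, 2]), (0, [2]), (0, [1, 3, 2, 1, 3]),
   (0, [3, 1, 2, 3, 1]), (0, [2, 3]), (1, [1, 0, 2, 3]), (0, [1, 3, 2, 1]), (2, [3]),
   (0, [1, 0, 3, 1, 2]), (0, [1, 0, 2, 1, 3]), (1, []), (0, [3, 2, 0, 3, 2, 1]), (0, [2, 3, 0, 2, 3, 1]),
   (1, [0, 3]), (2, [2, 1, 0, 3]), (1, [2, 3, 0, 2]), (0, [3, 1]), (1, [2, 0, 3, 2]),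
   (0, [2, 1, 3, 2]), (1, [0, 2]), (1, [3, 2, 0, 3]), (2, [3, 1, 0, 3]), (0, [2, 3, 2, 1]),
   (0, [1, 2, 1, 3]), (0, [1, 3, 1, 2]), (0, [0, 1, 3, 2]), (0, [0, 2, 3, 1]), (1, [3, 2]),
   (0, [2, 1]), (0, [3, 1, 2, 3]), (1, [3, 0, 2, 3]), (0, [0, 1, 2, 3]), (1, [2, 3]),
   (0, [0, 3, 2, 1]), (2, [0, 1, 3]), (0, [3, 1, 2]), (0, [2, 1, 3]), (0, [1]),
   (0, [3, 2, 1, 3, 2]), (0, [2, 3, 1, 2, 3]), (0, [1, 3]), (0, [2, 3, 1, 2]), (2, [2, 0, 1, 3]),
   (1, [3]), (0, [2, 0, 1, 2, 3]), (0, [2, 0, 3, 2, 1]), (0, [1, 2]), (2, [3, 0, 1, 3]),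
   (0, [3, 2, 1, 3]), (2, [1, 3]), (0, [0, 2, 1, 3]), (0, [0, 3, 1, 2]), (0, [1, 2, 3]),
   (0, [3, 2, 1]), (1, [0, 2, 3]), (1, [2]), (0, [3, 0, 2, 3, 1]), (0, [3, 0, 1, 3, 2]),
   (0, [1, 3, 2]), (1, [0, 3, 2]), (0, [2, 3, 1]), (2, [1, 0, 3]), (1, [2, 0, 3]),
   (1, [3, 0, 2])]

/-- The edges which hold by the definition of the points, and the four loops. -/
def treeEdges : List (Fin 4 × Fin 81 × Fin 81) :=
  [(0, 0, 0), (1, 27, 27), (2, 9, 9), (3, 3, 3), (1, 0, 54), (2, 0, 18), (3, 0, 6), (2, 27, 72),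
   (3, 27, 60), (3, 9, 24), (2, 54, 45), (3, 54, 33), (1, 18, 63), (3, 18, 15), (1, 6, 57), (2, 6, 21),
   (0, 72, 36), (3, 72, 44), (0, 60, 30), (2, 60, 49), (0, 24, 12), (1, 24, 66), (3, 45, 70), (2, 33, 77),
   (3, 63, 52), (1, 15, 75), (2, 57, 53), (1, 21, 69), (3, 36, 80), (0, 44, 76), (2, 30, 79), (0, 49, 71),
   (1, 12, 78), (0, 66, 51), (0, 70, 50), (1, 70, 23), (2, 70, 39), (0, 77, 43), (1, 77, 16), (0, 52, 68),
   (1, 52, 41), (2, 52, 58), (0, 75, 42), (2, 75, 35), (0, 53, 67), (1, 53, 40), (3, 53, 65), (0, 69, 48),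
   (3, 69, 46), (1, 80, 13), (2, 80, 32), (1, 76, 17), (2, 76, 34), (1, 79, 14), (3, 79, 37), (1, 71, 22),
   (3, 71, 47), (2, 78, 31), (3, 78, 38), (2, 51, 59), (3, 51, 64), (2, 50, 62), (2, 23, 7), (3, 43, 73),
   (3, 16, 20), (1, 68, 25), (1, 58, 8), (3, 42, 74), (3, 35, 55), (1, 67, 26), (1, 65, 19), (2, 48, 61),
   (2, 46, 56), (1, 62, 4), (3, 62, 28), (0, 7, 5), (3, 7, 2), (1, 73, 11), (2, 73, 29), (0, 20, 10),
   (2, 20, 1)]

/-- The deductions: pairs of points and the position of the new edge. -/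
def deductions : List (Fin 81 × Fin 81 × ℕ) :=
  [(0, 27, 0), (0, 9, 0), (0, 3, 0), (0, 72, 1), (0, 60, 1), (0, 24, 1), (27, 9, 0),
   (27, 3, 0), (27, 24, 1), (27, 45, 0), (27, 33, 0), (27, 36, 1), (27, 30, 1), (27, 53, 1),
   (27, 69, 3), (9, 3, 0), (9, 15, 0), (9, 44, 0), (9, 12, 1), (9, 66, 1), (9, 70, 1),
   (9, 77, 3), (9, 43, 0), (9, 16, 0), (9, 65, 0), (9, 20, 1), (3, 63, 2), (3, 36, 1),
   (3, 75, 0), (3, 53, 2), (3, 79, 2), (3, 78, 1), (3, 51, 1), (3, 50, 0), (3, 23, 0),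
   (3, 58, 0), (3, 35, 1), (3, 67, 0), (3, 40, 2), (3, 46, 3), (3, 17, 0), (3, 34, 0),
   (3, 7, 1), (3, 20, 2), (3, 8, 1), (3, 29, 0), (54, 15, 2), (54, 21, 3), (54, 44, 3),
   (54, 12, 1), (54, 80, 1), (54, 76, 1), (54, 79, 1), (54, 68, 3), (54, 41, 5), (54, 37, 6),
   (54, 64, 2), (54, 11, 1), (54, 10, 1), (18, 44, 3), (18, 66, 3), (18, 80, 1), (18, 76, 1),
   (18, 78, 1), (18, 68, 3), (18, 42, 4), (18, 65, 2), (18, 13, 2), (18, 17, 2), (18, 22, 1),
   (18, 47, 1), (18, 11, 0), (6, 23, 2), (6, 16, 7), (6, 35, 7), (6, 13, 1), (72, 51, 1),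
   (72, 42, 2), (72, 48, 1), (72, 47, 1), (72, 11, 3), (60, 62, 8), (60, 4, 0)]

/-- The four reflections as permutations of the points. -/
def reflTable : List (List (Fin 81)) :=
  [[0, 2, 1, 6, 8, 7, 3, 5, 4, 18, 20, 19, 24, 26, 25, 21, 23, 22, 9, 11, 10, 15, 17, 16, 12, 14, 13, 54, 56, 55, 60, 62, 61, 57, 59, 58, 72, 74, 73, 78, 80, 79, 75, 77, 76, 63, 65, 64, 69, 71, 70, 66, 68, 67, 27, 29, 28, 33, 35, 34, 30, 32, 31, 45, 47, 46, 51, 53, 52, 48, 50, 49, 36, 38, 37, 42, 44, 43, 39, 41, 40],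
   [54, 56, 55, 60, 62, 61, 57, 59, 58, 72, 74, 73, 78, 80, 79, 75, 77, 76, 63, 65, 64, 69, 71, 70, 66, 68, 67, 27, 29, 28, 33, 35, 34, 30, 32, 31, 45, 47, 46, 51, 53, 52, 48, 50, 49, 36, 38, 37, 42, 44, 43, 39, 41, 40, 0, 2, 1, 6, 8, 7, 3, 5, 4, 18, 20, 19, 24, 26, 25, 21, 23, 22, 9, 11, 10, 15, 17, 16, 12, 14, 13],
   [18, 20, 19, 24, 26, 25, 21, 23, 22, 9, 11, 10, 15, 17, 16, 12, 14, 13, 0, 2, 1, 6, 8, 7, 3, 5, 4, 72, 74, 73, 79, 78, 80, 77, 76, 75, 63, 65, 64, 70, 69, 71, 68, 67, 66, 54, 56, 55, 61, 60, 62, 59, 58, 57, 45, 47, 46, 53, 52, 51, 49, 48, 50, 36, 38, 37, 44, 43, 42, 40, 39, 41, 27, 29, 28, 35, 34, 33, 31, 30, 32],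
   [6, 8, 7, 3, 5, 4, 0, 2, 1, 24, 26, 25, 21, 23, 22, 18, 20, 19, 15, 17, 16, 12, 14, 13, 9, 11, 10, 60, 62, 61, 57, 59, 58, 54, 56, 55, 80, 79, 78, 77, 76, 75, 74, 73, 72, 70, 69, 71, 67, 66, 68, 64, 63, 65, 33, 35, 34, 30, 32, 31, 27, 29, 28, 52, 51, 53, 49, 48, 50, 46, 45, 47, 44, 43, 42, 41, 40, 39, 38, 37, 36]]

/-- An edge list: `(k, p, r)` says that the `k`-th reflection exchanges `p` and `r`. -/
abbrev Edges := List (Fin 4 × Fin 81 × Fin 81)

/-- Look up an edge, in either direction. -/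
def lookupEdge (E : Edges) (k : Fin 4) (p : Fin 81) : Option (Fin 81) :=
  E.findSome? fun e =>
    if e.1 = k then (if e.2.1 = p then some e.2.2 else if e.2.2 = p then some e.2.1 else none)
    else none

/-- Apply a word of reflections, the last letter first. -/
def follow (E : Edges) : List (Fin 4) → Fin 81 → Option (Fin 81)
  | [], p => some p
  | k :: L, p => (follow E L p).bind fun r => lookupEdge E k r

/-- The generator and word of a point. -/
def pword (p : Fin 81) : Fin 4 × List (Fin 4) := pointWord.getD p.1 (0, [])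

/-- The reflection path of a point. -/
def ppath (p : Fin 81) : List (Fin 4) := (pword p).2 ++ [(pword p).1] ++ (pword p).2.reverse

/-- One deduction. -/
def deduceEdge (E : Edges) (s : Fin 81 × Fin 81 × ℕ) : Option Edges :=
  let L := (ppath s.1).reverse ++ ppath s.2.1
  match L.drop s.2.2 with
  | [] => none
  | k :: post =>
    match follow E post s.1, follow E (L.take s.2.2).reverse s.2.1 with
    | some cur, some back => some ((k, cur, back) :: E)
    | _, _ => none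

/-- All deductions. -/
def deduceAll : List (Fin 81 × Fin 81 × ℕ) → Edges → Option Edges
  | [], E => some E
  | s :: l, E => (deduceEdge E s).bind (deduceAll l)

/-- The model reflection. -/
def refl (k : Fin 4) (p : Fin 81) : Fin 81 := (reflTable.getD k.1 []).getD p.1 0

/-- The root of each generator. -/
def genPoint : Fin 4 → Fin 81 := ![0, 27, 9, 3]

/-- The final check. -/
def tableOK : Bool :=
  match deduceAll deductions treeEdges with
  | none => false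
  | some E => (List.finRange 4).all fun k =>
      (List.finRange 81).all fun p => lookupEdge E k p == some (refl k p)

theorem tableOK_eq : tableOK = true := by decide +kernel

/-- A tree edge is justified by the point words. -/
def treeOK (e : Fin 4 × Fin 81 × Fin 81) : Bool :=
  (pword e.2.2 == ((pword e.2.1).1, e.1 :: (pword e.2.1).2)) ||
    (e.2.1 == e.2.2 && pword e.2.1 == (e.1, []))

theorem treeOK_eq : treeEdges.all treeOK = true := by decide +kernel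

theorem genPoint_word : ∀ k, pword (genPoint k) = (k, []) := by decide +kernel

/-! ### The shape of the model -/

/-- The central shift. -/
def shift (p : Fin 81) : Fin 81 := ⟨p.1 / 3 * 3 + (p.1 % 3 + 1) % 3, by omega⟩

/-- Translation of the base. -/
def baseMove (v b : Fin 27) : Fin 27 :=
  ⟨(v.1 / 9 + b.1 / 9) % 3 * 9 + (v.1 / 3 % 3 + b.1 / 3 % 3) % 3 * 3 + (v.1 % 3 + b.1 % 3) % 3,
    by omega⟩

/-- The base of a point. -/
def baseOf (p : Fin 81) : Fin 27 := ⟨p.1 / 3, by omega⟩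

/-- A permutation of the model which looks like a translation. -/
def IsTransl (π : Fin 81 → Fin 81) : Prop :=
  (∀ p, π (shift p) = shift (π p)) ∧ ∃ v, ∀ p, baseOf (π p) = baseMove v (baseOf p)

theorem pair_transl_shift : ∀ k l p,
    refl k (refl l (shift p)) = shift (refl k (refl l p)) := by decide +kernel

theorem pair_transl_base : ∀ k l, ∃ v, ∀ p,
    baseOf (refl k (refl l p)) = baseMove v (baseOf p) := by decide +kernel

theorem baseMove_assoc : ∀ v w b, baseMove v (baseMove w b) = baseMove (baseMove v w) b := by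
  decide +kernel

theorem baseMove_cube : ∀ v b, baseMove v (baseMove v (baseMove v b)) = b := by decide +kernel

theorem eq_shift_of_baseOf : ∀ p q : Fin 81, baseOf q = baseOf p →
    q = p ∨ q = shift p ∨ q = shift (shift p) := by decide +kernel

theorem shift_cube : ∀ p, shift (shift (shift p)) = p := by decide +kernel

theorem isTransl_comp {f g : Fin 81 → Fin 81} (hf : IsTransl f) (hg : IsTransl g) :
    IsTransl (f ∘ g) := by
  obtain ⟨hf1, v, hf2⟩ := hf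
  obtain ⟨hg1, w, hg2⟩ := hg
  refine ⟨fun p => by simp [hg1, hf1], baseMove v w, fun p => ?_⟩
  simp [hf2, hg2, baseMove_assoc]

theorem isTransl_iterate {π : Fin 81 → Fin 81} (hπ : IsTransl π) (p : Fin 81) :
    π^[9] p = p := by
  obtain ⟨h1, v, h2⟩ := hπ
  set c := π^[3] with hc
  have hcb : ∀ p, baseOf (c p) = baseOf p := fun p => by simp [hc, h2, baseMove_cube]
  have hcs : ∀ p, c (shift p) = shift (c p) := fun p => by simp [hc, h1]
  have h9 : π^[9] p = c (c (c p)) := by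
    rw [hc, show (9 : ℕ) = 3 + (3 + 3) from rfl, Function.iterate_add_apply,
      Function.iterate_add_apply]
  rw [h9]
  rcases eq_shift_of_baseOf p (c p) (hcb p) with h | h | h <;>
    simp [h, hcs, shift_cube]

end WidthOne
end H99
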