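/-
Singular subgroups for a large extraspecial 2-subgroup.
-/
import Cfsg.Agent.H99.LargeExtra
import Mathlib.Data.Fintype.EquivFin

set_option autoImplicit false

namespace H99

namespace LargeExtra

variable {G : Type*} [Group G] [Finite G] {Q : G → Subgroup G} {z : G}

/-- In `Q t`, the double centraliser of a set is the subgroup it generates together with `t`. -/
lemma double_centralizer (L : LargeExtra Q z) {t : G} (ht : Sing z t) :
    ∀ (S : List G), (∀ s ∈ S, s ∈ Q t) → ∀ v ∈ Q t,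
      (∀ g ∈ Q t, (∀ s ∈ S, Commute g s) → Commute g v) →
      v ∈ Subgroup.closure ({x | x ∈ S} ∪ {t}) := by
  intro S
  induction S with
  | nil =>
      intro _ v hv h
      rcases L.center_cases ht hv (fun b hb => (h b hb (by simp)).symm) with rfl | rfl
      · exact one_mem _
      · exact Subgroup.subset_closure (Or.inr rfl)
  | cons x S ih =>
      intro hS v hv h
      have hS' : ∀ s ∈ S, s ∈ Q t := fun s hs => hS s (List.mem_cons_of_mem _ hs)
      have hx : x ∈ Q t := hS x List.mem_cons_self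
      have hmono : Subgroup.closure ({y | y ∈ S} ∪ {t}) ≤
          Subgroup.closure ({y | y ∈ x :: S} ∪ {t}) :=
        Subgroup.closure_mono (Set.union_subset_union_left _ fun y hy => List.mem_cons_of_mem _ hy)
      have hxm : x ∈ Subgroup.closure ({y | y ∈ x :: S} ∪ {t}) :=
        Subgroup.subset_closure (Or.inl List.mem_cons_self)
      have h' : ∀ g ∈ Q t, (∀ s ∈ S, Commute g s) → Commute g x → Commute g v :=
        fun g hg hgS hgx => h g hg fun s hs => by
          rcases List.mem_cons.1 hs with rfl | hs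
          · exact hgx
          · exact hgS s hs
      by_cases hall : ∀ g ∈ Q t, (∀ s ∈ S, Commute g s) → Commute g x
      · exact hmono (ih hS' v hv fun g hg hgS => h' g hg hgS (hall g hg hgS))
      · push Not at hall
        obtain ⟨g₀, hg₀, hg₀S, hg₀x⟩ := hall
        have hgen : ∀ w, g₀ * w * g₀⁻¹ = w →
            (∀ g ∈ Q t, (∀ s ∈ S, Commute g s) → Commute g x → Commute g w) →
            ∀ g ∈ Q t, (∀ s ∈ S, Commute g s) → Commute g w := by
          intro w hw hw' g hg hgS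
          rcases L.comm_cases ht hg hx with hgx | hgx
          · exact hw' g hg hgS (mul_inv_eq_iff_eq_mul.1 hgx)
          · have h0 : g₀ * x * g₀⁻¹ = x * t :=
              (L.comm_cases ht hg₀ hx).resolve_left fun h => hg₀x (mul_inv_eq_iff_eq_mul.1 h)
            have hk : Commute (g₀⁻¹ * g) x := by
              apply mul_inv_eq_iff_eq_mul.1
              calc g₀⁻¹ * g * x * (g₀⁻¹ * g)⁻¹ = g₀⁻¹ * (g * x * g⁻¹) * g₀ := by group
                _ = g₀⁻¹ * (g₀ * x * g₀⁻¹) * g₀ := by rw [hgx, h0]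
                _ = x := by group
            have := Commute.mul_left (show Commute g₀ w from mul_inv_eq_iff_eq_mul.1 hw)
              (hw' _ (mul_mem (inv_mem hg₀) hg) (fun s hs => ((hg₀S s hs).inv_left).mul_left (hgS s hs)) hk)
            simpa using this
        rcases L.comm_cases ht hg₀ hv with hgv | hgv
        · exact hmono (ih hS' v hv (hgen v hgv h'))
        · have h0 : g₀ * x * g₀⁻¹ = x * t :=
            (L.comm_cases ht hg₀ hx).resolve_left fun h => hg₀x (mul_inv_eq_iff_eq_mul.1 h)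
          have hfix : g₀ * (v * x) * g₀⁻¹ = v * x := by
            calc g₀ * (v * x) * g₀⁻¹ = (g₀ * v * g₀⁻¹) * (g₀ * x * g₀⁻¹) := by group
              _ = v * x * (t * t) := by
                  rw [hgv, h0, mul_assoc v t, ← mul_assoc t x, ← (L.commute_of_mem hx).eq]
                  simp [mul_assoc]
              _ = v * x := by rw [L.sq_one ht, mul_one]
          have hm := mul_mem (hmono (ih hS' (v * x) (mul_mem hv hx)
            (hgen _ hfix fun g hg hgS hgx => (h' g hg hgS hgx).mul_right hgx))) (inv_mem hxm)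
          simpa using hm

/-- An element of `Q t` outside the subgroup generated by `t` and a set is moved to its
translate by `t` by an element fixing that set. -/
lemma exists_move (L : LargeExtra Q z) {t : G} (ht : Sing z t) {H : Subgroup G} (htH : t ∈ H)
    (hH : H ≤ Q t) {v : G} (hv : v ∈ Q t) (hvH : v ∉ H) :
    ∃ g ∈ Q t, (∀ s ∈ H, Commute g s) ∧ g * v * g⁻¹ = v * t := by
  by_contra hno
  push Not at hno
  classical
  cases nonempty_fintype G
  apply hvH
  have hle : Subgroup.closure ({x | x ∈ (Finset.univ.filter (fun y => y ∈ H)).toList} ∪ {t}) ≤ H := by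
    rw [Subgroup.closure_le]
    rintro x (hx | rfl)
    · simpa using hx
    · exact htH
  refine hle (L.double_centralizer ht _ (fun s hs => hH (by simpa using hs)) v hv fun g hg hgs => ?_)
  rcases L.comm_cases ht hg hv with h | h
  · exact mul_inv_eq_iff_eq_mul.1 h
  · exact absurd h (hno g hg fun s hs => hgs s (by simpa using hs))

variable {U : Subgroup G}

lemma mem_Q_of_mem (L : LargeExtra Q z) (hS : ∀ u ∈ U, u ≠ 1 → ∃ g : G, g * z * g⁻¹ = u)
    (hO : ∀ u ∈ U, ∀ v ∈ U, u ≠ 1 → v ≠ 1 → v ∈ Q u) {u v : G} (hu : u ∈ U) (hu1 : u ≠ 1)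
    (hv : v ∈ U) : v ∈ Q u := by
  by_cases hv1 : v = 1
  · rw [hv1]; exact one_mem _
  · exact hO u hu v hv hu1 hv1

/-- `Q u ⊓ Q w ≤ Q (u * w)` for two different non-identity members of a singular subgroup. -/
lemma inf_le_Q_mul (L : LargeExtra Q z) (hS : ∀ u ∈ U, u ≠ 1 → ∃ g : G, g * z * g⁻¹ = u)
    (hO : ∀ u ∈ U, ∀ v ∈ U, u ≠ 1 → v ≠ 1 → v ∈ Q u) {u w : G} (hu : u ∈ U) (hu1 : u ≠ 1)
    (hw : w ∈ U) (hw1 : w ≠ 1) (hne : u ≠ w) {x : G} (hxu : x ∈ Q u) (hxw : x ∈ Q w) :
    x ∈ Q (u * w) := by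
  have huQ : u ∈ Q w := mem_Q_of_mem L hS hO hw hw1 hu
  obtain ⟨g, hg, hgu⟩ : ∃ g ∈ Q w, g * u * g⁻¹ = u * w := by
    by_contra hno
    push Not at hno
    rcases L.center_cases (hS w hw hw1) huQ (fun b hb => by
        rcases L.comm_cases (hS w hw hw1) hb huQ with h | h
        · exact (mul_inv_eq_iff_eq_mul.1 h).symm
        · exact absurd h (hno b hb)) with h | h
    · exact hu1 h
    · exact hne h
  have hy : g⁻¹ * x * g ∈ Q u := by
    rcases L.comm_cases (hS w hw hw1) (inv_mem hg) hxw with h | h <;> rw [inv_inv] at h <;> rw [h]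
    · exact hxu
    · exact mul_mem hxu (mem_Q_of_mem L hS hO hu hu1 hw)
  have := L.mem_Q_conj g hy
  rw [hgu] at this
  simpa [mul_assoc] using this

/-- Conjugation by `Q u` normalizes a singular subgroup. -/
lemma conj_mem_singular (L : LargeExtra Q z) (hS : ∀ u ∈ U, u ≠ 1 → ∃ g : G, g * z * g⁻¹ = u)
    (hO : ∀ u ∈ U, ∀ v ∈ U, u ≠ 1 → v ≠ 1 → v ∈ Q u) {u : G} (hu : u ∈ U) (hu1 : u ≠ 1)
    {g : G} (hg : g ∈ Q u) {v : G} (hv : v ∈ U) : g * v * g⁻¹ ∈ U := by
  rcases L.comm_cases (hS u hu hu1) hg (mem_Q_of_mem L hS hO hu hu1 hv) with h | h <;> rw [h]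
  · exact hv
  · exact mul_mem hv hu

lemma mem_LU {LU : Subgroup G} (hLU : LU = ⨆ u ∈ ((U : Set G) \ {1}), Q u) {u g : G}
    (hu : u ∈ U) (hu1 : u ≠ 1) (hg : g ∈ Q u) : g ∈ LU := by
  rw [hLU]
  exact (le_iSup₂ (f := fun u (_ : u ∈ ((U : Set G) \ {1})) => Q u) u
    ⟨hu, by simpa using hu1⟩) hg

lemma mem_QU {QU : Subgroup G} (hQU : QU = ⨅ u ∈ ((U : Set G) \ {1}), Q u) {x : G} :
    x ∈ QU ↔ ∀ u ∈ U, u ≠ 1 → x ∈ Q u := by
  rw [hQU]
  simp [Subgroup.mem_iInf]

/-- Induction principle for the join `LU`. -/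
lemma LU_induction {LU : Subgroup G} (hLU : LU = ⨆ u ∈ ((U : Set G) \ {1}), Q u) {p : G → Prop}
    (one : p 1) (mul : ∀ a b, p a → p b → p (a * b))
    (mem : ∀ u ∈ U, u ≠ 1 → ∀ g ∈ Q u, p g) {g : G} (hg : g ∈ LU) : p g := by
  rw [hLU, iSup_subtype'] at hg
  exact Subgroup.iSup_induction _ (C := p) hg
    (fun i x hx => mem i.1 i.2.1 (by simpa using i.2.2) x hx) one mul

lemma LU_conj_mem (L : LargeExtra Q z) (hS : ∀ u ∈ U, u ≠ 1 → ∃ g : G, g * z * g⁻¹ = u)
    (hO : ∀ u ∈ U, ∀ v ∈ U, u ≠ 1 → v ≠ 1 → v ∈ Q u) {LU : Subgroup G}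
    (hLU : LU = ⨆ u ∈ ((U : Set G) \ {1}), Q u) {g : G} (hg : g ∈ LU) :
    ∀ v ∈ U, g * v * g⁻¹ ∈ U := by
  refine LU_induction hLU (p := fun g => ∀ v ∈ U, g * v * g⁻¹ ∈ U) (by simp) ?_ ?_ hg
  · intro a b ha hb v hv
    simpa [mul_assoc] using ha _ (hb v hv)
  · exact fun u hu hu1 g hg v hv => conj_mem_singular L hS hO hu hu1 hg hv

/-- `LU` induces every automorphism of a singular `U`. -/
lemma LU_induces (L : LargeExtra Q z) (hU2 : ∀ u ∈ U, u * u = 1)
    (hS : ∀ u ∈ U, u ≠ 1 → ∃ g : G, g * z * g⁻¹ = u)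
    (hO : ∀ u ∈ U, ∀ v ∈ U, u ≠ 1 → v ≠ 1 → v ∈ Q u) {LU : Subgroup G}
    (hLU : LU = ⨆ u ∈ ((U : Set G) \ {1}), Q u) (φ : ↥U ≃* ↥U) :
    ∃ g ∈ LU, ∀ u : ↥U, g * (u : G) * g⁻¹ = ((φ u : ↥U) : G) := by
  suffices h : ∀ l : List ↥U, ∃ g ∈ LU, ∀ u ∈ l, g * (u : G) * g⁻¹ = ((φ u : ↥U) : G) by
    classical
    cases nonempty_fintype ↥U
    obtain ⟨g, hg, h⟩ := h (Finset.univ : Finset ↥U).toList
    exact ⟨g, hg, fun u => h u (by simp)⟩
  intro l
  induction l with
  | nil => exact ⟨1, one_mem _, by simp⟩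
  | cons x l ih =>
      obtain ⟨g, hg, hgl⟩ := ih
      let θ₁ : ↥U →* G := (MulAut.conj g).toMonoidHom.comp U.subtype
      let θ₂ : ↥U →* G := U.subtype.comp φ.toMonoidHom
      let H : Subgroup ↥U := θ₁.eqLocus θ₂
      have hl : ∀ u ∈ l, u ∈ H := fun u hu => hgl u hu
      by_cases hx : x ∈ H
      · refine ⟨g, hg, fun u hu => ?_⟩
        rcases List.mem_cons.1 hu with rfl | hu
        · exact hx
        · exact hgl u hu
      · set v := g * (x : G) * g⁻¹ with hv
        set w : G := ((φ x : ↥U) : G) with hw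
        have hvU : v ∈ U := LU_conj_mem L hS hO hLU hg x x.2
        have hwU : w ∈ U := (φ x).2
        have hvw : v ≠ w := hx
        set t := v * w with ht
        have hvi : v⁻¹ = v := inv_eq_of_mul_eq_one_right (hU2 v hvU)
        have ht1 : t ≠ 1 := fun h => hvw (by rw [← inv_eq_of_mul_eq_one_right h, hvi])
        have htU : t ∈ U := mul_mem hvU hwU
        have hcomm : ∀ a ∈ U, ∀ b ∈ U, a * b = b * a := by
          intro a ha b hb
          have := hU2 _ (mul_mem ha hb)
          have h2 : (a * b)⁻¹ = a * b := inv_eq_of_mul_eq_one_right this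
          rw [mul_inv_rev, inv_eq_of_mul_eq_one_right (hU2 a ha),
            inv_eq_of_mul_eq_one_right (hU2 b hb)] at h2
          exact h2.symm
        -- the image of `H`
        let W : Subgroup G := H.map θ₂
        have hWU : W ≤ U := by
          rintro _ ⟨a, -, rfl⟩
          exact (φ a).2
        have hwW : w ∉ W := by
          rintro ⟨a, ha, hax⟩
          have : φ a = φ x := Subtype.ext hax
          exact hx (φ.injective this ▸ ha)
        have hvW : v ∉ W := by
          rintro ⟨a, ha, hax⟩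
          have hax' : g * (a : G) * g⁻¹ = v := (show θ₁ a = θ₂ a from ha).trans hax
          have : (a : G) = (x : G) := by simpa [hv] using hax'
          exact hx (Subtype.ext this ▸ ha)
        let H' : Subgroup G := W ⊔ Subgroup.zpowers t
        have hH'U : H' ≤ U := sup_le hWU (Subgroup.zpowers_le.2 htU)
        have hvH' : v ∉ H' := by
          intro hv'
          let W' : Subgroup G :=
            { carrier := {y | y ∈ W ∨ y * t ∈ W} ∩ U
              one_mem' := ⟨Or.inl (one_mem _), one_mem _⟩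
              mul_mem' := by
                rintro a b ⟨ha, haU⟩ ⟨hb, hbU⟩
                refine ⟨?_, mul_mem haU hbU⟩
                rcases ha with ha | ha <;> rcases hb with hb | hb
                · exact Or.inl (mul_mem ha hb)
                · exact Or.inr (by rw [mul_assoc]; exact mul_mem ha hb)
                · exact Or.inr (by
                    rw [mul_assoc, hcomm b hbU t htU, ← mul_assoc]; exact mul_mem ha hb)
                · refine Or.inl ?_
                  have h3 := mul_mem ha hb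
                  rwa [hcomm b hbU t htU, mul_assoc a t, ← mul_assoc t t, hU2 t htU, one_mul] at h3
              inv_mem' := by
                rintro a ⟨ha, haU⟩
                rw [inv_eq_of_mul_eq_one_right (hU2 a haU)]
                exact ⟨ha, haU⟩ }
          have hle : H' ≤ W' := sup_le (fun y hy => ⟨Or.inl hy, hWU hy⟩)
            (Subgroup.zpowers_le.2 ⟨Or.inr (by rw [hU2 t htU]; exact one_mem _), htU⟩)
          rcases (hle hv').1 with h | h
          · exact hvW h
          · apply hwW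
            rwa [ht, ← mul_assoc, hU2 v hvU, one_mul] at h
        have hUQ : U ≤ Q t := fun a ha => mem_Q_of_mem L hS hO htU ht1 ha
        obtain ⟨k, hk, hkH, hkv⟩ := L.exists_move (hS t htU ht1)
          (show t ∈ H' from (le_sup_right : Subgroup.zpowers t ≤ H') (Subgroup.mem_zpowers t))
          (hH'U.trans hUQ) (hUQ hvU) hvH'
        refine ⟨k * g, mul_mem (mem_LU hLU htU ht1 hk) hg, fun u hu => ?_⟩
        rcases List.mem_cons.1 hu with rfl | hu
        · rw [show k * g * (u : G) * (k * g)⁻¹ = k * v * k⁻¹ by rw [hv]; group, hkv, ht,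
            ← mul_assoc, hU2 v hvU, one_mul]
        · rw [show k * g * (u : G) * (k * g)⁻¹ = k * (g * (u : G) * g⁻¹) * k⁻¹ by group, hgl u hu,
            (hkH ((φ u : ↥U) : G)
              ((le_sup_left : W ≤ H') ⟨u, hl u hu, rfl⟩)).eq, mul_inv_cancel_right]

lemma LU_acts_trivially (L : LargeExtra Q z) (hS : ∀ u ∈ U, u ≠ 1 → ∃ g : G, g * z * g⁻¹ = u)
    (hO : ∀ u ∈ U, ∀ v ∈ U, u ≠ 1 → v ≠ 1 → v ∈ Q u) {QU LU : Subgroup G}
    (hQU : QU = ⨅ u ∈ ((U : Set G) \ {1}), Q u) (hLU : LU = ⨆ u ∈ ((U : Set G) \ {1}), Q u)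
    {g : G} (hg : g ∈ LU) : ∀ x ∈ QU, g * x * g⁻¹ * x⁻¹ ∈ U := by
  have hUQU : U ≤ QU := fun a ha => (mem_QU hQU).2 fun u hu hu1 => mem_Q_of_mem L hS hO hu hu1 ha
  refine (LU_induction hLU (p := fun g => (∀ v ∈ U, g * v * g⁻¹ ∈ U) ∧
    ∀ x ∈ QU, g * x * g⁻¹ * x⁻¹ ∈ U) ⟨by simp, by simp⟩ ?_ ?_ hg).2
  · rintro a b ⟨haU, ha⟩ ⟨hbU, hb⟩
    refine ⟨fun v hv => by simpa [mul_assoc] using haU _ (hbU v hv), fun x hx => ?_⟩
    have e : a * b * x * (a * b)⁻¹ * x⁻¹
        = (a * (b * x * b⁻¹ * x⁻¹) * a⁻¹) * (a * x * a⁻¹ * x⁻¹) := by group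
    rw [e]
    exact mul_mem (haU _ (hb x hx)) (ha x hx)
  · intro u hu hu1 g hg
    refine ⟨fun v hv => conj_mem_singular L hS hO hu hu1 hg hv, fun x hx => ?_⟩
    have hxu := (mem_QU hQU).1 hx u hu hu1
    rcases L.comm_cases (hS u hu hu1) hg hxu with h | h <;> rw [h]
    · simp
    · rw [(L.commute_of_mem hxu).eq, mul_inv_cancel_right]; exact hu

end LargeExtra

end H99
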