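/-
Systems of transvections: connectivity, subspaces of centres.
-/
import Mathlib

set_option autoImplicit false

namespace H99.Transv

variable {k V V' : Type*} [Field k] [AddCommGroup V] [Module k V] [AddCommGroup V'] [Module k V']

/-- The closure properties of the set of (centre, axis) pairs of the transvections in a group. -/
structure Sys (β : V →ₗ[k] V' →ₗ[k] k) where
  P : V → V' → Prop
  ne : ∀ {v φ}, P v φ → v ≠ 0 ∧ φ ≠ 0 ∧ β v φ = 0
  smulL : ∀ {v φ} {c : k}, P v φ → c ≠ 0 → P (c • v) φ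
  smulR : ∀ {v φ} {c : k}, P v φ → c ≠ 0 → P v (c • φ)
  conj : ∀ {v φ w ψ}, P v φ → P w ψ → P (w + β w φ • v) (ψ - β v ψ • φ)
  addL : ∀ {v w φ}, P v φ → P w φ → v + w ≠ 0 → P (v + w) φ
  addR : ∀ {v φ ψ}, P v φ → P v ψ → φ + ψ ≠ 0 → P v (φ + ψ)
  delta : ∀ {x r χ δ}, P x χ → P (x + r) (χ + δ) → P (x - r) (χ - δ) → β r χ = 0 → β x δ = 0 →
    β r δ = 0 → r ≠ 0 → δ ≠ 0 → P r δ
  partner : ∀ {v φ}, P v φ → ∃ y η, P y η ∧ β y φ ≠ 0 ∧ β v η ≠ 0

variable {β : V →ₗ[k] V' →ₗ[k] k}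

/-- The system with centres and axes exchanged. -/
def Sys.dual (S : Sys β) : Sys β.flip where
  P φ v := S.P v φ
  ne h := ⟨(S.ne h).2.1, (S.ne h).1, (S.ne h).2.2⟩
  smulL h hc := S.smulR h hc
  smulR h hc := S.smulL h hc
  conj {φ v ψ w} h h' := by
    have := S.conj (S.smulL h (neg_ne_zero.2 (one_ne_zero (α := k)))) h'
    simp only [map_smul, LinearMap.smul_apply, neg_smul, one_smul, smul_neg, map_neg,
      LinearMap.neg_apply, sub_neg_eq_add, ← sub_eq_add_neg, neg_mul, one_mul, smul_eq_mul,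
      LinearMap.flip_apply] at this ⊢
    exact this
  addL h h' hne := S.addR h h' hne
  addR h h' hne := S.addL h h' hne
  delta h h1 h2 hr hx hrd hne hne' := S.delta h h1 h2 hx hr hrd hne' hne
  partner h := by
    obtain ⟨y, η, hy, h1, h2⟩ := S.partner h
    exact ⟨η, y, hy, h2, h1⟩

variable (S : Sys β)

lemma Sys.comm {v φ w ψ} (h : S.P v φ) (h' : S.P w ψ) (h0 : β v ψ = 0) (h1 : β w φ ≠ 0) :
    S.P v ψ := by
  have hc := S.conj h h'
  rw [h0, zero_smul, sub_zero] at hc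
  have hs := S.addL hc (S.smulL h' (neg_ne_zero.2 (one_ne_zero (α := k))))
  rw [neg_one_smul, add_neg_cancel_comm, smul_ne_zero_iff] at hs
  have h2 := S.smulL (hs ⟨h1, (S.ne h).1⟩) (inv_ne_zero h1)
  rwa [smul_smul, inv_mul_cancel₀ h1, one_smul] at h2

/-- Two pairs meet non-degenerately. -/
def Sys.Link (p q : V × V') : Prop :=
  S.P p.1 p.2 ∧ S.P q.1 q.2 ∧ β q.1 p.2 ≠ 0 ∧ β p.1 q.2 ≠ 0

lemma Sys.link_symm {p q : V × V'} (h : S.Link p q) : S.Link q p := ⟨h.2.1, h.1, h.2.2.2, h.2.2.1⟩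

/-- Connectivity. -/
def Sys.Conn : V × V' → V × V' → Prop := Relation.ReflTransGen S.Link

lemma Sys.conn_symm {p q : V × V'} (h : S.Conn p q) : S.Conn q p := by
  induction h with
  | refl => exact Relation.ReflTransGen.refl
  | tail _ h ih => exact Relation.ReflTransGen.head (S.link_symm h) ih

lemma Sys.conn_mem {p q : V × V'} (hp : S.P p.1 p.2) (h : S.Conn p q) : S.P q.1 q.2 := by
  rcases Relation.ReflTransGen.cases_tail h with rfl | ⟨_, _, h'⟩
  · exact hp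
  · exact h'.2.1

lemma Sys.conn_single {v φ w ψ} (h : S.P v φ) (h' : S.P w ψ) (a : β w φ ≠ 0) (b : β v ψ ≠ 0) :
    S.Conn (v, φ) (w, ψ) := Relation.ReflTransGen.single ⟨h, h', a, b⟩

lemma Sys.conn_same_centre {v φ ψ} (h : S.P v φ) (h' : S.P v ψ) : S.Conn (v, φ) (v, ψ) := by
  obtain ⟨y₁, η₁, hy₁, a1, b1⟩ := S.partner h
  by_cases c1 : β y₁ ψ ≠ 0
  · exact (S.conn_single h hy₁ a1 b1).trans (S.conn_single hy₁ h' b1 c1)
  push Not at c1
  obtain ⟨y₂, η₂, hy₂, a2, b2⟩ := S.partner h'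
  by_cases c2 : β y₂ φ ≠ 0
  · exact (S.conn_single h hy₂ c2 b2).trans (S.conn_single hy₂ h' b2 a2)
  push Not at c2
  have hne : φ + ψ ≠ 0 := fun h0 => a1 (by simpa [c1] using congrArg (β y₁) h0)
  have h3 := S.addR h h' hne
  exact ((S.conn_single h hy₁ a1 b1).trans (S.conn_single hy₁ h3 b1 (by simpa [c1] using a1))).trans
    ((S.conn_single h3 hy₂ (by simpa [c2] using a2) b2).trans (S.conn_single hy₂ h' b2 a2))

lemma Sys.conn_dual {p q : V × V'} (h : S.Conn p q) : S.dual.Conn (p.2, p.1) (q.2, q.1) := by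
  induction h with
  | refl => exact Relation.ReflTransGen.refl
  | tail _ h ih => exact ih.tail ⟨h.1, h.2.1, h.2.2.2, h.2.2.1⟩

lemma Sys.conn_of_dual {p q : V' × V} (h : S.dual.Conn p q) : S.Conn (p.2, p.1) (q.2, q.1) := by
  induction h with
  | refl => exact Relation.ReflTransGen.refl
  | tail _ h ih => exact ih.tail ⟨h.1, h.2.1, h.2.2.2, h.2.2.1⟩

lemma Sys.conn_same_axis {v w φ} (h : S.P v φ) (h' : S.P w φ) : S.Conn (v, φ) (w, φ) :=
  S.conn_of_dual (S.dual.conn_same_centre h h')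

/-- Pairs that meet at all are connected. -/
lemma Sys.conn_of_cross {v φ w ψ} (h : S.P v φ) (h' : S.P w ψ) (hc : β w φ ≠ 0) :
    S.Conn (v, φ) (w, ψ) := by
  by_cases h0 : β v ψ = 0
  · exact (S.conn_same_centre h (S.comm h h' h0 hc)).trans (S.conn_same_axis (S.comm h h' h0 hc) h')
  · exact S.conn_single h h' hc h0

lemma Sys.conn_conj {v φ w ψ} (h : S.P v φ) (h' : S.P w ψ) :
    S.Conn (w, ψ) (w + β w φ • v, ψ - β v ψ • φ) := by
  by_cases h1 : β w φ = 0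
  · rw [h1, zero_smul, add_zero]
    have := S.conj h h'
    rw [h1, zero_smul, add_zero] at this
    exact S.conn_same_centre h' this
  · refine (S.conn_symm (S.conn_of_cross h h' h1)).trans (S.conn_of_cross h (S.conj h h') ?_)
    rw [map_add, LinearMap.add_apply, map_smul, LinearMap.smul_apply, (S.ne h).2.2, smul_zero,
      add_zero]
    exact h1

/-- The subsystem of one component. -/
def Sys.comp (p : V × V') (hp : S.P p.1 p.2) : Sys β where
  P v φ := S.P v φ ∧ S.Conn p (v, φ)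
  ne h := S.ne h.1
  smulL h hc := ⟨S.smulL h.1 hc, h.2.trans (S.conn_same_axis h.1 (S.smulL h.1 hc))⟩
  smulR h hc := ⟨S.smulR h.1 hc, h.2.trans (S.conn_same_centre h.1 (S.smulR h.1 hc))⟩
  conj h h' := ⟨S.conj h.1 h'.1, h'.2.trans (S.conn_conj h.1 h'.1)⟩
  addL h h' hne := ⟨S.addL h.1 h'.1 hne, h.2.trans (S.conn_same_axis h.1 (S.addL h.1 h'.1 hne))⟩
  addR h h' hne := ⟨S.addR h.1 h'.1 hne, h.2.trans (S.conn_same_centre h.1 (S.addR h.1 h'.1 hne))⟩
  delta {x r χ δ} h h1 h2 hr hx hrd hne hne' := by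
    have hd := S.delta h.1 h1.1 h2.1 hr hx hrd hne hne'
    refine ⟨hd, ?_⟩
    obtain ⟨y, η, hy, a, b⟩ := S.partner hd
    have h3 : S.Conn (r, δ) (y, η) := S.conn_of_cross hd hy a
    by_cases hxη : β x η ≠ 0
    · exact (h.2.trans (S.conn_symm (S.conn_of_cross hy h.1 hxη))).trans (S.conn_symm h3)
    · push Not at hxη
      refine (h1.2.trans (S.conn_symm (S.conn_of_cross hy h1.1 ?_))).trans (S.conn_symm h3)
      rw [map_add, LinearMap.add_apply, hxη, zero_add]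
      exact b
  partner h := by
    obtain ⟨y, η, hy, a, b⟩ := S.partner h.1
    exact ⟨y, η, ⟨hy, h.2.trans (S.conn_of_cross h.1 hy a)⟩, a, b⟩

/-- A system with one component. -/
def Sys.Connected : Prop := ∀ p q : V × V', S.P p.1 p.2 → S.P q.1 q.2 → S.Conn p q

lemma Sys.comp_connected (p : V × V') (hp : S.P p.1 p.2) : (S.comp p hp).Connected := by
  have key : ∀ q, S.Conn p q → (S.comp p hp).Conn p q := by
    intro q hq
    induction hq with
    | refl => exact Relation.ReflTransGen.refl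
    | tail hab h ih => exact ih.tail ⟨⟨h.1, hab⟩, ⟨h.2.1, hab.tail h⟩, h.2.2⟩
  intro a b ha hb
  exact ((S.comp p hp).conn_symm (key a ha.2)).trans (key b hb.2)

lemma Sys.connected_dual (hS : S.Connected) : S.dual.Connected :=
  fun p q hp hq => S.conn_dual (hS (p.2, p.1) (q.2, q.1) hp hq)

/-! ### Distance two -/

/-- A centre meeting both `v` and `w`. -/
def Sys.Two (v w : V) : Prop :=
  ∃ z φ ψ θ, S.P v φ ∧ S.P w ψ ∧ S.P z θ ∧ β z φ ≠ 0 ∧ β z ψ ≠ 0 ∧ β v θ ≠ 0 ∧ β w θ ≠ 0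

lemma Sys.two_symm {v w : V} (h : S.Two v w) : S.Two w v := by
  obtain ⟨z, φ, ψ, θ, h1, h2, h3, a, b, c, d⟩ := h
  exact ⟨z, ψ, φ, θ, h2, h1, h3, b, a, d, c⟩

lemma Sys.line {v φ x χ} (h : S.P v φ) (h' : S.P x χ) (h1 : β x φ ≠ 0) (h2 : β v χ ≠ 0) (a b : k)
    (hab : a ≠ 0 ∨ b ≠ 0) :
    S.P (a • v + b • x) ((a * β v χ) • φ - (b * β x φ) • χ) := by
  by_cases hb : b = 0
  · subst hb
    have ha : a ≠ 0 := hab.resolve_right (by simp)
    simpa using S.smulR (S.smulL h ha) (mul_ne_zero ha h2)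
  by_cases ha : a = 0
  · subst ha
    simpa [neg_smul] using S.smulR (S.smulL h' hb) (neg_ne_zero.2 (mul_ne_zero hb h1))
  have hl : a / (b * β x φ) ≠ 0 := div_ne_zero ha (mul_ne_zero hb h1)
  have e := S.smulR (S.smulL (S.conj (S.smulL h hl) h') hb) (neg_ne_zero.2 (mul_ne_zero hb h1))
  convert e using 1
  · rw [smul_add, smul_smul, smul_smul, mul_assoc b (β x φ), mul_comm (β x φ), ← mul_assoc,
      show b * (a / (b * β x φ)) * β x φ = a by field_simp]
    abel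
  · rw [map_smul, LinearMap.smul_apply, smul_eq_mul, smul_sub, smul_smul, neg_smul, neg_mul, neg_smul]
    rw [show b * β x φ * (a / (b * β x φ) * β v χ) = a * β v χ by field_simp]
    abel

lemma Sys.two_of_link {v φ w ψ} (h : S.P v φ) (h' : S.P w ψ) (h1 : β w φ ≠ 0) (h2 : β v ψ ≠ 0) :
    S.Two v w := by
  have hl := S.line h h' h1 h2 1 1 (Or.inl one_ne_zero)
  refine ⟨_, φ, ψ, _, h, h', hl, ?_, ?_, ?_, ?_⟩
  · simpa [(S.ne h).2.2] using h1
  · simpa [(S.ne h').2.2] using h2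
  · simp [(S.ne h).2.2, h1, h2]
  · simp [(S.ne h').2.2, h1, h2]

lemma Sys.two_of_cross {v φ w ψ} (h : S.P v φ) (h' : S.P w ψ) (h1 : β w φ ≠ 0) : S.Two v w := by
  by_cases h2 : β v ψ = 0
  swap
  · exact S.two_of_link h h' h1 h2
  have hs := S.comm h h' h2 h1
  obtain ⟨y, η, hy, a, b⟩ := S.partner hs
  by_cases hw : β w η = 0
  swap
  · exact ⟨y, ψ, ψ, η, hs, h', hy, a, a, b, hw⟩
  have hr := S.conj h hy
  refine ⟨_, ψ, ψ, _, hs, h', hr, ?_, ?_, ?_, ?_⟩
  · simpa [h2] using a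
  · simpa [h2] using a
  · simpa [(S.ne h).2.2] using b
  · simp [hw, b, h1]

lemma Sys.merge {a : V} {θ θ' : V'} (h : S.P a θ) (h' : S.P a θ') {v b : V} (hv : β v θ ≠ 0)
    (hb : β b θ' ≠ 0) : ∃ χ, S.P a χ ∧ β v χ ≠ 0 ∧ β b χ ≠ 0 := by
  by_cases h1 : β b θ = 0
  swap
  · exact ⟨θ, h, hv, h1⟩
  by_cases h2 : β v θ' = 0
  swap
  · exact ⟨θ', h', h2, hb⟩
  exact ⟨θ + θ', S.addR h h' fun h0 => hv (by simpa [h2] using congrArg (β v) h0),
    by simpa [h2] using hv, by simpa [h1] using hb⟩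

lemma Sys.two_half (h2 : (2 : k) ≠ 0) {v φ a θa b θb w ψ} (hv : S.P v φ) (ha : S.P a θa)
    (hb : S.P b θb) (hw : S.P w ψ) (va : β a φ ≠ 0) (av : β v θa ≠ 0) (ab : β b θa ≠ 0)
    (ba : β a θb ≠ 0) (bw : β w θb ≠ 0) (wb : β b ψ ≠ 0)
    (hcase : (β b φ ≠ 0 ∧ β v θb = 0) ∨ (β b φ = 0 ∧ β v θb ≠ 0)) : S.Two v w := by
  rcases hcase with ⟨c1, c2⟩ | ⟨c1, c2⟩
  · exact S.two_of_cross (S.comm hv hb c2 c1) hw bw
  · have hbφ : S.P b φ := S.comm hb hv c1 c2
    by_cases c3 : β w φ = 0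
    swap
    · exact S.two_of_cross hv hw c3
    have hwφ : S.P w φ := S.comm hw hbφ c3 wb
    by_cases c4 : β w θa = 0
    swap
    · exact ⟨a, φ, φ, θa, hv, hwφ, ha, va, va, av, c4⟩
    obtain ⟨μ, hμ, hμ'⟩ : ∃ μ : k, μ ≠ 0 ∧ β v θb - μ * (β a θb * β v θa) ≠ 0 := by
      by_cases h0 : β v θb - 1 * (β a θb * β v θa) = 0
      · refine ⟨-1, by simp, fun h1 => c2 ?_⟩
        have : (2 : k) * β v θb = 0 := by linear_combination h0 + h1
        exact (mul_eq_zero.1 this).resolve_left h2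
      · exact ⟨1, one_ne_zero, h0⟩
    have hr := S.conj (S.smulL ha hμ) hb
    refine ⟨_, φ, φ, _, hv, hwφ, hr, ?_, ?_, ?_, ?_⟩
    · simp [c1, hμ, ab, va]
    · simp [c1, hμ, ab, va]
    · simpa [mul_assoc] using hμ'
    · simpa [c4] using bw

lemma Sys.two_three (h2 : (2 : k) ≠ 0) {v φ a θa b θb w ψ} (hv : S.P v φ) (ha : S.P a θa)
    (hb : S.P b θb) (hw : S.P w ψ) (va : β a φ ≠ 0) (av : β v θa ≠ 0) (ab : β b θa ≠ 0)
    (ba : β a θb ≠ 0) (bw : β w θb ≠ 0) (wb : β b ψ ≠ 0) : S.Two v w := by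
  by_cases c1 : β b φ = 0 <;> by_cases c2 : β v θb = 0
  · by_cases d1 : β a ψ = 0 <;> by_cases d2 : β w θa = 0
    · have hl := S.line ha hb ab ba 1 1 (Or.inl one_ne_zero)
      refine ⟨_, φ, ψ, _, hv, hw, hl, ?_, ?_, ?_, ?_⟩
      · simpa [c1] using va
      · simpa [d1] using wb
      · simp [c2, ab, ba, av]
      · simp [d2, ab, ba, bw]
    · exact S.two_symm (S.two_half h2 hw hb ha hv wb bw ba ab av va (Or.inr ⟨d1, d2⟩))
    · exact S.two_symm (S.two_half h2 hw hb ha hv wb bw ba ab av va (Or.inl ⟨d1, d2⟩))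
    · exact ⟨a, φ, ψ, θa, hv, hw, ha, va, d1, av, d2⟩
  · exact S.two_half h2 hv ha hb hw va av ab ba bw wb (Or.inr ⟨c1, c2⟩)
  · exact S.two_half h2 hv ha hb hw va av ab ba bw wb (Or.inl ⟨c1, c2⟩)
  · exact ⟨b, φ, ψ, θb, hv, hw, hb, c1, wb, c2, bw⟩

lemma Sys.two_extend (h2 : (2 : k) ≠ 0) {v b θ w ψ} (h : S.Two v b) (hb : S.P b θ) (hw : S.P w ψ)
    (bw : β w θ ≠ 0) (wb : β b ψ ≠ 0) : S.Two v w := by
  obtain ⟨a, φ, θ₀, θa, hv, hb₀, ha, va, ab, av, ba⟩ := h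
  obtain ⟨θb, hθb, k1, k2⟩ := S.merge hb₀ hb ab bw
  exact S.two_three h2 hv ha hθb hw va av ba k1 k2 wb

lemma Sys.two_all (h2 : (2 : k) ≠ 0) (hS : S.Connected) {v φ w ψ} (h : S.P v φ) (h' : S.P w ψ) :
    S.Two v w := by
  suffices ∀ q : V × V', S.Conn (v, φ) q → S.Two v q.1 from this (w, ψ) (hS (v, φ) (w, ψ) h h')
  intro q hq
  induction hq with
  | refl =>
    obtain ⟨y, η, hy, a, b⟩ := S.partner h
    exact ⟨y, φ, φ, η, h, h, hy, a, a, b, b⟩
  | tail _ hl ih => exact S.two_extend h2 ih hl.1 hl.2.1 hl.2.2.1 hl.2.2.2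

/-- The centres of a connected system are closed under addition. -/
lemma Sys.centre_add (h2 : (2 : k) ≠ 0) {v w : V} (h : S.Two v w) (hne : v + w ≠ 0) :
    ∃ η, S.P (v + w) η := by
  obtain ⟨x, φ, ψ, χ, hv, hw, hx, xv, xw, vx, wx⟩ := h
  by_cases c1 : β w φ = 0
  swap
  · by_cases c2 : β v ψ = 0
    swap
    · exact ⟨_, by simpa using S.line hv hw c1 c2 1 1 (Or.inl one_ne_zero)⟩
    · have hc := S.conj (S.smulL hv (inv_ne_zero c1)) hw
      rw [smul_smul, mul_inv_cancel₀ c1, one_smul, add_comm] at hc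
      exact ⟨_, hc⟩
  by_cases c2 : β v ψ = 0
  swap
  · have hc := S.conj (S.smulL hw (inv_ne_zero c2)) hv
    rw [smul_smul, mul_inv_cancel₀ c2, one_smul] at hc
    exact ⟨_, hc⟩
  -- normalise
  have hφ := S.smulR hv (inv_ne_zero xv)
  set φ' := (β x φ)⁻¹ • φ with hφd
  have xv' : β x φ' = 1 := by simp [hφd, inv_mul_cancel₀ xv]
  have hψ := S.smulR hw (inv_ne_zero xw)
  set ψ' := (β x ψ)⁻¹ • ψ with hψd
  have xw' : β x ψ' = 1 := by simp [hψd, inv_mul_cancel₀ xw]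
  have c1' : β w φ' = 0 := by simp [hφd, c1]
  have c2' : β v ψ' = 0 := by simp [hψd, c2]
  have vv := (S.ne hφ).2.2
  have ww := (S.ne hψ).2.2
  have xx := (S.ne hx).2.2
  by_cases c : β v χ + β w χ = 0
  · have wv : β w χ = - β v χ := by linear_combination c
    have key : ∀ t : k, t ≠ 0 → S.P (x + t • (v + w)) (χ + (t * β v χ) • (ψ' - φ')) := by
      intro t ht
      have h1 := S.conj (S.smulL hφ ht) hx
      have h1' := S.conj (S.smulL hψ ht) h1
      convert h1' using 1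
      · simp [xv', xw', c2']
        module
      · simp [c1', c2', xw', wv, xv']
        module
    have h1 := key 1 one_ne_zero
    have h1' := key (-1) (by simp)
    rw [one_smul, one_mul] at h1
    rw [neg_one_smul, ← sub_eq_add_neg, neg_one_mul, neg_smul, ← sub_eq_add_neg] at h1'
    by_cases hd : ψ' - φ' = 0
    · rw [sub_eq_zero] at hd
      exact ⟨φ', S.addL hφ (hd ▸ hψ) hne⟩
    · refine ⟨_, S.delta hx h1 h1' ?_ ?_ ?_ hne (smul_ne_zero vx hd)⟩
      · simp [c]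
      · simp [xv', xw']
      · simp [vv, ww, c1', c2']
  · have hP := hx
    have hz := S.line hφ hx (by rw [xv']; exact one_ne_zero) vx 1 1 (Or.inl one_ne_zero)
    rw [one_smul, one_smul, one_mul, one_mul, xv', one_smul] at hz
    have hz1 : β w (β v χ • φ' - χ) ≠ 0 := by simpa [c1'] using wx
    have hz2 : β (v + x) ψ' ≠ 0 := by simp [c2', xw']
    have hQ := S.line hz hψ hz1 hz2 1 1 (Or.inl one_ne_zero)
    rw [one_smul, one_smul, one_mul, one_mul] at hQ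
    have a1 : β (v + x + w) χ ≠ 0 := by simpa [xx] using c
    have a2 : β x (β (v + x) ψ' • (β v χ • φ' - χ) - β w (β v χ • φ' - χ) • ψ') ≠ 0 := by
      simpa [c2', xw', xv', xx, c1'] using c
    have := S.line hx hQ a1 a2 (-1) 1 (Or.inr one_ne_zero)
    rw [neg_one_smul, one_smul, show -x + (v + x + w) = v + w by abel] at this
    exact ⟨_, this⟩

/-- The centres of a connected system, with zero. -/
def Sys.centres (h2 : (2 : k) ≠ 0) (hS : S.Connected) : Submodule k V where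
  carrier := {v | v = 0 ∨ ∃ φ, S.P v φ}
  zero_mem' := Or.inl rfl
  add_mem' {v w} hv hw := by
    rcases hv with rfl | ⟨φ, hφ⟩
    · rwa [zero_add]
    rcases hw with rfl | ⟨ψ, hψ⟩
    · rw [add_zero]; exact Or.inr ⟨φ, hφ⟩
    by_cases h : v + w = 0
    · exact Or.inl h
    · exact Or.inr (S.centre_add h2 (S.two_all h2 hS hφ hψ) h)
  smul_mem' c v hv := by
    rcases hv with rfl | ⟨φ, hφ⟩
    · exact Or.inl (smul_zero c)
    by_cases hc : c = 0
    · exact Or.inl (by rw [hc, zero_smul])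
    · exact Or.inr ⟨φ, S.smulL hφ hc⟩

/-- The axes of a connected system, with zero. -/
def Sys.axes (h2 : (2 : k) ≠ 0) (hS : S.Connected) : Submodule k V' :=
  S.dual.centres h2 (S.connected_dual hS)

lemma Sys.mem_centres {h2 : (2 : k) ≠ 0} {hS : S.Connected} {v : V} :
    v ∈ S.centres h2 hS ↔ v = 0 ∨ ∃ φ, S.P v φ := Iff.rfl

lemma Sys.mem_axes {h2 : (2 : k) ≠ 0} {hS : S.Connected} {φ : V'} :
    φ ∈ S.axes h2 hS ↔ φ = 0 ∨ ∃ v, S.P v φ := Iff.rfl

end H99.Transv
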