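/-
The transvection pairs of a group of linear automorphisms over a prime field.
-/
import Cfsg.Prelude.Def_Solvable
import Cfsg.Agent.H99.TransvSys
import Cfsg.Agent.H65.BaerSuzuki
import Cfsg.Agent.H1.Cores

set_option autoImplicit false

namespace H99.Transv

variable {p : ℕ} [Fact p.Prime] {V : Type*} [AddCommGroup V] [Module (ZMod p) V]

lemma tv_ext {φ ψ : Module.Dual (ZMod p) V} {v w : V} (h : φ v = 0) (h' : ψ w = 0)
    (he : ∀ x, φ x • v = ψ x • w) : LinearEquiv.transvection h = LinearEquiv.transvection h' :=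
  LinearEquiv.ext fun x => by
    simp only [LinearEquiv.transvection.apply, he]

lemma tv_conj_eq (g : V ≃ₗ[ZMod p] V) {φ : Module.Dual (ZMod p) V} {v : V} (h : φ v = 0) :
    g * LinearEquiv.transvection h * g⁻¹ =
      LinearEquiv.transvection (f := φ ∘ₗ (g.symm : V →ₗ[ZMod p] V)) (v := g v) (by simp [h]) := by
  refine LinearEquiv.ext fun x => ?_
  show g (LinearEquiv.transvection h (g.symm x)) = x + φ (g.symm x) • g v
  rw [LinearEquiv.transvection.apply, map_add, map_smul, g.apply_symm_apply]

lemma tv_symm_apply {φ : Module.Dual (ZMod p) V} {v : V} (h : φ v = 0) (x : V) :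
    (LinearEquiv.transvection h).symm x = x - φ x • v := by
  show x + φ x • (-v) = _
  rw [smul_neg, sub_eq_add_neg]

/-- An element which fixes `v`, moves `w` along `v` and everything along `v, w`. -/
def flagGroup [Finite V] (v w : V) : Subgroup (V ≃ₗ[ZMod p] V) where
  carrier := {g | g v = v ∧ g w - w ∈ Submodule.span (ZMod p) {v} ∧
    ∀ x, g x - x ∈ Submodule.span (ZMod p) {v, w}}
  one_mem' := ⟨rfl, by simp, fun x => by simp⟩
  mul_mem' {g h} hg hh := by
    have hspan : ∀ y ∈ Submodule.span (ZMod p) {v, w}, g y ∈ Submodule.span (ZMod p) {v, w} :=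
      fun y hy => by simpa using add_mem (hg.2.2 y) hy
    refine ⟨by show g (h v) = v; rw [hh.1, hg.1], ?_, fun x => ?_⟩
    · obtain ⟨c, hc⟩ := Submodule.mem_span_singleton.1 hh.2.1
      show g (h w) - w ∈ _
      rw [show h w = c • v + w by rw [hc]; abel, map_add, map_smul, hg.1,
        show c • v + g w - w = c • v + (g w - w) by abel]
      exact add_mem (Submodule.smul_mem _ _ (Submodule.mem_span_singleton_self v)) hg.2.1
    · show g (h x) - x ∈ _
      rw [show g (h x) - x = (g (h x) - h x) + (h x - x) by abel]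
      exact add_mem (hg.2.2 _) (hh.2.2 x)
  inv_mem' {g} hg := by
    have h1 : g.symm v = v := by rw [g.symm_apply_eq, hg.1]
    have h2 : g.symm w - w ∈ Submodule.span (ZMod p) {v} := by
      obtain ⟨c, hc⟩ := Submodule.mem_span_singleton.1 hg.2.1
      have e : g.symm w = w - c • v := by
        rw [g.symm_apply_eq, map_sub, map_smul, hg.1, hc]; abel
      rw [e, show w - c • v - w = -(c • v) by abel]
      exact neg_mem (Submodule.smul_mem _ _ (Submodule.mem_span_singleton_self v))
    refine ⟨h1, h2, fun x => ?_⟩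
    show g.symm x - x ∈ _
    have := hg.2.2 (g.symm x)
    rw [g.apply_symm_apply] at this
    rw [← neg_sub]
    exact neg_mem this

lemma flagGroup_isPGroup [Finite V] (hp : Odd p) (v w : V) :
    IsPGroup p ↥(flagGroup (p := p) v w) := by
  rintro ⟨g, hg⟩
  refine ⟨1, Subtype.ext ?_⟩
  rw [pow_one]
  push_cast
  set N : V →ₗ[ZMod p] V := (g : V →ₗ[ZMod p] V) - LinearMap.id with hN
  have hgN : ∀ x, g x = x + N x := fun x => by simp [hN]
  have hNv : N v = 0 := by simp [hN, hg.1]
  have hNw : N (N w) = 0 := by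
    obtain ⟨c, hc⟩ := Submodule.mem_span_singleton.1 hg.2.1
    rw [show N w = c • v by simp [hN, hc], map_smul, hNv, smul_zero]
  have hN3 : ∀ x, N (N (N x)) = 0 := fun x => by
    obtain ⟨a, b, hab⟩ := Submodule.mem_span_pair.1 (hg.2.2 x)
    rw [show N x = a • v + b • w by simp [hN, hab], map_add, map_smul, map_smul, hNv, smul_zero,
      zero_add, map_smul, hNw, smul_zero]
  have hpow : ∀ m : ℕ, ∀ x, (g ^ m) x =
      x + (m : ZMod p) • N x + ((m.choose 2 : ℕ) : ZMod p) • N (N x) := by
    intro m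
    induction m with
    | zero => intro x; simp
    | succ m ih =>
      intro x
      rw [pow_succ', LinearEquiv.mul_apply, hgN, ih]
      simp only [map_add, map_smul, hN3, smul_zero, add_zero, Nat.choose_succ_succ', Nat.choose_one_right,
        Nat.cast_add, Nat.cast_one, add_smul, one_smul]
      abel
  refine LinearEquiv.ext fun x => ?_
  have hp2 : p ∣ p.choose 2 := by
    refine Nat.Prime.dvd_choose_self Fact.out two_ne_zero ?_
    have h2 := (Fact.out : p.Prime).two_le
    rcases hp with ⟨r, hr⟩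
    omega
  rw [hpow, ZMod.natCast_self, (ZMod.natCast_eq_zero_iff _ _).2 hp2] at *
  simp

variable (H : Subgroup (V ≃ₗ[ZMod p] V))

/-- The pairs of the transvections in `H`. -/
def IsPair (v : V) (φ : Module.Dual (ZMod p) V) : Prop :=
  v ≠ 0 ∧ φ ≠ 0 ∧ ∃ h : φ v = 0, LinearEquiv.transvection h ∈ H

lemma pair_of_tv {v : V} {φ : Module.Dual (ZMod p) V} (h : φ v = 0) (hmem : LinearEquiv.transvection h ∈ H)
    (hv : v ≠ 0) (hφ : φ ≠ 0) : IsPair H v φ := ⟨hv, hφ, h, hmem⟩

lemma tv_nsmul {v : V} {φ : Module.Dual (ZMod p) V} (h : φ v = 0) (n : ℕ) :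
    (LinearEquiv.transvection h) ^ n =
      LinearEquiv.transvection (f := φ) (v := (n : ZMod p) • v) (by rw [map_smul, h, smul_zero]) := by
  induction n with
  | zero => refine LinearEquiv.ext fun x => ?_; simp [LinearEquiv.transvection.apply]
  | succ n ih =>
    refine LinearEquiv.ext fun x => ?_
    rw [pow_succ, LinearEquiv.mul_apply, ih]
    simp only [LinearEquiv.transvection.apply, map_add, map_smul, h, smul_zero, zero_smul, add_zero, Nat.cast_succ,
      add_smul, one_smul, smul_add]
    abel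

lemma exists_partner [Finite V] (hp : Odd p) (hOp : Cfsg.pCore p ↥H = ⊥) {v : V}
    {φ : Module.Dual (ZMod p) V} (hP : IsPair H v φ) :
    ∃ y η, IsPair H y η ∧ φ y ≠ 0 ∧ η v ≠ 0 := by
  obtain ⟨hv, hφ, h, hmem⟩ := hP
  by_contra! hall
  haveI : Finite (V ≃ₗ[ZMod p] V) := Finite.of_injective (fun g => (g : V → V)) DFunLike.coe_injective
  haveI : Finite ↥H := inferInstance
  have hin : (⟨_, hmem⟩ : ↥H) ∈ Cfsg.pCore p ↥H := by
    refine H65.mem_pCore_of_pairs fun g => ?_
    let w := (g : V ≃ₗ[ZMod p] V) v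
    let ψ : Module.Dual (ZMod p) V :=
      φ ∘ₗ ((g : V ≃ₗ[ZMod p] V).symm : V →ₗ[ZMod p] V)
    have hψw : ψ w = 0 := by simp [ψ, w, h]
    have hu : (g : V ≃ₗ[ZMod p] V) * LinearEquiv.transvection h * (g : V ≃ₗ[ZMod p] V)⁻¹ =
        LinearEquiv.transvection hψw := tv_conj_eq _ h
    have hw : IsPair H w ψ := by
      refine ⟨by simpa [w] using hv, fun h0 => hφ (LinearMap.ext fun x => ?_), hψw, ?_⟩
      · simpa [ψ] using LinearMap.congr_fun h0 ((g : V ≃ₗ[ZMod p] V) x)
      · rw [← hu]; exact mul_mem (mul_mem g.2 hmem) (inv_mem g.2)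
    have mem : ∀ (a : V) (α : Module.Dual (ZMod p) V) (ha : α a = 0) (b : V) (γ : Module.Dual (ZMod p) V)
        (hb : γ b = 0), γ a = 0 → LinearEquiv.transvection ha ∈ flagGroup a b ∧
          LinearEquiv.transvection hb ∈ flagGroup a b := by
      intro a α ha b γ hb h0
      refine ⟨⟨by simp [LinearMap.transvection.apply, ha], ?_, fun x => ?_⟩,
        ⟨by simp [LinearMap.transvection.apply, h0], ?_, fun x => ?_⟩⟩ <;>
        simp only [LinearEquiv.transvection.apply, add_sub_cancel_left]
      · exact Submodule.smul_mem _ _ (Submodule.mem_span_singleton_self a)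
      · exact Submodule.smul_mem _ _ (Submodule.subset_span (by simp))
      · rw [hb, zero_smul]; exact zero_mem _
      · exact Submodule.smul_mem _ _ (Submodule.subset_span (by simp))
    obtain ⟨a, b, m1, m2⟩ : ∃ a b : V, LinearEquiv.transvection h ∈ flagGroup a b ∧
        LinearEquiv.transvection hψw ∈ flagGroup a b := by
      by_cases h0 : φ w = 0
      · exact ⟨w, v, (mem w ψ hψw v φ h h0).2, (mem w ψ hψw v φ h h0).1⟩
      · exact ⟨v, w, mem v φ h w ψ hψw (hall w ψ hw h0)⟩
    have hle : Subgroup.closure ({(⟨_, hmem⟩ : ↥H), g * ⟨_, hmem⟩ * g⁻¹} : Set ↥H) ≤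
        (flagGroup a b).subgroupOf H := by
      rw [Subgroup.closure_le]
      rintro x (rfl | rfl)
      · exact m1
      · show (g : V ≃ₗ[ZMod p] V) * LinearEquiv.transvection h * (g : V ≃ₗ[ZMod p] V)⁻¹ ∈ flagGroup a b
        rw [hu]; exact m2
    exact ((flagGroup_isPGroup hp a b).comap_of_injective H.subtype Subtype.coe_injective).to_le hle
  rw [hOp, Subgroup.mem_bot, Subtype.ext_iff] at hin
  obtain ⟨x, hx⟩ : ∃ x, φ x ≠ 0 := by
    by_contra! h0; exact hφ (LinearMap.ext h0)
  have := LinearEquiv.congr_fun hin x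
  simp [LinearMap.transvection.apply, hx, hv] at this

/-- The transvection system of `H`. -/
def groupSys [Finite V] (hp : Odd p) (hOp : Cfsg.pCore p ↥H = ⊥) :
    Sys (Module.Dual.eval (ZMod p) V) where
  P := IsPair H
  ne := fun ⟨h1, h2, h3, _⟩ => ⟨h1, h2, h3⟩
  smulL {v φ c} hP hc := by
    obtain ⟨hv, hφ, h, hmem⟩ := hP
    refine ⟨smul_ne_zero hc hv, hφ, by rw [map_smul, h, smul_zero], ?_⟩
    convert pow_mem hmem c.val using 1
    rw [tv_nsmul h]
    exact tv_ext _ _ fun x => by rw [ZMod.natCast_zmod_val]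
  smulR {v φ c} hP hc := by
    obtain ⟨hv, hφ, h, hmem⟩ := hP
    refine ⟨hv, smul_ne_zero hc hφ, by simp [h], ?_⟩
    convert pow_mem hmem c.val using 1
    rw [tv_nsmul h]
    exact tv_ext _ _ fun x => by
      rw [ZMod.natCast_zmod_val, LinearMap.smul_apply, smul_eq_mul, smul_smul, mul_comm]
  conj {v φ w ψ} hP hQ := by
    obtain ⟨hv, hφ, h, hmem⟩ := hP
    obtain ⟨hw, hψ, h', hmem'⟩ := hQ
    have hc := tv_conj_eq (LinearEquiv.transvection h) h'
    have e : ψ ∘ₗ ((LinearEquiv.transvection h).symm : V →ₗ[ZMod p] V) = ψ - ψ v • φ :=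
      LinearMap.ext fun x => by
        simp only [LinearMap.comp_apply, LinearEquiv.coe_coe, tv_symm_apply, map_sub, map_smul,
          LinearMap.sub_apply, LinearMap.smul_apply, smul_eq_mul]
        ring
    refine ⟨fun h0 => hw ?_, fun h0 => hψ ?_, ?_, ?_⟩
    · have : LinearEquiv.transvection h w = 0 := h0
      exact (LinearEquiv.map_eq_zero_iff _).1 this
    · refine LinearMap.ext fun x => ?_
      have := LinearMap.congr_fun (e.trans h0) (LinearEquiv.transvection h x)
      simp only [LinearMap.comp_apply, LinearEquiv.coe_coe, LinearEquiv.symm_apply_apply] at this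
      exact this
    · simp [h, h']; ring
    · have := mul_mem (mul_mem hmem hmem') (inv_mem hmem)
      rw [hc] at this
      convert this using 2
      all_goals first | rfl | exact e.symm
  addL {v w φ} hP hQ hne := by
    obtain ⟨hv, hφ, h, hmem⟩ := hP
    obtain ⟨-, -, h', hmem'⟩ := hQ
    refine ⟨hne, hφ, by simp [h, h'], ?_⟩
    convert mul_mem hmem hmem' using 1
    refine LinearEquiv.ext fun x => ?_
    simp only [LinearEquiv.mul_apply, LinearEquiv.transvection.apply, map_add, map_smul, h', smul_zero,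
      zero_smul, add_zero, smul_add]
    abel
  addR {v φ ψ} hP hQ hne := by
    obtain ⟨hv, hφ, h, hmem⟩ := hP
    obtain ⟨-, -, h', hmem'⟩ := hQ
    refine ⟨hv, hne, by simp [h, h'], ?_⟩
    convert mul_mem hmem hmem' using 1
    refine LinearEquiv.ext fun x => ?_
    simp only [LinearEquiv.mul_apply, LinearEquiv.transvection.apply, map_add, map_smul, h, smul_zero,
      zero_smul, add_zero, LinearMap.add_apply, add_smul]
    abel
  delta {x r χ δ} hx h1 h2 hrχ hxδ hrδ hr hδ := by
    obtain ⟨-, -, h, hmem⟩ := hx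
    obtain ⟨-, -, h', hmem'⟩ := h1
    obtain ⟨-, -, h'', hmem''⟩ := h2
    simp only [Module.Dual.eval_apply] at hrχ hxδ hrδ
    have hdr : δ ((2 : ZMod p) • r) = 0 := by rw [map_smul, hrδ, smul_zero]
    have key : LinearEquiv.transvection hdr =
        LinearEquiv.transvection h' * LinearEquiv.transvection h'' *
          (LinearEquiv.transvection h)⁻¹ * (LinearEquiv.transvection h)⁻¹ := by
      refine LinearEquiv.ext fun y => ?_
      simp only [LinearEquiv.mul_apply, LinearEquiv.coe_inv, tv_symm_apply,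
        LinearEquiv.transvection.apply, map_add, map_sub, map_smul, LinearMap.add_apply,
        LinearMap.sub_apply, h, hrχ, hxδ, hrδ, smul_eq_mul, mul_zero, sub_zero, add_zero, zero_sub,
        neg_zero]
      module
    refine ⟨hr, hδ, hrδ, ?_⟩
    have hd : LinearEquiv.transvection hdr ∈ H :=
      key ▸ mul_mem (mul_mem (mul_mem hmem' hmem'') (inv_mem hmem)) (inv_mem hmem)
    have h2ne : (2 : ZMod p) ≠ 0 := by
      intro h0
      have := (ZMod.natCast_eq_zero_iff 2 p).1 (by exact_mod_cast h0)
      have h3 := Nat.le_of_dvd (by norm_num) this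
      rcases hp with ⟨m, hm⟩
      have := (Fact.out : p.Prime).two_le
      omega
    convert pow_mem hd ((2 : ZMod p)⁻¹).val using 1
    rw [tv_nsmul hdr]
    exact tv_ext _ _ fun y => by
      rw [ZMod.natCast_zmod_val, smul_smul (2 : ZMod p)⁻¹, inv_mul_cancel₀ h2ne, one_smul]
  partner h := by
    obtain ⟨y, η, hy, a, b⟩ := exists_partner H hp hOp h
    exact ⟨y, η, hy, a, b⟩

/-- An element of order `p` fixing a hyperplane pointwise is a transvection. -/
lemma exists_pair_of_mem [Finite V] {t : V ≃ₗ[ZMod p] V} (htH : t ∈ H) (ho : orderOf t = p)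
    (hk : Module.finrank (ZMod p) ↥(LinearMap.ker ((t : V →ₗ[ZMod p] V) - LinearMap.id)) + 1 =
      Module.finrank (ZMod p) V) :
    ∃ v φ, ∃ h : φ v = 0, IsPair H v φ ∧ t = LinearEquiv.transvection h := by
  haveI : Module.Finite (ZMod p) V := Module.Finite.of_finite
  set N : V →ₗ[ZMod p] V := (t : V →ₗ[ZMod p] V) - LinearMap.id with hN
  have h1 : Module.finrank (ZMod p) ↥(LinearMap.range N) = 1 := by
    have := LinearMap.finrank_range_add_finrank_ker N
    omega
  obtain ⟨⟨v, hvr⟩, hv0, hspan⟩ := finrank_eq_one_iff'.1 h1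
  have hv : v ≠ 0 := fun h0 => hv0 (Subtype.ext h0)
  choose c hc using fun x => hspan ⟨N x, LinearMap.mem_range_self N x⟩
  have hc' : ∀ x, c x • v = N x := fun x => congrArg Subtype.val (hc x)
  let φ : Module.Dual (ZMod p) V :=
    { toFun := c
      map_add' := fun a b => smul_left_injective (ZMod p) hv (by simp [hc', add_smul])
      map_smul' := fun a b => smul_left_injective (ZMod p) hv (by
        simp only [hc', RingHom.id_apply, smul_eq_mul, map_smul, ← smul_smul]) }
  have hφ : ∀ x, t x = x + φ x • v := fun x => by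
    show t x = x + c x • v
    rw [hc']; simp [hN]
  have hφv : φ v = 0 := by
    have hpow : ∀ m : ℕ, (t ^ m) v = (1 + φ v) ^ m • v := by
      intro m
      induction m with
      | zero => simp
      | succ m ih =>
        rw [pow_succ', LinearEquiv.mul_apply, ih, map_smul, hφ v, pow_succ, ← smul_smul, add_smul,
          one_smul]
    have h2 := hpow p
    have hp1 : t ^ p = 1 := orderOf_dvd_iff_pow_eq_one.1 ho.dvd
    rw [hp1, ZMod.pow_card] at h2
    have := smul_left_injective (ZMod p) hv (show (1 : ZMod p) • v = (1 + φ v) • v by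
      rw [one_smul]; exact h2)
    simpa using this
  refine ⟨v, φ, hφv, ⟨hv, fun h0 => ?_, hφv, ?_⟩, LinearEquiv.ext fun x => hφ x⟩
  · have : t = 1 := LinearEquiv.ext fun x => by rw [hφ, h0]; simp
    rw [this, orderOf_one] at ho
    exact (Fact.out : p.Prime).ne_one ho.symm
  · have : t = LinearEquiv.transvection hφv := LinearEquiv.ext fun x => hφ x
    rwa [← this]

end H99.Transv
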