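/-
Both types of extraspecial 2-groups, given by a bilinear cocycle, and their 2-ranks.
-/
import Cfsg.Prelude.Def_Transfer
import Cfsg.Agent.H30.Extraspecial
import Cfsg.Agent.H6.Basic

set_option autoImplicit false

namespace H99.ExtraTwo

open scoped commutatorElement

/-- The pairs carried by the cocycle with twist data `e`. -/
@[ext] structure Mdl (n : ℕ) (e : Fin n → ZMod 2) where
  vec : Fin n → ZMod 2 × ZMod 2
  cen : ZMod 2

variable {n : ℕ} {e : Fin n → ZMod 2}

/-- The bilinear cocycle. -/
def beta (e : Fin n → ZMod 2) (u v : Fin n → ZMod 2 × ZMod 2) : ZMod 2 :=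
  ∑ i, ((u i).1 * (v i).2 + e i * ((u i).1 * (v i).1 + (u i).2 * (v i).2))

lemma beta_add_left (u u' v : Fin n → ZMod 2 × ZMod 2) :
    beta e (u + u') v = beta e u v + beta e u' v := by
  simp only [beta, ← Finset.sum_add_distrib, Pi.add_apply, Prod.fst_add, Prod.snd_add]
  exact Finset.sum_congr rfl fun i _ => by ring

lemma beta_add_right (u v v' : Fin n → ZMod 2 × ZMod 2) :
    beta e u (v + v') = beta e u v + beta e u v' := by
  simp only [beta, ← Finset.sum_add_distrib, Pi.add_apply, Prod.fst_add, Prod.snd_add]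
  exact Finset.sum_congr rfl fun i _ => by ring

lemma beta_zero_left (v : Fin n → ZMod 2 × ZMod 2) : beta e 0 v = 0 := by simp [beta]

lemma beta_zero_right (v : Fin n → ZMod 2 × ZMod 2) : beta e v 0 = 0 := by simp [beta]

lemma add_self_vec (u : Fin n → ZMod 2 × ZMod 2) : u + u = 0 := by
  funext i
  exact Prod.ext (CharTwo.add_self_eq_zero _) (CharTwo.add_self_eq_zero _)

instance mdlMul : Mul (Mdl n e) := ⟨fun g h => ⟨g.vec + h.vec, g.cen + h.cen + beta e g.vec h.vec⟩⟩
instance mdlOne : One (Mdl n e) := ⟨⟨0, 0⟩⟩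
instance mdlInv : Inv (Mdl n e) := ⟨fun g => ⟨g.vec, g.cen + beta e g.vec g.vec⟩⟩

@[simp] lemma mul_vec (g h : Mdl n e) : (g * h).vec = g.vec + h.vec := rfl
@[simp] lemma mul_cen (g h : Mdl n e) : (g * h).cen = g.cen + h.cen + beta e g.vec h.vec := rfl
@[simp] lemma one_vec : (1 : Mdl n e).vec = 0 := rfl
@[simp] lemma one_cen : (1 : Mdl n e).cen = 0 := rfl
@[simp] lemma inv_vec (g : Mdl n e) : (g⁻¹).vec = g.vec := rfl
@[simp] lemma inv_cen (g : Mdl n e) : (g⁻¹).cen = g.cen + beta e g.vec g.vec := rfl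

instance mdlGroup : Group (Mdl n e) where
  mul_assoc g h k := by
    ext : 1
    · simp [add_assoc]
    · simp only [mul_cen, mul_vec, beta_add_left, beta_add_right]; ring
  one_mul g := by ext : 1 <;> simp [beta_zero_left]
  mul_one g := by ext : 1 <;> simp [beta_zero_right]
  inv_mul_cancel g := by
    ext : 1
    · simp [add_self_vec]
    · simp only [mul_cen, inv_cen, inv_vec, one_cen]
      linear_combination (CharTwo.add_self_eq_zero (g.cen + beta e g.vec g.vec))

/-- The model as a product. -/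
def equivProd (n : ℕ) (e : Fin n → ZMod 2) : Mdl n e ≃ (Fin n → ZMod 2 × ZMod 2) × ZMod 2 where
  toFun g := (g.vec, g.cen)
  invFun p := ⟨p.1, p.2⟩
  left_inv _ := rfl
  right_inv _ := rfl

instance mdlFintype : Fintype (Mdl n e) := Fintype.ofEquiv _ (equivProd n e).symm

lemma card_mdl (n : ℕ) (e : Fin n → ZMod 2) : Nat.card (Mdl n e) = 2 ^ (2 * n + 1) := by
  rw [Nat.card_congr (equivProd n e)]
  simp [pow_succ, pow_mul]

/-- The central involution. -/
def zed (n : ℕ) (e : Fin n → ZMod 2) : Mdl n e := ⟨0, 1⟩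

lemma vec_zero_cases {g : Mdl n e} (h : g.vec = 0) : g = 1 ∨ g = zed n e := by
  rcases (by decide : ∀ a : ZMod 2, a = 0 ∨ a = 1) g.cen with hc | hc
  · exact Or.inl (Mdl.ext h hc)
  · exact Or.inr (Mdl.ext h hc)

lemma central_of_vec_zero {g : Mdl n e} (h : g.vec = 0) (k : Mdl n e) : k * g = g * k := by
  ext : 1
  · simp [h]
  · simp [h, beta_zero_left, beta_zero_right, add_comm]

lemma mem_center (g : Mdl n e) : g ∈ Subgroup.center (Mdl n e) ↔ g.vec = 0 := by
  classical
  refine ⟨fun h => ?_, fun h => Subgroup.mem_center_iff.2 (central_of_vec_zero h)⟩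
  have key : ∀ (i : Fin n) (p : ZMod 2 × ZMod 2),
      beta e (Pi.single i p) g.vec = beta e g.vec (Pi.single i p) := fun i p => by
    have := congrArg Mdl.cen (Subgroup.mem_center_iff.1 h ⟨Pi.single i p, 0⟩)
    simp only [mul_cen, zero_add, add_zero, add_right_inj] at this
    linear_combination this
  funext i
  have k1 := key i (1, 0)
  have k2 := key i (0, 1)
  simp only [beta] at k1 k2
  rw [Finset.sum_eq_single i (fun j _ hj => by simp [hj]) (by simp),
    Finset.sum_eq_single i (fun j _ hj => by simp [hj]) (by simp)] at k1 k2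
  simp at k1 k2
  refine Prod.ext ?_ ?_ <;> simp_all

theorem isExtraspecial (hn : 1 ≤ n) (e : Fin n → ZMod 2) : Cfsg.IsExtraspecial 2 (Mdl n e) := by
  haveI : Fact (Nat.Prime 2) := ⟨Nat.prime_two⟩
  have hP : IsPGroup 2 (Mdl n e) := IsPGroup.of_card (card_mdl n e)
  set Z := Subgroup.center (Mdl n e)
  have hz : zed n e ∈ Z := (mem_center _).2 rfl
  have hcard : Nat.card Z = 2 := by
    rw [Nat.card_eq_two_iff]
    refine ⟨⟨1, one_mem _⟩, ⟨zed n e, hz⟩, fun h => ?_, ?_⟩
    · exact zero_ne_one (α := ZMod 2) (congrArg (fun g : Z => g.1.cen) h)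
    · refine Set.eq_univ_of_forall fun g => ?_
      rcases vec_zero_cases ((mem_center g.1).1 g.2) with h | h
      · exact Or.inl (Subtype.ext h)
      · exact Or.inr (Subtype.ext h)
  have hcle : commutator (Mdl n e) ≤ Z := by
    rw [_root_.commutator_def, Subgroup.commutator_le]
    intro g _ h _
    rw [mem_center, commutatorElement_def]
    simp [add_comm g.vec, add_assoc, add_self_vec]
  let i₀ : Fin n := ⟨0, hn⟩
  have hge : Z ≤ commutator (Mdl n e) := by
    classical
    intro g hg
    rcases vec_zero_cases ((mem_center g).1 hg) with rfl | rfl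
    · exact one_mem _
    · let a : Mdl n e := ⟨Pi.single i₀ (1, 0), 0⟩
      let b : Mdl n e := ⟨Pi.single i₀ (0, 1), 0⟩
      have : ⁅a, b⁆ = zed n e := by
        rcases vec_zero_cases ((mem_center _).1 (hcle (Subgroup.commutator_mem_commutator
          (Subgroup.mem_top a) (Subgroup.mem_top b)))) with h | h
        · exfalso
          rw [commutatorElement_eq_one_iff_mul_comm] at h
          have := congrArg Mdl.cen h
          simp only [mul_cen, a, b, beta] at this
          rw [Finset.sum_eq_single i₀ (fun j _ hj => by simp [hj]) (by simp),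
            Finset.sum_eq_single i₀ (fun j _ hj => by simp [hj]) (by simp)] at this
          simp at this
        · exact h
      rw [← this]
      exact Subgroup.commutator_mem_commutator (Subgroup.mem_top a) (Subgroup.mem_top b)
  refine ⟨⟨hP, le_antisymm ?_ ?_, le_antisymm hcle hge⟩, hcard⟩
  · exact H6.frattini_le_of_quotient (p := 2) _ hcle fun g => (mem_center _).2 (by
      rw [pow_two, mul_vec, add_self_vec])
  · exact hge.trans (H6.commutator_le_frattini hP)

/-- The sign of the square. -/
def sgn (a : ZMod 2) : ℤ := if a = 0 then 1 else -1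

lemma sgn_add : ∀ a b : ZMod 2, sgn (a + b) = sgn a * sgn b := by decide

lemma sgn_sum {ι : Type*} (s : Finset ι) (f : ι → ZMod 2) :
    sgn (∑ i ∈ s, f i) = ∏ i ∈ s, sgn (f i) := by
  classical
  induction s using Finset.induction_on with
  | empty => rfl
  | insert i s his ih => rw [Finset.sum_insert his, Finset.prod_insert his, sgn_add, ih]

lemma sq_cen (g : Mdl n e) : (g * g).cen = beta e g.vec g.vec := by
  rw [mul_cen, CharTwo.add_self_eq_zero, zero_add]

/-- The sum of the signs of all squares. -/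
lemma sum_sgn (n : ℕ) (e : Fin n → ZMod 2) :
    ∑ g : Mdl n e, sgn (g * g).cen = 2 * ∏ i, (if e i = 0 then 2 else -2 : ℤ) := by
  classical
  simp only [sq_cen]
  rw [Fintype.sum_equiv (equivProd n e) (fun g => sgn (beta e g.vec g.vec))
    (fun p => sgn (beta e p.1 p.1)) (fun g => rfl), Fintype.sum_prod_type]
  simp only [Finset.sum_const, Finset.card_univ, ZMod.card, nsmul_eq_mul, Nat.cast_ofNat,
    ← Finset.mul_sum]
  congr 1
  simp only [beta, sgn_sum]
  rw [← Fintype.prod_sum (f := fun i (x : ZMod 2 × ZMod 2) =>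
    sgn (x.1 * x.2 + e i * (x.1 * x.1 + x.2 * x.2)))]
  refine Finset.prod_congr rfl fun i _ => ?_
  generalize e i = c
  revert c
  decide

/-- An elementary abelian subgroup of order `2 ^ (n + 1)` makes the sign sum positive. -/
theorem sum_sgn_pos (hn : 1 ≤ n) (e : Fin n → ZMod 2) (A : Subgroup (Mdl n e))
    (hA : Cfsg.IsElementaryAbelian 2 A) (hc : 2 ^ (n + 1) ≤ Nat.card A) :
    0 < ∑ g : Mdl n e, sgn (g * g).cen := by
  classical
  have hmax : ∀ g : Mdl n e, (∀ a ∈ A, g * a = a * g) → g ∈ A := by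
    intro g hg
    by_contra hgA
    have hcm := hA.1
    have hBc : IsMulCommutative (Subgroup.closure ((A : Set (Mdl n e)) ∪ {g})) := by
      refine Subgroup.isMulCommutative_closure ?_
      intro x hx y hy
      rcases hx with hx | rfl <;> rcases hy with hy | rfl
      · exact congrArg Subtype.val (hcm.is_comm.comm ⟨x, hx⟩ ⟨y, hy⟩)
      · exact (hg x hx).symm
      · exact hg y hy
      · rfl
    have hlt : A < Subgroup.closure ((A : Set (Mdl n e)) ∪ {g}) :=
      ⟨fun x hx => Subgroup.subset_closure (Or.inl hx),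
        fun h => hgA (h (Subgroup.subset_closure (Or.inr rfl)))⟩
    have hlt' := SetLike.coe_strictMono hlt
    have h1 : Nat.card A < Nat.card (Subgroup.closure ((A : Set (Mdl n e)) ∪ {g})) :=
      Set.Finite.card_lt_card (Set.toFinite _) hlt'
    have h2 := H30.extraspecial_center_map_le (p := 2) hBc (isExtraspecial hn e)
    rw [card_mdl] at h2
    have h3 : (2 ^ (n + 1)) ^ 2 < Nat.card (Subgroup.closure ((A : Set (Mdl n e)) ∪ {g})) ^ 2 :=
      Nat.pow_lt_pow_left (lt_of_le_of_lt hc h1) two_ne_zero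
    rw [← pow_mul, show (n + 1) * 2 = 2 * n + 1 + 1 by ring, pow_succ] at h3
    omega
  have sq1 : ∀ a ∈ A, a.cen + a.cen + beta e a.vec a.vec = 0 := fun a ha => by
    have := congrArg Mdl.cen (hA.2 a ha)
    rwa [pow_two, mul_cen, one_cen] at this
  -- summing over translates by `A`
  set S := ∑ g : Mdl n e, sgn (g * g).cen with hS
  have key : (Nat.card A : ℤ) * S = ∑ g : Mdl n e, ∑ a : A, sgn (g * a * (g * a)).cen := by
    rw [Finset.sum_comm]
    rw [Finset.sum_congr rfl (fun (a : A) _ => Fintype.sum_equiv (Equiv.mulRight (a : Mdl n e))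
      (fun g : Mdl n e => sgn (g * a * (g * a)).cen) (fun g => sgn (g * g).cen) (fun g => rfl))]
    rw [Finset.sum_const, Finset.card_univ, nsmul_eq_mul, Nat.card_eq_fintype_card]
  have inner : ∀ g : Mdl n e,
      ∑ a : A, sgn (g * a * (g * a)).cen = if g ∈ A then (Nat.card A : ℤ) else 0 := by
    intro g
    split_ifs with hg
    · rw [Finset.sum_congr rfl (g := fun _ => (1 : ℤ)) (fun a _ => ?_)]
      · simp [Nat.card_eq_fintype_card]
      · have := sq1 _ (A.mul_mem hg a.2)
        rw [← mul_cen] at this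
        rw [this]; rfl
    · obtain ⟨a₀, ha₀, hga⟩ : ∃ a₀ ∈ A, g * a₀ ≠ a₀ * g := by
        by_contra! h
        exact hg (hmax g h)
      have hb : beta e g.vec a₀.vec + beta e a₀.vec g.vec = 1 := by
        rcases (by decide : ∀ a : ZMod 2, a = 0 ∨ a = 1)
          (beta e g.vec a₀.vec + beta e a₀.vec g.vec) with h | h
        · exfalso; apply hga
          ext : 1
          · simp [add_comm]
          · simp only [mul_cen]
            linear_combination h - CharTwo.add_self_eq_zero (beta e a₀.vec g.vec)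
        · exact h
      have flip : ∀ a : A, sgn (g * (⟨a₀, ha₀⟩ * a : A) * (g * (⟨a₀, ha₀⟩ * a : A))).cen
          = - sgn (g * a * (g * a)).cen := by
        intro a
        have hab : beta e a₀.vec (a : Mdl n e).vec + beta e (a : Mdl n e).vec a₀.vec = 0 := by
          have := congrArg Mdl.cen (congrArg Subtype.val (hA.1.is_comm.comm ⟨a₀, ha₀⟩ a))
          simp only [Subgroup.coe_mul, mul_cen] at this
          linear_combination this + CharTwo.add_self_eq_zero (beta e (a : Mdl n e).vec a₀.vec)
        have h00 := sq1 _ ha₀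
        rw [CharTwo.add_self_eq_zero, zero_add] at h00
        rw [sq_cen, sq_cen, mul_vec, mul_vec, Subgroup.coe_mul, mul_vec,
          show beta e (g.vec + (a₀.vec + (a : Mdl n e).vec)) (g.vec + (a₀.vec + (a : Mdl n e).vec))
            = 1 + beta e (g.vec + (a : Mdl n e).vec) (g.vec + (a : Mdl n e).vec) by
              simp only [beta_add_left, beta_add_right]
              linear_combination hb + hab + h00, sgn_add]
        simp [sgn]
        split_ifs <;> norm_num
      have h2 := Fintype.sum_equiv (Equiv.mulLeft (⟨a₀, ha₀⟩ : A))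
        (fun a : A => - sgn (g * a * (g * a)).cen) (fun a : A => sgn (g * a * (g * a)).cen)
        (fun a => (flip a).symm)
      rw [Finset.sum_neg_distrib] at h2
      linarith
  simp only [inner] at key
  rw [← Finset.sum_filter, Finset.sum_const, nsmul_eq_mul, mul_comm (Nat.card A : ℤ)] at key
  have hpos : (0 : ℤ) < Nat.card A := by exact_mod_cast Nat.card_pos
  rw [mul_right_cancel₀ hpos.ne' key]
  exact_mod_cast Finset.card_pos.2 ⟨1, by simp⟩

/-- A singular subgroup of order `2 ^ (m + 1)`. -/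
theorem exists_elementary (e : Fin n → ZMod 2) (m : ℕ) (hm : m ≤ n)
    (he : ∀ i : Fin n, i.val < m → e i = 0) :
    ∃ A : Subgroup (Mdl n e), Cfsg.IsElementaryAbelian 2 A ∧ Nat.card A = 2 ^ (m + 1) := by
  let emb : (Fin m → ZMod 2) → (Fin n → ZMod 2 × ZMod 2) := fun v i =>
    if h : i.val < m then (v ⟨i, h⟩, 0) else 0
  have hb : ∀ v w, beta e (emb v) (emb w) = 0 := fun v w => by
    refine Finset.sum_eq_zero fun i _ => ?_
    by_cases h : i.val < m
    · simp [emb, h, he i h]
    · simp [emb, h]
  have hadd : ∀ v w, emb (v + w) = emb v + emb w := fun v w => funext fun i => by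
    by_cases h : i.val < m <;> simp [emb, h]
  let f : Multiplicative ((Fin m → ZMod 2) × ZMod 2) →* Mdl n e :=
    MonoidHom.mk' (fun p => ⟨emb p.toAdd.1, p.toAdd.2⟩) fun p q => by
      ext : 1
      · exact hadd _ _
      · simp [hb]
  have hf : Function.Injective f := fun p q h => by
    have h1 : emb p.toAdd.1 = emb q.toAdd.1 := congrArg Mdl.vec h
    have h2 : p.toAdd.2 = q.toAdd.2 := congrArg Mdl.cen h
    apply Multiplicative.toAdd.injective
    refine Prod.ext (funext fun i => ?_) h2
    have := congrArg Prod.fst (congrFun h1 ⟨i, lt_of_lt_of_le i.isLt hm⟩)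
    simpa [emb] using this
  refine ⟨f.range, ⟨inferInstance, ?_⟩, ?_⟩
  · rintro _ ⟨p, rfl⟩
    rw [← map_pow, show p ^ 2 = 1 from ?_, map_one]
    apply Multiplicative.toAdd.injective
    rw [toAdd_pow, toAdd_one, two_nsmul]
    exact Prod.ext (funext fun i => CharTwo.add_self_eq_zero _) (CharTwo.add_self_eq_zero _)
  · rw [← Nat.card_congr (MonoidHom.ofInjective hf).toEquiv]
    simp [pow_succ]

/-- The rank bound for all models. -/
theorem rank_le (hn : 1 ≤ n) (e : Fin n → ZMod 2) {A : Subgroup (Mdl n e)} {k : ℕ}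
    (hA : Cfsg.IsElementaryAbelian 2 A) (hk : Nat.card A = 2 ^ k) : k ≤ n + 1 := by
  have h := H30.extraspecial_center_map_le (p := 2) hA.1 (isExtraspecial hn e)
  rw [card_mdl, hk, ← pow_mul, ← pow_succ] at h
  have := (Nat.pow_le_pow_iff_right (by norm_num)).1 h
  omega

theorem both_ranks (n : ℕ) (hn : 1 ≤ n) : ∀ r ∈ ({n, n + 1} : Set ℕ),
    ∃ (E : Type) (_ : Group E) (_ : Finite E), Cfsg.IsExtraspecial 2 E ∧
      Nat.card E = 2 ^ (2 * n + 1) ∧
      sSup {k : ℕ | ∃ A : Subgroup E, Cfsg.IsElementaryAbelian 2 A ∧ Nat.card A = 2 ^ k} = r := by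
  intro r hr
  rcases hr with hr | hr <;> rw [hr]
  · -- minus type
    let e : Fin n → ZMod 2 := fun i => if i.val = n - 1 then 1 else 0
    refine ⟨Mdl n e, inferInstance, inferInstance, isExtraspecial hn e, card_mdl n e, ?_⟩
    refine IsGreatest.csSup_eq ⟨?_, ?_⟩
    · obtain ⟨A, hA, hc⟩ := exists_elementary e (n - 1) (by omega) fun i hi => if_neg (by omega)
      exact ⟨A, hA, by rw [hc, Nat.sub_add_cancel hn]⟩
    · rintro k ⟨A, hA, hk⟩
      by_contra hlt
      have hpos := sum_sgn_pos hn e A hA (by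
        rw [hk]; exact Nat.pow_le_pow_right (by norm_num) (by omega))
      rw [sum_sgn, ← Finset.mul_prod_erase Finset.univ _ (Finset.mem_univ (⟨n - 1, by omega⟩ : Fin n)),
        Finset.prod_congr rfl (g := fun _ => (2 : ℤ)) (fun i hi => ?_)] at hpos
      · simp only [e, if_true, one_ne_zero, if_false, Finset.prod_const] at hpos
        have : (0 : ℤ) < 2 ^ (Finset.univ.erase (⟨n - 1, by omega⟩ : Fin n)).card := by positivity
        linarith
      · have : i.val ≠ n - 1 := fun h => (Finset.mem_erase.1 hi).1 (Fin.ext h)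
        simp [e, this]
  · -- plus type
    refine ⟨Mdl n 0, inferInstance, inferInstance, isExtraspecial hn 0, card_mdl n 0, ?_⟩
    refine IsGreatest.csSup_eq ⟨?_, ?_⟩
    · obtain ⟨A, hA, hc⟩ := exists_elementary (0 : Fin n → ZMod 2) n le_rfl fun i _ => rfl
      exact ⟨A, hA, hc⟩
    · rintro k ⟨A, hA, hk⟩
      exact rank_le hn 0 hA hk

end H99.ExtraTwo
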