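/-
The involutions t(x) of a Fischer space.
-/
import Cfsg.Agent.H99.TTBasic

set_option autoImplicit false

namespace H99

open Cfsg Cfsg.LineSystem

variable {X : Type*} {L : Set (Set X)}

/-- Two different points of a three-point line and the third one. -/
lemma fs_third (hL : IsFischerSpace L) {l : Set X} (hl : l ∈ L) {x y : X} (hxy : x ≠ y)
    (hx : x ∈ l) (hy : y ∈ l) : ∃ z, z ≠ x ∧ z ≠ y ∧ l = {x, y, z} := by
  have hfin : l.Finite := Set.finite_of_ncard_pos (by rw [hL.2.1 l hl]; omega)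
  have hsub : ({x, y} : Set X) ⊆ l := Set.insert_subset hx (Set.singleton_subset_iff.2 hy)
  obtain ⟨z, hz, hz'⟩ := Set.exists_mem_notMem_of_ncard_lt_ncard (s := ({x, y} : Set X)) (t := l)
    (by rw [Set.ncard_pair hxy, hL.2.1 l hl]; omega)
  simp only [Set.mem_insert_iff, Set.mem_singleton_iff, not_or] at hz'
  refine ⟨z, hz'.1, hz'.2, ?_⟩
  refine (Set.eq_of_subset_of_ncard_le (Set.insert_subset hx (Set.insert_subset hy
    (Set.singleton_subset_iff.2 hz))) ?_ hfin).symm
  rw [hL.2.1 l hl, Set.ncard_eq_three.2 ⟨x, y, z, hxy, Ne.symm hz'.1, Ne.symm hz'.2, rfl⟩]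

lemma fs_unique (hL : IsFischerSpace L) {x y z z' : X} (hxy : x ≠ y) (h : ({x, y, z} : Set X) ∈ L)
    (h' : ({x, y, z'} : Set X) ∈ L) (hz : z ≠ x) (hz2 : z ≠ y) : z = z' := by
  have := hL.1 _ h _ h' x y hxy (by simp) (by simp) (by simp) (by simp)
  have hz' : z ∈ ({x, y, z'} : Set X) := this ▸ (by simp)
  simpa [hz, hz2] using hz'

lemma lineMap_eq (hL : IsFischerSpace L) {x y z : X} (hxy : x ≠ y)
    (h : ({x, y, z} : Set X) ∈ L) (hz : z ≠ x) (hz2 : z ≠ y) : lineMap L x y = z := by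
  unfold lineMap
  have hex : ∃ z : X, z ≠ x ∧ z ≠ y ∧ x ≠ y ∧ ({x, y, z} : Set X) ∈ L := ⟨z, hz, hz2, hxy, h⟩
  rw [dif_pos hex]
  obtain ⟨h1, h2, -, h4⟩ := hex.choose_spec
  exact fs_unique hL hxy h4 h h1 h2

lemma lineMap_of_not_collinear (hL : IsFischerSpace L) {x y : X}
    (h : ¬ Collinear L x y) : lineMap L x y = y := by
  unfold lineMap
  rw [dif_neg]
  rintro ⟨z, -, -, hxy, hl⟩
  exact h ⟨hxy, _, hl, by simp, by simp⟩

lemma lineMap_cases (hL : IsFischerSpace L) (x y : X) :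
    (lineMap L x y = y ∧ ¬ Collinear L x y) ∨
    (x ≠ y ∧ lineMap L x y ≠ x ∧ lineMap L x y ≠ y ∧ ({x, y, lineMap L x y} : Set X) ∈ L) := by
  by_cases h : Collinear L x y
  · obtain ⟨hxy, l, hl, hx, hy⟩ := h
    obtain ⟨z, h1, h2, rfl⟩ := fs_third hL hl hxy hx hy
    rw [lineMap_eq hL hxy hl h1 h2]
    exact Or.inr ⟨hxy, h1, h2, hl⟩
  · exact Or.inl ⟨lineMap_of_not_collinear hL h, h⟩

lemma lineMap_involutive (hL : IsFischerSpace L) (x : X) : Function.Involutive (lineMap L x) := by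
  intro y
  rcases lineMap_cases hL x y with ⟨h, -⟩ | ⟨hxy, h1, h2, hl⟩
  · rw [h, h]
  · refine lineMap_eq hL (Ne.symm h1) ?_ (Ne.symm hxy) (Ne.symm h2)
    rw [Set.pair_comm (lineMap L x y) y]
    exact hl

/-! ### The two planes -/

/-- A plane in which the candidate maps `τ` preserve lines. -/
def PlaneGood {Y : Type*} (M : Set (Set Y)) (τ : Y → Y → Y) : Prop :=
  (∀ p q, (p ≠ q ∧ τ p q ≠ p ∧ τ p q ≠ q ∧ ({p, q, τ p q} : Set Y) ∈ M) ∨
    (τ p q = q ∧ ∀ k ∈ M, p ∈ k → q ∈ k → p = q)) ∧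
  ∀ p, ∀ k ∈ M, τ p '' k ∈ M

/-- The reflection maps of the affine plane of order three. -/
def affTau (p q : Fin 2 → ZMod 3) : Fin 2 → ZMod 3 := if p = q then q else -(p + q)

lemma aff_line_three : ∀ p q : Fin 2 → ZMod 3, p ≠ q →
    affTau p q ≠ p ∧ affTau p q ≠ q ∧
    ∀ x, (x = p ∨ x = q ∨ x = affTau p q) ↔ ∃ k : ZMod 3, x = p + k • (q - p) := by decide +kernel

lemma aff_line_image : ∀ p v w x : Fin 2 → ZMod 3,
    (∃ k : ZMod 3, x = affTau p (v + k • w)) ↔ ∃ k : ZMod 3, x = affTau p v + k • (-w) := by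
  decide +kernel

lemma planeGood_affine : PlaneGood affinePlaneThree affTau := by
  refine ⟨fun p q => ?_, fun p k hk => ?_⟩
  · by_cases h : p = q
    · exact Or.inr ⟨by simp [affTau, h], fun k _ _ _ => h⟩
    · obtain ⟨h1, h2, h3⟩ := aff_line_three p q h
      exact Or.inl ⟨h, h1, h2, p, q - p, sub_ne_zero.2 (Ne.symm h), Set.ext fun x => by simpa using h3 x⟩
  · obtain ⟨v, w, hw, rfl⟩ := hk
    refine ⟨affTau p v, -w, by simpa using hw, Set.ext fun x => ?_⟩
    simp only [Set.mem_image, Set.mem_ofPred_eq]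
    rw [← aff_line_image p v w x]
    exact ⟨fun ⟨_, ⟨k, rfl⟩, h⟩ => ⟨k, h.symm⟩, fun ⟨k, h⟩ => ⟨_, ⟨k, rfl⟩, h.symm⟩⟩

/-- The transposition of a point of the dual affine plane, as a map of the four-set. -/
def swapMap (P : DualAffinePoint) (i : Fin 4) : Fin 4 :=
  if i ∈ P.1 then (((List.finRange 4).filter fun j => decide (j ∈ P.1 ∧ j ≠ i)).headD i) else i

lemma swapMap_injective : ∀ P, Function.Injective (swapMap P) := by decide +kernel

/-- The reflection maps of the dual affine plane of order two. -/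
def dualTau (P Q : DualAffinePoint) : DualAffinePoint :=
  ⟨Q.1.image (swapMap P), by rw [Finset.card_image_of_injective _ (swapMap_injective P)]; exact Q.2⟩

lemma dual_cases : ∀ P Q : DualAffinePoint,
    (P ≠ Q ∧ dualTau P Q ≠ P ∧ dualTau P Q ≠ Q ∧
      ∃ i : Fin 4, ∀ S : DualAffinePoint, (S = P ∨ S = Q ∨ S = dualTau P Q) ↔ i ∉ S.1) ∨
    (dualTau P Q = Q ∧ ∀ i : Fin 4, i ∉ P.1 → i ∉ Q.1 → P = Q) := by decide +kernel

lemma dual_image : ∀ (P : DualAffinePoint) (i : Fin 4) (S : DualAffinePoint),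
    (∃ R : DualAffinePoint, i ∉ R.1 ∧ dualTau P R = S) ↔ swapMap P i ∉ S.1 := by decide +kernel

lemma planeGood_dual : PlaneGood dualAffinePlaneTwo dualTau := by
  refine ⟨fun p q => ?_, fun p k hk => ?_⟩
  · rcases dual_cases p q with ⟨h1, h2, h3, i, hi⟩ | ⟨h1, h2⟩
    · exact Or.inl ⟨h1, h2, h3, i, Set.ext fun x => by simpa using hi x⟩
    · refine Or.inr ⟨h1, ?_⟩
      rintro k ⟨i, rfl⟩ hp hq
      exact h2 i hp hq
  · obtain ⟨i, rfl⟩ := hk
    exact ⟨swapMap p i, Set.ext fun S => dual_image p i S⟩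

/-! ### Transfer -/

lemma image_line_of_plane (hL : IsFischerSpace L) {Y : Type*} {M : Set (Set Y)} {τ : Y → Y → Y}
    (hM : PlaneGood M τ) {S : Set X} (hS : IsSubspace L S) {e : S ≃ Y}
    (he : IsIso (restrict L S) M e) {x : X} (hx : x ∈ S) {m : Set X} (hm : m ∈ L) (hmS : m ⊆ S) :
    lineMap L x '' m ∈ L := by
  obtain ⟨hM1, hM2⟩ := hM
  -- lines of the model come from lines inside S
  have hback : ∀ k : Set S, e '' k ∈ M → Subtype.val '' k ∈ L := by
    intro k hk
    obtain ⟨l, hl, hlS, rfl⟩ := (he k).2 hk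
    have : Subtype.val '' {x : S | (x : X) ∈ l} = l := by
      ext w
      constructor
      · rintro ⟨w', hw', rfl⟩; exact hw'
      · intro hw; exact ⟨⟨w, hlS hw⟩, hw, rfl⟩
    rw [this]; exact hl
  have hkey : ∀ q : S, lineMap L x q = (e.symm (τ (e ⟨x, hx⟩) (e q)) : X) := by
    intro q
    rcases hM1 (e ⟨x, hx⟩) (e q) with ⟨h1, h2, h3, hk⟩ | ⟨h1, h2⟩
    · set r := e.symm (τ (e ⟨x, hx⟩) (e q)) with hr
      have hl := hback {⟨x, hx⟩, q, r} (by
        simpa [Set.image_insert_eq, hr] using hk)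
      rw [Set.image_insert_eq, Set.image_insert_eq, Set.image_singleton] at hl
      refine lineMap_eq hL ?_ hl ?_ ?_
      · exact fun h => h1 (congrArg e (Subtype.ext h))
      · exact fun h => h2 (by rw [← e.apply_symm_apply (τ _ _)]; exact congrArg e (Subtype.ext h))
      · exact fun h => h3 (by rw [← e.apply_symm_apply (τ _ _)]; exact congrArg e (Subtype.ext h))
    · rw [h1, e.symm_apply_apply]
      refine lineMap_of_not_collinear hL ?_
      rintro ⟨hne, l, hl, hxl, hql⟩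
      have hlS : l ⊆ S := hS l hl x hx q q.2 hne hxl hql
      have hk := (he {w : S | (w : X) ∈ l}).1 ⟨l, hl, hlS, rfl⟩
      exact hne (congrArg Subtype.val (e.injective (h2 _ hk ⟨_, hxl, rfl⟩ ⟨_, hql, rfl⟩)))
  have hk := (he {w : S | (w : X) ∈ m}).1 ⟨m, hm, hmS, rfl⟩
  have hk' := hM2 (e ⟨x, hx⟩) _ hk
  have := hback (e.symm '' (τ (e ⟨x, hx⟩) '' (e '' {w : S | (w : X) ∈ m})))
    (by rwa [Equiv.image_symm_eq_preimage, Equiv.image_preimage])
  have heq : lineMap L x '' m =
      Subtype.val '' (e.symm '' (τ (e ⟨x, hx⟩) '' (e '' {w : S | (w : X) ∈ m}))) := by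
    ext w
    simp only [Set.mem_image, Set.mem_ofPred_eq, exists_exists_and_eq_and]
    constructor
    · rintro ⟨q, hq, rfl⟩
      exact ⟨⟨q, hmS hq⟩, hq, (hkey _).symm⟩
    · rintro ⟨q, hq, rfl⟩
      exact ⟨q, hq, hkey q⟩
  rw [heq]
  exact this

lemma lineMap_image_line (hL : IsFischerSpace L) (x : X) {m : Set X} (hm : m ∈ L) :
    lineMap L x '' m ∈ L := by
  by_cases hxm : x ∈ m
  · suffices h : lineMap L x '' m = m by rwa [h]
    have hmem : ∀ y ∈ m, lineMap L x y ∈ m := by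
      intro y hy
      rcases lineMap_cases hL x y with ⟨h, -⟩ | ⟨hxy, -, -, hl⟩
      · rwa [h]
      · have := hL.1 _ hl m hm x y hxy (by simp) (by simp) hxm hy
        rw [← this]; simp
    ext w
    refine ⟨?_, fun hw => ⟨lineMap L x w, hmem w hw, lineMap_involutive hL x w⟩⟩
    rintro ⟨y, hy, rfl⟩
    exact hmem y hy
  · by_cases hcol : ∃ y ∈ m, Collinear L x y
    · obtain ⟨y, hy, hxy, l, hl, hxl, hyl⟩ := hcol
      have hlm : l ≠ m := fun h => hxm (h ▸ hxl)
      set S := span L (l ∪ m) with hS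
      have hsub : l ∪ m ⊆ S := fun w hw => Set.mem_sInter.2 fun T hT => hT.1 hw
      have hSS : IsSubspace L S := by
        intro k hk a ha b hb hab hak hbk w hw
        exact Set.mem_sInter.2 fun T hT => hT.2 k hk a (Set.mem_sInter.1 ha T hT) b
          (Set.mem_sInter.1 hb T hT) hab hak hbk hw
      have hx : x ∈ S := hsub (Or.inl hxl)
      have hmS : m ⊆ S := fun w hw => hsub (Or.inr hw)
      rcases hL.2.2 l hl m hm hlm ⟨y, hyl, hy⟩ with ⟨e, he⟩ | ⟨e, he⟩
      · exact image_line_of_plane hL planeGood_dual hSS he hx hm hmS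
      · exact image_line_of_plane hL planeGood_affine hSS he hx hm hmS
    · push Not at hcol
      suffices h : lineMap L x '' m = m by rwa [h]
      ext w
      constructor
      · rintro ⟨y, hy, rfl⟩
        rwa [lineMap_of_not_collinear hL (hcol y hy)]
      · exact fun hw => ⟨w, hw, lineMap_of_not_collinear hL (hcol w hw)⟩

/-- `t(x)` as a permutation. -/
noncomputable def tPerm (hL : IsFischerSpace L) (x : X) : Equiv.Perm X :=
  (lineMap_involutive hL x).toPerm _

theorem fischer_space_maps (hL : IsFischerSpace L) (hnd : IsNondegenerate L) :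
    (∀ x : X, ∃ σ : Equiv.Perm X, ⇑σ = lineMap L x ∧ orderOf σ = 2 ∧ IsIso L L σ) ∧
      IsThreeTranspositionSet {σ : Equiv.Perm X | ∃ x : X, ⇑σ = lineMap L x} := by
  haveI : Fact (Nat.Prime 2) := ⟨Nat.prime_two⟩
  have hord : ∀ (σ : Equiv.Perm X) (x : X), ⇑σ = lineMap L x → orderOf σ = 2 := by
    intro σ x h
    refine orderOf_eq_prime ?_ ?_
    · ext y
      rw [pow_two, Equiv.Perm.mul_apply, h]
      exact lineMap_involutive hL x y
    · intro h1
      obtain ⟨l, hl, hxl⟩ := hnd x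
      have hfin : l.Finite := Set.finite_of_ncard_pos (by rw [hL.2.1 l hl]; omega)
      obtain ⟨y, hy, hyx⟩ : ∃ y ∈ l, y ≠ x := by
        by_contra hc
        push Not at hc
        have hsub : l ⊆ {x} := fun w hw => hc w hw
        have := Set.ncard_le_ncard hsub (Set.finite_singleton x)
        rw [hL.2.1 l hl, Set.ncard_singleton] at this
        omega
      rcases lineMap_cases hL x y with ⟨-, hn⟩ | ⟨-, -, h2, -⟩
      · exact hn ⟨Ne.symm hyx, l, hl, hxl, hy⟩
      · apply h2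
        rw [← h, h1]; rfl
  refine ⟨fun x => ⟨tPerm hL x, rfl, hord _ x rfl, fun l => ⟨fun hl => lineMap_image_line hL x hl,
    fun hl => ?_⟩⟩, fun σ ⟨x, hσ⟩ => hord σ x hσ, ?_⟩
  · have := lineMap_image_line hL x hl
    rwa [show (⇑(tPerm hL x) '' l) = lineMap L x '' l from rfl, Set.image_image,
      Set.image_congr (g := id) (fun a _ => lineMap_involutive hL x a), Set.image_id] at this
  · rintro σ ⟨x, hσ⟩ τ ⟨y, hτ⟩
    -- conjugation
    have hconj : ∀ x y, ∀ w, lineMap L x (lineMap L y (lineMap L x w)) = lineMap L (lineMap L x y) w := by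
      intro x y w
      set f := lineMap L x with hf
      have hinv : Function.Involutive f := lineMap_involutive hL x
      rcases lineMap_cases hL y (f w) with ⟨h, hn⟩ | ⟨h1, h2, h3, hl⟩
      · rw [h, hinv w]
        refine (lineMap_of_not_collinear hL ?_).symm
        rintro ⟨hne, l, hl, hy, hw⟩
        refine hn ⟨fun e => hne (by rw [e, hinv w]), f '' l, lineMap_image_line hL x hl,
          ⟨f y, hy, hinv y⟩, ⟨w, hw, rfl⟩⟩
      · have himg := lineMap_image_line hL x hl
        rw [← hf, Set.image_insert_eq, Set.image_insert_eq, Set.image_singleton, hinv w] at himg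
        refine (lineMap_eq hL ?_ himg ?_ ?_).symm
        · exact fun e => h1 (by rw [← hinv y, ← e])
        · exact fun e => h2 (hinv.injective e)
        · exact fun e => h3 (by rw [← hinv (lineMap L y (f w))]; exact congrArg f e)
    have hsq : σ * σ = 1 := by
      ext w; rw [Equiv.Perm.mul_apply, hσ]; exact lineMap_involutive hL x w
    have htq : τ * τ = 1 := by
      ext w; rw [Equiv.Perm.mul_apply, hτ]; exact lineMap_involutive hL y w
    rcases lineMap_cases hL x y with ⟨h, -⟩ | ⟨hxy, h1, h2, hl⟩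
    · left
      have : σ * τ * σ = τ := by
        ext w; simp only [Equiv.Perm.mul_apply, hσ, hτ]; rw [hconj, h]
      rw [pow_two, ← mul_assoc, this, htq]
    · right
      rw [invol_cube_eq_one_iff hsq htq]
      ext w
      simp only [Equiv.Perm.mul_apply, hσ, hτ]
      rw [hconj, hconj]
      have hyx : ({y, x, lineMap L x y} : Set X) ∈ L := by
        rw [Set.insert_comm]; exact hl
      rw [lineMap_eq hL (Ne.symm hxy) hyx h2 h1]

end H99
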