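import Cfsg.Agent.H89.ExtraspecialCentralizer
import Cfsg.Agent.H76.Basic
import Cfsg.Agent.H94.J3.Cent
import Cfsg.Prelude.Def_Spor_J3
import Cfsg.Prelude.Def_Transfer
import Cfsg.Prelude.Def_Sporadic

/-!
Simplicity of the `2`-fusion system of a group with one class of involutions and an involution
centraliser `2^(1+4).A₅`, applied to `J₃`.
-/

set_option autoImplicit false

namespace H99.J3Fus

open H89
open scoped commutatorElement

local notation "A5" => alternatingGroup (Fin 5)

theorem a5_squares : ∀ a : A5, ∃ b c : A5, a = b * b * (c * c) := by decide +kernel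

theorem a5_four : ∃ a b : A5, a * a = 1 ∧ b * b = 1 ∧ a * b = b * a ∧ a ≠ 1 ∧ b ≠ 1 ∧ a ≠ b := by
  decide +kernel

variable {K : Type*} [Group K] [Finite K]

/-- An extraspecial group of order `32` has an involution outside its centre. -/
theorem exists_noncentral_involution {P : Type*} [Group P] [Finite P] {z : P}
    (hZ : ∀ x : P, x ∈ Subgroup.center P ↔ x = 1 ∨ x = z)
    (hsq : ∀ x : P, x * x = 1 ∨ x * x = z)
    (hbig : ∀ x : P, x ∉ Subgroup.center P → ∃ y : P, x * y = y * x ∧ y ∉ Subgroup.center P ∧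
      x * y ∉ Subgroup.center P) :
    (∃ x : P, x ∉ Subgroup.center P) → ∃ x : P, x * x = 1 ∧ x ∉ Subgroup.center P := by
  rintro ⟨x, hx⟩
  obtain ⟨y, hxy, hy, hxyc⟩ := hbig x hx
  rcases hsq x with h1 | h1
  · exact ⟨x, h1, hx⟩
  rcases hsq y with h2 | h2
  · exact ⟨y, h2, hy⟩
  refine ⟨x * y, ?_, hxyc⟩
  have hzz : z * z = 1 := by
    rcases hsq z with h3 | h3
    · exact h3
    · have : z = 1 := mul_eq_left.mp h3
      rw [this, one_mul]
  calc x * y * (x * y) = x * (y * x) * y := by group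
    _ = x * (x * y) * y := by rw [hxy]
    _ = (x * x) * (y * y) := by group
    _ = 1 := by rw [h1, h2, hzz]

theorem extraspecial32_involution {P : Type*} [Group P] [Finite P]
    (hex : Cfsg.IsExtraspecial 2 P) (hcard : Nat.card P = 32) :
    ∃ x : P, x * x = 1 ∧ x ∉ Subgroup.center P := by
  classical
  haveI : Fact (Nat.Prime 2) := ⟨Nat.prime_two⟩
  obtain ⟨⟨hp, hfr, hcomm⟩, hc2⟩ := hex
  obtain ⟨⟨z, hz⟩, hz1⟩ : ∃ z : Subgroup.center P, z ≠ 1 :=
    haveI := Finite.one_lt_card_iff_nontrivial.mp (by omega : 1 < Nat.card (Subgroup.center P))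
    exists_ne 1
  have hz1' : z ≠ 1 := fun e => hz1 (Subtype.ext e)
  have hZ : ∀ x : P, x ∈ Subgroup.center P ↔ x = 1 ∨ x = z := by
    intro x
    constructor
    · intro hx
      have h := Nat.card_eq_two_iff' (1 : Subgroup.center P) |>.mp hc2
      obtain ⟨y, -, hy⟩ := h
      by_cases h1 : x = 1
      · exact Or.inl h1
      · exact Or.inr (congrArg Subtype.val
          ((hy ⟨x, hx⟩ fun e => h1 (congrArg Subtype.val e)).trans
            (hy ⟨z, hz⟩ fun e => hz1' (congrArg Subtype.val e)).symm))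
    · rintro (rfl | rfl)
      · exact Subgroup.one_mem _
      · exact hz
  have hC : ∀ x y : P, ⁅x, y⁆ ∈ Subgroup.center P := fun x y => by
    rw [← hcomm]
    exact Subgroup.commutator_mem_commutator (Subgroup.mem_top x) (Subgroup.mem_top y)
  have hsq : ∀ x : P, x * x = 1 ∨ x * x = z := fun x => by
    apply (hZ _).mp
    rw [← hfr, ← pow_two]
    exact H76.pow_mem_frattini hp x
  refine exists_noncentral_involution hZ hsq ?_ ?_
  · intro x hx
    -- the commutator map with `x`
    let φ : P →* Subgroup.center P :=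
      { toFun := fun y => ⟨⁅x, y⁆, hC x y⟩
        map_one' := Subtype.ext (commutatorElement_one_right x)
        map_mul' := fun y y' => Subtype.ext (by
          show ⁅x, y * y'⁆ = ⁅x, y⁆ * ⁅x, y'⁆
          have h : ⁅x, y * y'⁆ = ⁅x, y⁆ * (y * ⁅x, y'⁆ * y⁻¹) := by
            simp only [commutatorElement_def]; group
          rw [h, Subgroup.mem_center_iff.mp (hC x y') y, mul_inv_cancel_right]) }
    have hk : 16 ≤ Nat.card φ.ker := by
      have h1 := Subgroup.card_mul_index φ.ker
      rw [hcard, Subgroup.index_ker] at h1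
      have h2 : Nat.card φ.range ≤ 2 := hc2 ▸ Subgroup.card_le_card_group _
      nlinarith
    obtain ⟨y, hy, hy'⟩ : ∃ y : P, y ∈ φ.ker ∧ y ∉ ({1, z, x⁻¹, x⁻¹ * z} : Finset P) := by
      by_contra hcon
      push Not at hcon
      have : Nat.card φ.ker ≤ 4 := by
        haveI := Fintype.ofFinite P
        rw [Nat.card_eq_fintype_card, Fintype.card_subtype]
        calc _ ≤ ({1, z, x⁻¹, x⁻¹ * z} : Finset P).card :=
              Finset.card_le_card fun u hu => hcon u (Finset.mem_filter.mp hu).2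
          _ ≤ 4 := Finset.card_le_four
      omega
    simp only [Finset.mem_insert, Finset.mem_singleton, not_or] at hy'
    have hxy : x * y = y * x := commutatorElement_eq_one_iff_mul_comm.mp
      (congrArg Subtype.val (MonoidHom.mem_ker.mp hy))
    refine ⟨y, hxy, fun h => ((hZ y).mp h).elim hy'.1 hy'.2.1, fun h => ?_⟩
    rcases (hZ _).mp h with e | e
    · exact hy'.2.2.1 (eq_inv_of_mul_eq_one_right e)
    · exact hy'.2.2.2 (eq_inv_mul_of_mul_eq e)
  · by_contra hcon
    push Not at hcon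
    have htop : Subgroup.center P = ⊤ := eq_top_iff.mpr fun x _ => hcon x
    rw [htop, Subgroup.card_top, hcard] at hc2
    norm_num at hc2

variable {t : K}

local notation "CT" t:max => Subgroup.centralizer ({t} : Set _)

/-- The data from the centraliser. -/
theorem exists_data (hconj : ∀ x y : K, orderOf x = 2 → orderOf y = 2 → IsConj x y)
    (ht : orderOf t = 2) (Q : Subgroup ↥(Subgroup.centralizer ({t} : Set K))) [Q.Normal]
    (hex : Cfsg.IsExtraspecial 2 Q) (hQ : Nat.card Q = 32)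
    (H : Subgroup ↥(Subgroup.centralizer ({t} : Set K))) (hH : Q.IsComplement' H)
    (e : ↥(Subgroup.centralizer ({t} : Set K)) ⧸ Q ≃* A5)
    (hK : ∃ m, Odd m ∧ Nat.card K = 128 * m) :
    ∃ (R : Subgroup K) (χ : Subgroup.centralizer ({t} : Set K) →* A5),
      ExtraC.Data t R χ := by
  classical
  haveI : Fact (Nat.Prime 2) := ⟨Nat.prime_two⟩
  let χ : (CT t) →* A5 := e.toMonoidHom.comp (QuotientGroup.mk' Q)
  have hker : ∀ x : (CT t), χ x = 1 ↔ x ∈ Q := fun x => by
    show e (x : (CT t) ⧸ Q) = 1 ↔ _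
    rw [MulEquiv.map_eq_one_iff, QuotientGroup.eq_one_iff]
  have hsurj : Function.Surjective χ := e.surjective.comp (QuotientGroup.mk'_surjective Q)
  have ht1 : t ≠ 1 := fun q => by rw [q, orderOf_one] at ht; omega
  have htt : t * t = 1 := by rw [← pow_two, ← ht, pow_orderOf_eq_one]
  set tc : (CT t) := ⟨t, Subgroup.mem_centralizer_singleton_iff.mpr rfl⟩ with htc
  have htcc : ∀ x : (CT t), x * tc = tc * x := fun x =>
    Subtype.ext (Subgroup.mem_centralizer_singleton_iff.mp x.2)
  have hA5c : ∀ a : A5, (∀ b, b * a = a * b) → a = 1 := by decide +kernel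
  have htQ : tc ∈ Q := (hker tc).mp (hA5c _ fun b => by
    obtain ⟨x, rfl⟩ := hsurj b
    rw [← map_mul, htcc, map_mul])
  have hcen : ∀ z ∈ Q, (∀ r ∈ Q, r * z = z * r) → z = 1 ∨ z = tc := by
    intro z hz hzc
    obtain ⟨y, -, hy⟩ := (Nat.card_eq_two_iff' (1 : Subgroup.center Q)).mp hex.2
    have m1 : (⟨z, hz⟩ : Q) ∈ Subgroup.center Q :=
      Subgroup.mem_center_iff.mpr fun r => Subtype.ext (hzc r r.2)
    have m2 : (⟨tc, htQ⟩ : Q) ∈ Subgroup.center Q :=
      Subgroup.mem_center_iff.mpr fun r => Subtype.ext (htcc r)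
    by_cases h1 : z = 1
    · exact Or.inl h1
    · right
      have e1 := hy ⟨_, m1⟩ fun q => h1 (congrArg (fun u : Subgroup.center Q => ((u : Q) : (CT t))) q)
      have e2 := hy ⟨_, m2⟩ fun q =>
        ht1 (congrArg (fun u : Subgroup.center Q => (((u : Q) : (CT t)) : K)) q)
      exact congrArg (fun u : Subgroup.center Q => ((u : Q) : (CT t))) (e1.trans e2.symm)
  have hcm : ∀ x ∈ Q, ∀ y ∈ Q, ⁅x, y⁆ = 1 ∨ ⁅x, y⁆ = tc := by
    intro x hx y hy
    have h1 : ⁅(⟨x, hx⟩ : Q), ⟨y, hy⟩⁆ ∈ Subgroup.center Q := by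
      rw [← hex.1.2.2]
      exact Subgroup.commutator_mem_commutator (Subgroup.mem_top _) (Subgroup.mem_top _)
    exact hcen ⁅x, y⁆ (⁅(⟨x, hx⟩ : Q), (⟨y, hy⟩ : Q)⁆).2 fun r hr =>
      congrArg Subtype.val (Subgroup.mem_center_iff.mp h1 ⟨r, hr⟩)
  have hHQ : ∀ h ∈ H, h ∈ Q → h = 1 := fun h hh hq =>
    Subgroup.mem_bot.mp (hH.disjoint.le_bot ⟨hq, hh⟩)
  have hHbij : Function.Bijective (χ.comp H.subtype) := by
    refine ⟨fun u v huv => ?_, fun a => ?_⟩
    · have : u⁻¹ * v = 1 := Subtype.ext (hHQ _ (u⁻¹ * v).2 ((hker _).mp (by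
        simp only [MonoidHom.comp_apply] at huv
        show χ ((u : (CT t))⁻¹ * v) = 1
        rw [map_mul, map_inv]
        exact inv_mul_eq_one.mpr huv)))
      exact inv_mul_eq_one.mp this
    · obtain ⟨x, rfl⟩ := hsurj a
      obtain ⟨⟨⟨q, hq⟩, h⟩, hqh⟩ := hH.2 x
      refine ⟨h, ?_⟩
      rw [← hqh]
      show χ h = χ (q * h)
      rw [map_mul, (hker q).mpr hq, one_mul]
  obtain ⟨a, ha, b, hb, hab, ha1, hb1, hne⟩ : ∃ a : H, a * a = 1 ∧ ∃ b : H, b * b = 1 ∧
      a * b = b * a ∧ a ≠ 1 ∧ b ≠ 1 ∧ a ≠ b := by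
    obtain ⟨a, b, h1, h2, h3, h4, h5, h6⟩ := a5_four
    obtain ⟨u, rfl⟩ := hHbij.2 a
    obtain ⟨v, rfl⟩ := hHbij.2 b
    exact ⟨u, hHbij.1 (by rw [map_mul, map_one]; exact h1), v,
      hHbij.1 (by rw [map_mul, map_one]; exact h2), hHbij.1 (by rw [map_mul, map_mul]; exact h3),
      fun q => h4 (by rw [q, map_one]), fun q => h5 (by rw [q, map_one]), fun q => h6 (by rw [q])⟩
  have haQ : (a : (CT t)) ∉ Q := fun h => ha1 (Subtype.ext (hHQ _ a.2 h))
  have haord : orderOf ((a : (CT t)) : K) = 2 :=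
    orderOf_eq_prime (by rw [pow_two]; exact congrArg (fun u : H => ((u : (CT t)) : K)) ha)
      (fun q => ha1 (Subtype.ext (Subtype.ext q)))
  obtain ⟨r₀, hr₀, hr₀c⟩ := extraspecial32_involution (P := Q) hex hQ
  have hr₀t : (r₀ : (CT t)) ≠ tc := fun q => hr₀c (Subgroup.mem_center_iff.mpr fun r =>
    Subtype.ext (by show (r : (CT t)) * r₀ = r₀ * r; rw [q]; exact htcc r))
  have hr₀1 : r₀ ≠ 1 := fun q => hr₀c (q ▸ Subgroup.one_mem _)
  have hr₀ord : orderOf ((r₀ : (CT t)) : K) = 2 :=
    orderOf_eq_prime (by rw [pow_two]; exact congrArg (fun u : Q => ((u : (CT t)) : K)) hr₀)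
      (fun q => hr₀1 (Subtype.ext (Subtype.ext q)))
  have hRmem : ∀ x : (CT t), (x : K) ∈ Q.map (CT t).subtype ↔ x ∈ Q := fun x =>
    Subgroup.mem_map_iff_mem Subtype.val_injective
  refine ⟨Q.map (CT t).subtype, χ, hsurj, Subgroup.map_subtype_le _, fun x => (hker x).trans (hRmem x).symm,
    ?_, (hRmem tc).mpr htQ, ht1, ?_, ?_, ?_, ?_, hK⟩
  · rw [← Nat.card_congr (Q.equivMapOfInjective (CT t).subtype Subtype.val_injective).toEquiv, hQ]
  · rintro _ ⟨z, hz, rfl⟩ hc
    rcases hcen z hz (fun r hr => Subtype.ext (hc r ⟨r, hr, rfl⟩)) with h | h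
    · exact Or.inl (by rw [h]; rfl)
    · exact Or.inr (by rw [h]; rfl)
  · -- the action on `Q` is not inner
    by_contra hcon
    push Not at hcon
    have hact : ∀ g : (CT t), ∀ r ∈ Q, ⁅g, r⁆ = 1 ∨ ⁅g, r⁆ = tc := by
      intro g r hr
      obtain ⟨_, ⟨s, hs, rfl⟩, heq⟩ :=
        hcon g (Subgroup.mem_centralizer_singleton_iff.mp g.2) r ⟨r, hr, rfl⟩
      have heq' : s * g * r = r * (s * g) := Subtype.ext heq
      have : ⁅g, r⁆ = ⁅s⁻¹, r⁆ := by
        have e1 : g * r * g⁻¹ = s⁻¹ * r * s := by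
          calc g * r * g⁻¹ = s⁻¹ * (s * g * r) * g⁻¹ := by group
            _ = s⁻¹ * (r * (s * g)) * g⁻¹ := by rw [heq']
            _ = s⁻¹ * r * s := by group
        simp only [commutatorElement_def, inv_inv]
        rw [e1]
      rw [this]
      exact hcm _ (inv_mem hs) r hr
    have htc2 : tc * tc = 1 := Subtype.ext htt
    have hsqc : ∀ g : (CT t), ∀ r ∈ Q, g * g * r = r * (g * g) := by
      intro g r hr
      rcases hact g r hr with h | h
      · rw [commutatorElement_eq_one_iff_mul_comm] at h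
        rw [mul_assoc, h, ← mul_assoc, h, mul_assoc]
      · have h' : g * r = tc * r * g := by
          rw [← h, commutatorElement_def]; group
        calc g * g * r = g * (g * r) := by group
          _ = g * (tc * r * g) := by rw [h']
          _ = g * tc * r * g := by group
          _ = tc * (g * r) * g := by rw [htcc]; group
          _ = tc * (tc * r * g) * g := by rw [h']
          _ = (tc * tc) * (r * (g * g)) := by group
          _ = r * (g * g) := by rw [htc2, one_mul]
    have hcomm : ∀ h : H, ∀ r : Q, Commute (r : (CT t)) (h : (CT t)) := by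
      intro h r
      obtain ⟨b', c', hbc⟩ := a5_squares (χ h)
      obtain ⟨u, hu⟩ := hHbij.2 b'
      obtain ⟨v, hv⟩ := hHbij.2 c'
      have : h = u * u * (v * v) := hHbij.1 (by
        rw [map_mul, map_mul, map_mul, hu, hv]; exact hbc)
      rw [this]
      exact Commute.mul_right (hsqc u r r.2).symm (hsqc v r r.2).symm
    let V : Subgroup H :=
      { carrier := {1, a, b, a * b}
        one_mem' := by simp
        mul_mem' := by
          have e1 : a * (a * b) = b := by rw [← mul_assoc, ha, one_mul]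
          have e2 : b * (a * b) = a := by rw [hab, ← mul_assoc, hb, one_mul]
          have e3 : a * b * a = b := by rw [hab, mul_assoc, ha, mul_one]
          have e4 : a * b * b = a := by rw [mul_assoc, hb, mul_one]
          have e5 : a * b * (a * b) = 1 := by rw [← mul_assoc, e3, hb]
          rintro x y (rfl | rfl | rfl | rfl) (rfl | rfl | rfl | rfl) <;>
            simp [ha, hb, e1, e2, e3, e4, e5, ← hab]
        inv_mem' := by
          have ea : a⁻¹ = a := inv_eq_of_mul_eq_one_right ha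
          have eb : b⁻¹ = b := inv_eq_of_mul_eq_one_right hb
          rintro x (rfl | rfl | rfl | rfl) <;> simp [ea, eb, ← hab] }
    have hV : Nat.card V = 4 := by
      show ({1, a, b, a * b} : Set H).ncard = 4
      have n1 : a * b ≠ 1 := fun q => hne (by
        calc a = a * (b * b) := by rw [hb, mul_one]
          _ = a * b * b := by group
          _ = b := by rw [q, one_mul])
      have n2 : a * b ≠ a := fun q => hb1 (mul_eq_left.mp q)
      have n3 : a * b ≠ b := fun q => ha1 (mul_eq_right.mp q)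
      rw [Set.ncard_insert_of_notMem (by simp [ha1.symm, hb1.symm, n1.symm]),
        Set.ncard_insert_of_notMem (by simp [hne, n2.symm]), Set.ncard_pair n3.symm]
    have hVc : ∀ u v : H, u ∈ V → v ∈ V → u * v = v * u := by
      intro u v hu hv
      have hc : ∀ w ∈ V, Commute w a ∧ Commute w b := by
        rintro w (rfl | rfl | rfl | rfl)
        · exact ⟨Commute.one_left _, Commute.one_left _⟩
        · exact ⟨Commute.refl _, hab⟩
        · exact ⟨hab.symm, Commute.refl _⟩
        · exact ⟨Commute.mul_left (Commute.refl _) hab.symm, Commute.mul_left hab (Commute.refl _)⟩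
      rcases hv with rfl | rfl | rfl | rfl
      · rw [mul_one, one_mul]
      · exact (hc u hu).1
      · exact (hc u hu).2
      · exact (hc u hu).1.mul_right (hc u hu).2
    let f : Q × V →* (CT t) :=
      MonoidHom.noncommCoprod Q.subtype (H.subtype.comp V.subtype) fun r h => hcomm h r
    have hfapp : ∀ p : Q × V, f p = (p.1 : (CT t)) * ((p.2 : H) : (CT t)) := fun p => rfl
    let F : Q × V →* K := (CT t).subtype.comp f
    have hinj : Function.Injective F := by
      rw [injective_iff_map_eq_one]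
      rintro ⟨r, h⟩ heq
      have heq' : (r : (CT t)) * ((h : H) : (CT t)) = 1 := Subtype.ext heq
      have hh : ((h : H) : (CT t)) = 1 := hHQ _ (h : H).2 (by
        rw [show ((h : H) : (CT t)) = (r : (CT t))⁻¹ by
          rw [eq_inv_iff_mul_eq_one]; exact mul_eq_one_comm.mp heq']
        exact inv_mem r.2)
      rw [hh, mul_one] at heq'
      exact Prod.ext (Subtype.ext heq') (Subtype.ext (Subtype.ext hh))
    have hcardF : Nat.card F.range = 128 := by
      rw [Nat.card_congr (MonoidHom.ofInjective hinj).toEquiv.symm, Nat.card_prod, hQ, hV]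
    let S : Sylow 2 K := Sylow.ofCard F.range (by
      obtain ⟨m, hm, hKm⟩ := hK
      rw [hcardF, hKm, show (128 : ℕ) = 2 ^ 7 by norm_num,
        Nat.factorization_mul (by norm_num) (by rintro rfl; simp at hm), Finsupp.add_apply,
        Nat.Prime.factorization_pow Nat.prime_two, Finsupp.single_eq_same,
        Nat.factorization_eq_zero_of_not_dvd (by rwa [← even_iff_two_dvd, Nat.not_even_iff_odd])])
    have hS : (S : Subgroup K) = F.range := rfl
    have hScent : ∀ x : (CT t), (∀ r ∈ Q, r * x = x * r) → (∀ v ∈ V, (v : (CT t)) * x = x * v) →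
        (x : K) ∈ Subgroup.centralizer ((S : Subgroup K) : Set K) := by
      intro x hx1 hx2
      rw [Subgroup.mem_centralizer_iff, hS]
      rintro _ ⟨⟨r, h⟩, rfl⟩
      refine congrArg Subtype.val (?_ : f (r, h) * x = x * f (r, h))
      rw [hfapp]
      exact ((Commute.mul_left (hx1 r r.2 : Commute (r : (CT t)) x)
        (hx2 h h.2 : Commute ((h : H) : (CT t)) x)))
    have hcK := hScent tc (fun r _ => htcc r) (fun v _ => htcc v)
    have haK := hScent a (fun r hr => (hcomm a ⟨r, hr⟩).eq)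
      (fun v hv => congrArg Subtype.val (hVc v a hv (Or.inr (Or.inl rfl))))
    obtain ⟨g, hg⟩ := isConj_iff.mp (hconj t ((a : (CT t)) : K) ht haord)
    obtain ⟨n, hn, hn'⟩ := S.conj_eq_normalizer_conj_of_mem_centralizer t g⁻¹ hcK
      (by rw [inv_inv]; rw [hg]; exact haK)
    rw [inv_inv, hg] at hn'
    -- `n` fixes `t`, the only non-trivial commutator of `S`
    have hcomS : ∀ x ∈ F.range, ∀ y ∈ F.range, ⁅x, y⁆ = 1 ∨ ⁅x, y⁆ = t := by
      rintro _ ⟨⟨r, h⟩, rfl⟩ _ ⟨⟨r', h'⟩, rfl⟩
      rw [← map_commutatorElement]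
      have e1 : ⁅(r, h), (r', h')⁆ = (⁅r, r'⁆, (1 : V)) := by
        refine Prod.ext rfl ?_
        show ⁅h, h'⁆ = 1
        rw [commutatorElement_eq_one_iff_mul_comm]
        exact Subtype.ext (hVc h h' h.2 h'.2)
      rw [e1]
      have e2 : f (⁅r, r'⁆, (1 : V)) = ⁅(r : (CT t)), (r' : (CT t))⁆ := by
        rw [hfapp]; exact mul_one _
      rcases hcm r r.2 r' r'.2 with h0 | h0
      · exact Or.inl (by show ((f (⁅r, r'⁆, (1 : V))) : K) = 1; rw [e2, h0]; rfl)
      · exact Or.inr (by show ((f (⁅r, r'⁆, (1 : V))) : K) = t; rw [e2, h0])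
    obtain ⟨x, hx⟩ : ∃ x : Q, ⁅(r₀ : (CT t)), (x : (CT t))⁆ ≠ 1 := by
      by_contra hc0
      push Not at hc0
      exact hr₀c (Subgroup.mem_center_iff.mpr fun x => Subtype.ext
        (commutatorElement_eq_one_iff_mul_comm.mp (hc0 x)).symm)
    have hmemQ : ∀ y ∈ Q, ((y : (CT t)) : K) ∈ F.range := fun y hy =>
      ⟨(⟨y, hy⟩, 1), congrArg Subtype.val (show (y : (CT t)) * ((1 : H) : (CT t)) = y from mul_one y)⟩
    have hxt : ⁅((r₀ : (CT t)) : K), ((x : (CT t)) : K)⁆ = t := by
      rw [← Subgroup.coe_subtype, ← map_commutatorElement]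
      rcases hcm r₀ r₀.2 x x.2 with h0 | h0
      · exact absurd h0 hx
      · rw [h0]; rfl
    have hn1 : ∀ y ∈ F.range, n⁻¹ * y * n ∈ F.range := fun y hy =>
      (Subgroup.mem_normalizer_iff''.mp hn y).mp hy
    have hfix : n⁻¹ * t * n = t := by
      rcases hcomS _ (hn1 _ (hmemQ _ r₀.2)) _ (hn1 _ (hmemQ _ x.2)) with h0 | h0
      · exfalso
        apply ht1
        have e2 : n⁻¹ * t * n = 1 := by
          rw [← hxt, ← h0]; simp only [commutatorElement_def]; group
        calc t = n * (n⁻¹ * t * n) * n⁻¹ := by group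
          _ = 1 := by rw [e2]; group
      · calc n⁻¹ * t * n = n⁻¹ * ⁅((r₀ : (CT t)) : K), ((x : (CT t)) : K)⁆ * n := by rw [hxt]
          _ = ⁅n⁻¹ * ((r₀ : (CT t)) : K) * n, n⁻¹ * ((x : (CT t)) : K) * n⁆ := by
            simp only [commutatorElement_def]; group
          _ = t := h0
    rw [hfix] at hn'
    exact haQ (by rw [show (a : (CT t)) = tc from Subtype.ext hn']; exact htQ)
  · obtain ⟨g, hg⟩ := isConj_iff.mp (hconj t _ ht hr₀ord)
    refine ⟨g, by rw [hg]; exact (hRmem _).mpr r₀.2, fun q => hr₀t (Subtype.ext ?_)⟩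
    rw [← hg, q]
  · obtain ⟨g, hg⟩ := isConj_iff.mp (hconj t _ ht haord)
    exact ⟨g, t, (hRmem tc).mpr htQ, by rw [hg]; exact (a : (CT t)).2,
      by rw [hg, hRmem]; exact haQ⟩

/-- Transport of the data along an isomorphism. -/
theorem data_transfer {G : Type*} [Group G] [Finite G] (e : G ≃* K) {R : Subgroup K}
    {χ : Subgroup.centralizer ({t} : Set K) →* A5} (h : ExtraC.Data t R χ) (S : Sylow 2 G) :
    (Cfsg.groupFusionSystem (S : Subgroup G)).IsSimple 2 := by
  have hm : ∀ x : G, x ∈ Subgroup.centralizer ({e.symm t} : Set G) →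
      e x ∈ Subgroup.centralizer ({t} : Set K) := by
    intro x hx
    rw [Subgroup.mem_centralizer_singleton_iff] at hx ⊢
    have := congrArg e hx
    simpa using this
  let ε : Subgroup.centralizer ({e.symm t} : Set G) →*
      Subgroup.centralizer ({t} : Set K) :=
    (e.toMonoidHom.comp (Subgroup.subtype _)).codRestrict _ (fun x => hm x x.2)
  have hεs : Function.Surjective ε := by
    rintro ⟨y, hy⟩
    refine ⟨⟨e.symm y, ?_⟩, Subtype.ext (e.apply_symm_apply y)⟩
    rw [Subgroup.mem_centralizer_singleton_iff] at hy ⊢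
    rw [← map_mul, hy, map_mul]
  refine ExtraC.Data.isSimple (t := e.symm t) (R := R.map e.symm.toMonoidHom)
    (χ := χ.comp ε) ⟨h.surj.comp hεs, ?_, ?_, ?_, ⟨_, h.t_mem, rfl⟩, ?_, ?_, ?_, ?_, ?_, ?_⟩ S
  · rintro _ ⟨r, hr, rfl⟩
    rw [Subgroup.mem_centralizer_singleton_iff]
    have := Subgroup.mem_centralizer_singleton_iff.mp (h.le hr)
    show e.symm r * e.symm t = e.symm t * e.symm r
    rw [← map_mul, this, map_mul]
  · intro x
    rw [MonoidHom.comp_apply, h.ker, Subgroup.mem_map_equiv]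
    rfl
  · rw [Nat.card_congr (Subgroup.equivMapOfInjective R e.symm.toMonoidHom e.symm.injective).toEquiv.symm,
      h.card_R]
  · intro ht
    exact h.t_ne (e.symm.injective (by rw [ht, map_one]))
  · rintro _ ⟨z, hz, rfl⟩ hc
    refine (h.center z hz fun r hr => e.symm.injective ?_).imp (fun q => by rw [q]; exact map_one _)
      (fun q => by rw [q]; rfl)
    rw [map_mul, map_mul]
    exact hc _ ⟨r, hr, rfl⟩
  · obtain ⟨g, hg, r, hr, hne⟩ := h.outer
    refine ⟨e.symm g, by rw [← map_mul, hg, map_mul], e.symm r, ⟨r, hr, rfl⟩, ?_⟩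
    rintro _ ⟨s, hs, rfl⟩ heq
    refine hne s hs (e.symm.injective ?_)
    rw [map_mul, map_mul, map_mul, map_mul]
    exact heq
  · obtain ⟨g, hg1, hg2⟩ := h.fused_in
    refine ⟨e.symm g, ⟨_, hg1, by simp⟩, fun q => hg2 (e.symm.injective ?_)⟩
    simpa using q
  · obtain ⟨g, x, hx, hC, hR⟩ := h.fused_out
    refine ⟨e.symm g, e.symm x, ⟨x, hx, rfl⟩, ?_, ?_⟩
    · rw [Subgroup.mem_centralizer_singleton_iff] at hC ⊢
      rw [← map_inv, ← map_mul, ← map_mul, ← map_mul, hC, map_mul]
    · rw [Subgroup.mem_map_equiv]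
      simpa using hR
  · obtain ⟨m, hm', hc⟩ := h.card_G
    exact ⟨m, hm', (Nat.card_congr e.toEquiv).trans hc⟩

end H99.J3Fus
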