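/-
Majorana axes: two commuting involutions give a dihedral algebra of type 2A or 2B; a group of
Majorana involutions all of whose pairs are of type 2A has order at most four.
-/
import Cfsg.Prelude.Def_AxialAlgebras

set_option autoImplicit false

namespace H99.Majorana

open Cfsg.Axial

variable {V : Type*} [AddCommGroup V] [Module ℝ V]
variable {mul : V →ₗ[ℝ] V →ₗ[ℝ] V} {B : LinearMap.BilinForm ℝ V}

lemma mem_eigen {a v : V} {c : ℝ} : v ∈ eigen mul a c ↔ mul a v = c • v :=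
  Module.End.mem_eigenspace_iff

lemma eigenSum_insert (a : V) (c : ℝ) (S : Set ℝ) :
    eigenSum mul a (insert c S) = eigen mul a c ⊔ eigenSum mul a S := iSup_insert

lemma eigenSum_singleton (a : V) (c : ℝ) : eigenSum mul a {c} = eigen mul a c := iSup_singleton

lemma law_zero_zero : monsterLaw (1 / 4 : ℝ) (1 / 32) 0 0 = {0} := by
  unfold monsterLaw; norm_num

lemma law_zero_quarter : monsterLaw (1 / 4 : ℝ) (1 / 32) 0 (1 / 4) = {1 / 4} := by
  unfold monsterLaw; norm_num

lemma law_quarter_quarter : monsterLaw (1 / 4 : ℝ) (1 / 32) (1 / 4) (1 / 4) = {1, 0} := by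
  unfold monsterLaw; norm_num

/-- Independence of three eigenspaces. -/
lemma indep {a e₁ e₀ e₄ : V} (h1 : mul a e₁ = e₁) (h0 : mul a e₀ = 0)
    (h4 : mul a e₄ = (1 / 4 : ℝ) • e₄) (h : e₁ + e₀ + e₄ = 0) : e₁ = 0 ∧ e₀ = 0 ∧ e₄ = 0 := by
  have hA := congrArg (mul a) h
  rw [map_add, map_add, h1, h0, h4, map_zero, add_zero] at hA
  have hB := congrArg (mul a) hA
  rw [map_add, map_smul, h1, h4, map_zero] at hB
  have h4z : (3 / 16 : ℝ) • e₄ = 0 := by
    calc (3 / 16 : ℝ) • e₄ = (e₁ + (1 / 4 : ℝ) • e₄) - (e₁ + (1 / 4 : ℝ) • (1 / 4 : ℝ) • e₄) := by module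
      _ = 0 := by rw [hA, hB, sub_zero]
  have he4 : e₄ = 0 := (smul_eq_zero.1 h4z).resolve_left (by norm_num)
  rw [he4, smul_zero, add_zero] at hA
  rw [he4, hA, zero_add, add_zero] at h
  exact ⟨hA, h, he4⟩

section
variable {μ : V ≃ₗ[ℝ] V} {a : V}

lemma idem (h : IsMajoranaPair mul B μ a) : mul a a = a := h.2.2.1.1.2.1

lemma eigen_one (h : IsMajoranaPair mul B μ a) {v : V} (hv : mul a v = v) :
    ∃ t : ℝ, t • a = v := by
  have : v ∈ eigen mul a 1 := mem_eigen.2 (by rw [one_smul, hv])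
  rw [h.2.2.1.2] at this
  exact Submodule.mem_span_singleton.1 this

lemma orth (hV : IsMajoranaAmbient mul B) (h : IsMajoranaPair mul B μ a) {v : V} {c : ℝ}
    (hv : mul a v = c • v) (hc : c ≠ 1) : B a v = 0 := by
  have e := hV.2.2.2.1 a a v
  rw [idem h, hv, map_smul, smul_eq_mul] at e
  by_contra h0
  exact hc (mul_right_cancel₀ h0 (by rw [e, one_mul]))

/-- A vector fixed by the involution has no component in the `1/32` eigenspace. -/
lemma decomp (hV : IsMajoranaAmbient mul B) (h : IsMajoranaPair mul B μ a) (hn : B a a = 1) {b : V}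
    (hb : μ b = b) : ∃ u w, mul a u = 0 ∧ mul a w = (1 / 4 : ℝ) • w ∧ b = B a b • a + u + w := by
  obtain ⟨-, -, ⟨⟨-, -, htop, -⟩, -⟩, hfix, hneg⟩ := id h
  have hb' : b ∈ eigenSum mul a majoranaSpectrum := htop ▸ Submodule.mem_top
  rw [majoranaSpectrum, eigenSum_insert, eigenSum_insert, eigenSum_insert, eigenSum_singleton] at hb'
  obtain ⟨e₁, he₁, r, hr, rfl⟩ := Submodule.mem_sup.1 hb'
  obtain ⟨e₀, he₀, r', hr', rfl⟩ := Submodule.mem_sup.1 hr
  obtain ⟨e₄, he₄, e₃, he₃, rfl⟩ := Submodule.mem_sup.1 hr'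
  have hplus : e₁ + e₀ + e₄ ∈ eigenSum mul a ({1, 0, 1 / 4} : Set ℝ) := by
    rw [eigenSum_insert, eigenSum_insert, eigenSum_singleton]
    exact add_mem (add_mem (Submodule.mem_sup_left he₁)
      (Submodule.mem_sup_right (Submodule.mem_sup_left he₀)))
      (Submodule.mem_sup_right (Submodule.mem_sup_right he₄))
  have hf : μ (e₁ + e₀ + e₄) = e₁ + e₀ + e₄ := hfix _ hplus
  have hn3 : μ e₃ = -e₃ := hneg _ he₃
  rw [show e₁ + (e₀ + (e₄ + e₃)) = (e₁ + e₀ + e₄) + e₃ by abel, map_add, hf, hn3,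
    add_left_cancel_iff] at hb
  have he3 : e₃ = 0 := by
    have h2 : (2 : ℝ) • e₃ = 0 := by rw [two_smul]; nth_rewrite 1 [← hb]; exact neg_add_cancel e₃
    exact (smul_eq_zero.1 h2).resolve_left (by norm_num)
  have hp : IsMajoranaPair mul B μ a := h
  obtain ⟨t, ht⟩ := eigen_one hp (by rw [mem_eigen.1 he₁, one_smul])
  have h0 : mul a e₀ = 0 := by rw [mem_eigen.1 he₀, zero_smul]
  refine ⟨e₀, e₄, h0, mem_eigen.1 he₄, ?_⟩
  have o0 : B a e₀ = 0 := orth hV hp (c := 0) (by rw [h0, zero_smul]) (by norm_num)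
  have o4 : B a e₄ = 0 := orth hV hp (mem_eigen.1 he₄) (by norm_num)
  rw [he3, add_zero, ← ht, map_add, map_add, map_smul, hn, o0, o4, smul_eq_mul, mul_one, add_zero,
    add_zero, add_assoc]

lemma mul_mul_axis (hV : IsMajoranaAmbient mul B) (h : IsMajoranaPair mul B μ a) (hn : B a a = 1)
    {b : V} (hb : μ b = b) :
    mul a (mul a b) = (3 * B a b / 4) • a + (1 / 4 : ℝ) • mul a b := by
  obtain ⟨u, w, hu, hw, hbe⟩ := decomp hV h hn hb
  set l := B a b
  rw [hbe]
  simp only [map_add, map_smul, idem h, hu, hw, add_zero]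
  module

end

/-- Two axes each fixed by the other's involution: type 2B or 2A, seen from the first. -/
theorem core (hV : IsMajoranaAmbient mul B) {μ ν : V ≃ₗ[ℝ] V} {a b : V}
    (ha : IsMajoranaPair mul B μ a) (hb : IsMajoranaPair mul B ν b) (hna : B a a = 1)
    (hnb : B b b = 1) (hμb : μ b = b) (hνa : ν a = a) (hne : a ≠ b) :
    (B a b = 0 ∧ mul a b = 0) ∨
      (B a b = 1 / 8 ∧
        mul (a + b - (8 : ℝ) • mul a b) (a + b - (8 : ℝ) • mul a b) = a + b - (8 : ℝ) • mul a b ∧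
        mul a (a + b - (8 : ℝ) • mul a b) =
          (1 / 8 : ℝ) • (a + (a + b - (8 : ℝ) • mul a b) - b)) := by
  obtain ⟨hcomm, hsymm, hpos, hassoc, -⟩ := id hV
  obtain ⟨u, w, hu, hw, hbe⟩ := decomp hV ha hna hμb
  have haa := idem ha
  have hbb := idem hb
  have hsw : mul b (mul b a) = (3 * B b a / 4) • b + (1 / 4 : ℝ) • mul b a := mul_mul_axis hV hb hnb hνa
  rw [hcomm b a, hsymm b a] at hsw
  set l := B a b with hl
  have o0 : B a u = 0 := orth hV ha (c := 0) (by rw [hu, zero_smul]) (by norm_num)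
  have o4 : B a w = 0 := orth hV ha hw (by norm_num)
  have o04 : B u w = 0 := by
    have e := hassoc u a w
    rw [hw, hcomm u a, hu, map_zero, LinearMap.zero_apply, map_smul, smul_eq_mul] at e
    linarith
  have hmem : ∀ {x : V} {c : ℝ}, mul a x = c • x → x ∈ eigen mul a c := fun h => mem_eigen.2 h
  have hsp0 : (0 : ℝ) ∈ majoranaSpectrum := by simp [majoranaSpectrum]
  have hsp4 : (1 / 4 : ℝ) ∈ majoranaSpectrum := by simp [majoranaSpectrum]
  have hu0 : u ∈ eigen mul a 0 := hmem (by rw [hu, zero_smul])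
  have hfus := ha.2.2.1.1.2.2.2
  -- products of components
  have huu : mul a (mul u u) = 0 := by
    have h := hfus 0 hsp0 0 hsp0 u hu0 u hu0
    rw [law_zero_zero, eigenSum_singleton, mem_eigen, zero_smul] at h
    exact h
  have huw : mul a (mul u w) = (1 / 4 : ℝ) • mul u w := by
    have h := hfus 0 hsp0 _ hsp4 u hu0 w (hmem hw)
    rw [law_zero_quarter, eigenSum_singleton, mem_eigen] at h
    exact h
  obtain ⟨s, p, hp, hwwe⟩ : ∃ (s : ℝ) (p : V), mul a p = 0 ∧ mul w w = s • a + p := by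
    have h := hfus _ hsp4 _ hsp4 w (hmem hw) w (hmem hw)
    rw [law_quarter_quarter, eigenSum_insert, eigenSum_singleton] at h
    obtain ⟨e, he, p, hp, hep⟩ := Submodule.mem_sup.1 h
    rw [mem_eigen, one_smul] at he
    rw [mem_eigen, zero_smul] at hp
    obtain ⟨s, hs⟩ := eigen_one ha he
    exact ⟨s, p, hp, by rw [hs, hep]⟩
  have huwc : mul w u = mul u w := hcomm w u
  -- `b` is idempotent
  have E := indep (mul := mul) (a := a)
    (e₁ := (l * l + s - l) • a) (e₀ := mul u u + p - u)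
    (e₄ := (l / 2) • w + (2 : ℝ) • mul u w - w)
    (by rw [map_smul, haa])
    (by rw [map_sub, map_add, huu, hp, hu]; abel)
    (by rw [map_sub, map_add, map_smul, map_smul, hw, huw]; module)
    (by
      have h := hbb
      rw [hbe] at h
      simp only [map_add, map_smul, LinearMap.add_apply, LinearMap.smul_apply, haa, hu, hw,
        hcomm u a, hcomm w a, huwc, hwwe] at h
      rw [← sub_eq_zero] at h
      rw [← h]
      module)
  obtain ⟨E1, E0, E4⟩ := E
  have ha0 : a ≠ 0 := ha.2.2.1.1.1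
  have hs : l * l + s - l = 0 := (smul_eq_zero.1 E1).resolve_right ha0
  have hww : B w w = 4 * s := by
    have e := hassoc a w w
    rw [hwwe, hw, map_add, map_smul, hna, map_smul, LinearMap.smul_apply, smul_eq_mul, smul_eq_mul,
      mul_one] at e
    have op : B a p = 0 := orth hV ha (c := 0) (by rw [hp, zero_smul]) (by norm_num)
    rw [op, add_zero] at e
    linarith
  have huwv : mul u w = ((1 - l / 2) / 2) • w := by
    have h2 : (2 : ℝ) • mul u w = (1 - l / 2) • w := by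
      rw [← sub_eq_zero, ← E4]; module
    calc mul u w = (1 / 2 : ℝ) • ((2 : ℝ) • mul u w) := by module
      _ = _ := by rw [h2]; module
  -- the second axis
  have E' := indep (mul := mul) (a := a)
    (e₁ := ((l * l + s / 4) - (3 * l * l / 4 + l / 4)) • a)
    (e₀ := (1 / 4 : ℝ) • p - (3 * l / 4) • u)
    (e₄ := ((5 * l / 16 + (1 - l / 2) / 8) - (3 * l / 4 + 1 / 16)) • w)
    (by rw [map_smul, haa])
    (by rw [map_sub, map_smul, map_smul, hp, hu]; simp)
    (by rw [map_smul, hw]; module)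
    (by
      have h := hsw
      rw [hbe] at h
      simp only [map_add, map_smul, LinearMap.add_apply, LinearMap.smul_apply, haa, hu, hw,
        hcomm u a, hcomm w a, huwc, huwv, hwwe, add_zero, smul_add, smul_smul, zero_add, smul_zero] at h
      rw [← sub_eq_zero] at h
      rw [← h]
      module)
  obtain ⟨-, -, F4⟩ := E'
  by_cases hw0 : w = 0
  · left
    have hs0 : s = 0 := by
      rw [hw0] at hww
      simp at hww
      linarith
    have hl01 : l * (l - 1) = 0 := by linarith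
    have hl0 : l = 0 := by
      rcases mul_eq_zero.1 hl01 with h | h
      · exact h
      · exfalso
        have hl1 : l = 1 := by linarith
        have hbu : B b b = 1 + B u u := by
          rw [hbe, hw0, hl1, one_smul, add_zero]
          simp only [map_add, LinearMap.add_apply, hna, o0, hsymm u a]
          ring
        have hu' : u = 0 := by
          by_contra hne'
          have := hpos u hne'
          linarith
        exact hne (by rw [hbe, hw0, hu', hl1, one_smul, add_zero, add_zero])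
    refine ⟨hl0, ?_⟩
    rw [hbe, hw0, hl0]
    simp [hu]
  · right
    have hl8 : l = 1 / 8 := by
      have := (smul_eq_zero.1 F4).resolve_right hw0
      linarith
    have hab : mul a b = (1 / 8 : ℝ) • a + (1 / 4 : ℝ) • w := by
      rw [hbe, hl8]
      simp only [map_add, map_smul, haa, hu, hw, add_zero]
    have ha2 : a + b - (8 : ℝ) • mul a b = (1 / 8 : ℝ) • a + u - w := by
      rw [hab]
      rw [hl8] at hbe
      rw [hbe]
      module
    refine ⟨hl8, ?_, ?_⟩
    · rw [ha2]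
      simp only [map_add, map_sub, map_smul, LinearMap.add_apply, LinearMap.sub_apply,
        LinearMap.smul_apply, haa, hu, hw, hcomm u a, hcomm w a, huwc, hwwe]
      rw [huwv, hl8, show mul u u = u - p by rw [← sub_eq_zero, ← E0]; abel]
      rw [show s = 1 / 8 - (1 / 8) * (1 / 8) by rw [hl8] at hs; linarith]
      module
    · rw [ha2]
      rw [hl8] at hbe
      simp only [map_add, map_sub, map_smul, haa, hu, hw]
      rw [hbe]
      module

theorem two_axes (hV : IsMajoranaAmbient mul B) {μ₀ μ₁ : V ≃ₗ[ℝ] V} {a₀ a₁ : V}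
    (h₀ : IsMajoranaPair mul B μ₀ a₀) (h₁ : IsMajoranaPair mul B μ₁ a₁)
    (hn₀ : B a₀ a₀ = 1) (hn₁ : B a₁ a₁ = 1) (hf₀ : μ₀ a₁ = a₁) (hf₁ : μ₁ a₀ = a₀) (hne : a₀ ≠ a₁) :
    (B a₀ a₁ = 0 ∧ mul a₀ a₁ = 0) ∨
      (B a₀ a₁ = 1 / 8 ∧
        mul (a₀ + a₁ - (8 : ℝ) • mul a₀ a₁) (a₀ + a₁ - (8 : ℝ) • mul a₀ a₁) =
          a₀ + a₁ - (8 : ℝ) • mul a₀ a₁ ∧
        mul a₀ (a₀ + a₁ - (8 : ℝ) • mul a₀ a₁) =
          (1 / 8 : ℝ) • (a₀ + (a₀ + a₁ - (8 : ℝ) • mul a₀ a₁) - a₁) ∧
        mul a₁ (a₀ + a₁ - (8 : ℝ) • mul a₀ a₁) =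
          (1 / 8 : ℝ) • (a₁ + (a₀ + a₁ - (8 : ℝ) • mul a₀ a₁) - a₀)) := by
  rcases core hV h₀ h₁ hn₀ hn₁ hf₀ hf₁ hne with h | ⟨h8, hidem, hA⟩
  · exact Or.inl h
  · refine Or.inr ⟨h8, hidem, hA, ?_⟩
    rcases core hV h₁ h₀ hn₁ hn₀ hf₁ hf₀ (Ne.symm hne) with ⟨h0, -⟩ | ⟨-, -, hB'⟩
    · exfalso
      rw [hV.2.1 a₁ a₀, h8] at h0
      norm_num at h0
    · rw [hV.1 a₁ a₀, add_comm a₁ a₀] at hB'
      exact hB'

/-- Conjugating a Majorana pair by a Majorana involution. -/
lemma pair_map (μ ν : V ≃ₗ[ℝ] V) {a : V} (hmul : ∀ u v, μ (mul u v) = mul (μ u) (μ v))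
    (hB : ∀ u v, B (μ u) (μ v) = B u v) (h : IsMajoranaPair mul B ν a) :
    IsMajoranaPair mul B (μ * ν * μ⁻¹) (μ a) := by
  have hap : ∀ v, (μ * ν * μ⁻¹) v = μ (ν (μ.symm v)) := fun v => rfl
  have hmul' : ∀ u v, μ.symm (mul u v) = mul (μ.symm u) (μ.symm v) := fun u v =>
    μ.injective (by rw [hmul, μ.apply_symm_apply, μ.apply_symm_apply, μ.apply_symm_apply])
  have heig : ∀ c : ℝ, eigen mul (μ a) c = (eigen mul a c).map (μ : V →ₗ[ℝ] V) := by
    intro c
    ext v
    rw [Submodule.mem_map_equiv, mem_eigen, mem_eigen]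
    constructor
    · intro hv
      have := congrArg μ.symm hv
      rwa [hmul', μ.symm_apply_apply, map_smul] at this
    · intro hv
      have := congrArg μ hv
      rwa [hmul, μ.apply_symm_apply, map_smul, μ.apply_symm_apply] at this
  have hsum : ∀ S : Set ℝ, eigenSum mul (μ a) S = (eigenSum mul a S).map (μ : V →ₗ[ℝ] V) := by
    intro S
    simp only [eigenSum, Submodule.map_iSup, heig]
  obtain ⟨hm, hb, ⟨⟨hne, hid, htop, hfus⟩, hone⟩, hfix, hneg⟩ := h
  refine ⟨fun u v => by rw [hap, hap, hap, hmul', hm, hmul], fun u v => ?_, ⟨⟨?_, ?_, ?_, ?_⟩, ?_⟩,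
    fun v hv => ?_, fun v hv => ?_⟩
  · rw [hap, hap, hB, hb, ← hB (μ.symm u), μ.apply_symm_apply, μ.apply_symm_apply]
  · simpa using hne
  · rw [← hmul, hid]
  · rw [hsum, htop, Submodule.map_top, LinearEquiv.range]
  · intro c hc d hd u hu v hv
    rw [heig, Submodule.mem_map_equiv] at hu hv
    rw [hsum, Submodule.mem_map_equiv, hmul']
    exact hfus c hc d hd _ hu _ hv
  · rw [heig, hone, Submodule.map_span, Set.image_singleton]
    rfl
  · rw [hsum, Submodule.mem_map_equiv] at hv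
    show μ (ν (μ.symm v)) = v
    rw [show ν (μ.symm v) = μ.symm v from hfix _ hv, μ.apply_symm_apply]
  · rw [heig, Submodule.mem_map_equiv] at hv
    show μ (ν (μ.symm v)) = -v
    rw [show ν (μ.symm v) = -μ.symm v from hneg _ hv, map_neg, μ.apply_symm_apply]

/-- All pairs of type 2A force at most four elements. -/
theorem card_le_four (hV : IsMajoranaAmbient mul B) (X : Subgroup (V ≃ₗ[ℝ] V))
    (hX : ∀ x ∈ X, x * x = 1) (ax : (V ≃ₗ[ℝ] V) → V)
    (hax : ∀ x ∈ X, x ≠ 1 → IsMajoranaPair mul B x (ax x))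
    (h1 : ∀ x ∈ X, x ≠ 1 → B (ax x) (ax x) = 1)
    (h2A : ∀ x ∈ X, ∀ y ∈ X, x ≠ 1 → y ≠ 1 → x ≠ y →
      mul (ax x) (ax y) = (1 / 8 : ℝ) • (ax x + ax y - ax (x * y))) :
    Nat.card ↥X ≤ 4 := by
  classical
  obtain ⟨hcm, hsymm, hpos, hassoc, -⟩ := id hV
  by_contra hgt
  push Not at hgt
  haveI : Finite X := Nat.finite_of_card_ne_zero (by omega)
  haveI := Fintype.ofFinite X
  rw [Nat.card_eq_fintype_card] at hgt
  have pick : ∀ s : Finset X, s.card ≤ 4 → ∃ x : X, x ∉ s := fun s hs => by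
    obtain ⟨x, -, hx⟩ := Finset.exists_mem_notMem_of_card_lt_card (s := s) (t := Finset.univ)
      (by rw [Finset.card_univ]; omega)
    exact ⟨x, hx⟩
  have hXinv : ∀ x : X, x * x = 1 := fun x => Subtype.ext (hX x x.2)
  have hi : ∀ x : X, x⁻¹ = x := fun x => inv_eq_of_mul_eq_one_left (hXinv x)
  have hcomm : ∀ x y : X, x * y = y * x := fun x y => by
    rw [← hi (x * y), mul_inv_rev, hi, hi]
  obtain ⟨x, hx⟩ := pick {1} (by simp)
  obtain ⟨y, hy⟩ := pick {1, x} (Finset.card_le_two.trans (by norm_num))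
  obtain ⟨z, hz⟩ := pick {1, x, y, x * y} Finset.card_le_four
  simp only [Finset.mem_insert, Finset.mem_singleton, not_or] at hx hy hz
  obtain ⟨hy1, hyx⟩ := hy
  obtain ⟨hz1, hzx, hzy, hzxy⟩ := hz
  set A : X → V := fun t => ax (t : V ≃ₗ[ℝ] V) with hA
  have prod : ∀ s t : X, s ≠ 1 → t ≠ 1 → s ≠ t →
      mul (A s) (A t) = (1 / 8 : ℝ) • (A s + A t - A (s * t)) := fun s t hs ht hst =>
    h2A _ s.2 _ t.2 (fun h => hs (Subtype.ext h)) (fun h => ht (Subtype.ext h))
      (fun h => hst (Subtype.ext h))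
  have e1 : ∀ s t : X, s * (s * t) = t := fun s t => by rw [← mul_assoc, hXinv, one_mul]
  have e2 : ∀ s t r : X, r = s * t ↔ s * r = t := fun s t r =>
    ⟨fun h => by rw [h, e1], fun h => by rw [← h, e1]⟩
  have hxy : x * y ≠ 1 := fun h => hyx (by rw [← e1 x y, h, mul_one])
  have hxz : x * z ≠ 1 := fun h => hzx (by rw [← e1 x z, h, mul_one])
  have hyz : y * z ≠ 1 := fun h => hzy (by rw [← e1 y z, h, mul_one])
  have hxyz : x * (y * z) ≠ 1 := fun h => hzxy (by
    have : y * z = x := by rw [← e1 x (y * z), h, mul_one]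
    rw [← e1 y z, this, hcomm y x])
  have nyxz : y ≠ x * z := fun h => hzxy ((e1 x z).symm.trans (congrArg (x * ·) h.symm))
  have nxyxz : x * y ≠ x * z := fun h => hzy (mul_left_cancel h).symm
  -- eigenvectors of `A x`
  have heig : ∀ t : X, t ≠ 1 → t ≠ x → x * t ≠ 1 →
      mul (A x) (A t - A (x * t)) = (1 / 4 : ℝ) • (A t - A (x * t)) := by
    intro t ht htx hxt
    rw [map_sub, prod x t hx ht (Ne.symm htx), prod x (x * t) hx hxt (fun h => ht (mul_eq_left.1 h.symm)),
      e1]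
    module
  have w1 := heig y hy1 hyx hxy
  have w2 := heig z hz1 hzx hxz
  have hyzx : y * z ≠ x := fun h => hzxy (by rw [← e1 y z, h, hcomm y x])
  have w3 := heig (y * z) hyz hyzx hxyz
  have hfus := (hax _ x.2 fun h => hx (Subtype.ext h)).2.2.1.1.2.2.2
  have hsp4 : (1 / 4 : ℝ) ∈ majoranaSpectrum := by simp [majoranaSpectrum]
  have hmem := hfus _ hsp4 _ hsp4 _ (mem_eigen.2 w1) _ (mem_eigen.2 w2)
  have hprod : mul (A y - A (x * y)) (A z - A (x * z)) =
      (-1 / 4 : ℝ) • (A (y * z) - A (x * (y * z))) := by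
    rw [map_sub, map_sub mul, LinearMap.sub_apply, LinearMap.sub_apply, prod y z hy1 hz1 (Ne.symm hzy),
      prod y (x * z) hy1 hxz nyxz, prod (x * y) z hxy hz1 (Ne.symm hzxy),
      prod (x * y) (x * z) hxy hxz nxyxz]
    rw [show y * (x * z) = x * (y * z) by rw [← mul_assoc, hcomm y x, mul_assoc],
      show x * y * z = x * (y * z) from mul_assoc _ _ _,
      show x * y * (x * z) = y * z by rw [hcomm x y, mul_assoc, e1]]
    module
  rw [law_quarter_quarter, eigenSum_insert, eigenSum_singleton] at hmem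
  obtain ⟨e, he, p, hp, hep⟩ := Submodule.mem_sup.1 hmem
  rw [mem_eigen, one_smul] at he
  rw [mem_eigen, zero_smul] at hp
  set w := A (y * z) - A (x * (y * z)) with hw
  have hzero := indep (mul := mul) (a := A x) (e₁ := e) (e₀ := p) (e₄ := (1 / 4 : ℝ) • w) he hp
    (by rw [map_smul, w3])
    (by rw [hep]; show mul (A y - A (x * y)) (A z - A (x * z)) + _ = 0; rw [hprod]; module)
  have hweq : A (y * z) = A (x * (y * z)) :=
    sub_eq_zero.1 ((smul_eq_zero.1 hzero.2.2).resolve_left (by norm_num))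
  -- but distinct axes are distinct
  have hne' : y * z ≠ x * (y * z) := fun h => hx (mul_eq_right.1 h.symm)
  have h := prod _ _ hyz hxyz hne'
  have e3 : y * z * (x * (y * z)) = x := by rw [hcomm x, e1]
  rw [e3, ← hweq] at h
  have hidem : mul (A (y * z)) (A (y * z)) = A (y * z) :=
    idem (hax _ (y * z).2 fun h' => hyz (Subtype.ext h'))
  rw [hidem] at h
  have hxeq : A x = (-6 : ℝ) • A (y * z) := by
    calc A x = A (y * z) + A (y * z) - (8 : ℝ) • ((1 / 8 : ℝ) • (A (y * z) + A (y * z) - A x)) := by module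
      _ = _ := by rw [← h]; module
  have n1 : B (A x) (A x) = 1 := h1 _ x.2 fun h' => hx (Subtype.ext h')
  have n2 : B (A (y * z)) (A (y * z)) = 1 := h1 _ (y * z).2 fun h' => hyz (Subtype.ext h')
  rw [hxeq] at n1
  simp only [map_smul, LinearMap.smul_apply, n2, smul_eq_mul] at n1
  norm_num at n1

end H99.Majorana
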