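import Cfsg.Agent.H20.Induced
import Cfsg.Agent.H20.SecondMain
import Cfsg.Agent.H20.DefectApps

/-!
# A criterion for a group to have a single `p`-block

If every irreducible character has positive defect and the centraliser of each element `t` of order `p` has a
normal `p`-subgroup `Q` with `C(t) ∩ C(Q) ≤ Q`, then there is only one `p`-block.
-/

set_option autoImplicit false
set_option linter.style.haveILetI false
set_option linter.unusedSectionVars false

open Cfsg MonoidAlgebra H20

namespace H99.OneBlock

universe u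

variable {p : ℕ} {M : Ideal AlgInt} [hMp : M.IsPrime] {G : Type u} [Group G] [Fintype G]

/-- A central element of augmentation zero whose Brauer image at a normal self-centralising
`p`-subgroup is taken is killed modulo that subgroup. -/
theorem mapDomain_eq_zero_of_augmentation [Fact p.Prime] {R : Type*} [CommRing R] [CharP R p]
    {Q : Subgroup G} [Q.Normal] (hQ : IsPGroup p Q)
    (hCQ : ∀ x ∈ Subgroup.centralizer (Q : Set G), x ∈ Q)
    {a : MonoidAlgebra R G} (ha : IsInv Q a) (h0 : ∑ x : G, a.coeff x = 0) :
    MonoidAlgebra.mapDomainRingHom R (QuotientGroup.mk' Q) a = 0 := by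
  classical
  have hbi : IsInv Q (br Q a) := fun g h hh => by
    have := br_isInv (P := Q) (Q := Q) Subgroup.le_normalizer ha g h hh
    exact this
  have h1 : MonoidAlgebra.mapDomainRingHom R (QuotientGroup.mk' Q) (a - br Q a) = 0 := by
    refine mapDomain_eq_zero_of_inv hQ (fun g h hh => ?_) (fun x hx => ?_)
    · simp [ha g h hh, hbi g h hh]
    · simp [coeff_br_of_mem _ hx]
  have h2 : MonoidAlgebra.mapDomainRingHom R (QuotientGroup.mk' Q) (br Q a) = 0 := by
    have e : (br Q a) = ∑ x : G, (br Q a).coeff x • MonoidAlgebra.single x (1 : R) := by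
      ext g
      simp [Finsupp.single_apply]
    rw [e, map_sum]
    have e1 : ∀ x : G, MonoidAlgebra.mapDomainRingHom R (QuotientGroup.mk' Q)
        ((br Q a).coeff x • MonoidAlgebra.single x (1 : R))
        = MonoidAlgebra.single (1 : G ⧸ Q) ((br Q a).coeff x) := by
      intro x
      by_cases hx : x ∈ Subgroup.centralizer (Q : Set G)
      · have : (QuotientGroup.mk' Q) x = 1 := (QuotientGroup.eq_one_iff _).2 (hCQ x hx)
        simp only [MonoidAlgebra.mapDomainRingHom_apply, MonoidAlgebra.mapDomain_smul, MonoidAlgebra.mapDomain_single]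
        rw [this]
        simp
      · simp [coeff_br_of_notMem _ hx]
    rw [Finset.sum_congr rfl fun x _ => e1 x]
    have e2 : ∑ x : G, (br Q a).coeff x = 0 := by
      rw [← h0]
      letI : MulAction Q G := MulAction.compHom G (MulAut.conj.comp Q.subtype)
      have hsmul : ∀ (u : Q) (x : G), u • x = u * x * (u : G)⁻¹ := fun u x => rfl
      conv_rhs => rw [sum_eq_sum_fixedPoints hQ (fun r : R => by
        rw [nsmul_eq_mul, CharP.cast_eq_zero R p, zero_mul]) _
        (fun u x => by rw [hsmul, ha x u u.2])]
      rw [Finset.sum_filter]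
      refine Finset.sum_congr rfl fun x _ => ?_
      by_cases hx : x ∈ Subgroup.centralizer (Q : Set G)
      · rw [coeff_br_of_mem _ hx, if_pos]
        intro u
        rw [hsmul, hx u u.2, mul_inv_cancel_right]
      · rw [coeff_br_of_notMem _ hx, if_neg]
        intro hfix
        exact hx fun u hu => by
          have := hfix ⟨u, hu⟩
          rw [hsmul, mul_inv_eq_iff_eq_mul] at this
          exact this
    ext q
    simp only [MonoidAlgebra.coeff_sum, Finsupp.coe_finset_sum, Finset.sum_apply,
      MonoidAlgebra.coeff_single, Finsupp.single_apply, MonoidAlgebra.coeff_zero, Finsupp.coe_zero,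
      Pi.zero_apply]
    split_ifs with hq
    · simpa [hq] using e2
    · simp [hq]
  rw [show a = (a - br Q a) + br Q a from (sub_add_cancel a _).symm, map_add, h1, h2, add_zero]

/-- The value of a modular central character on a class sum is the class length, given a good
element of order `p`. -/
theorem lam_clSum_eq_card (hM : IsPModular p M) (χ : IrrCharacter G) {t : G} (ht : orderOf t = p)
    {Q : Subgroup G} (hQ : IsPGroup p Q) (hQle : Q ≤ Subgroup.centralizer ({t} : Set G))
    (hQn : Subgroup.centralizer ({t} : Set G) ≤ Subgroup.normalizer (Q : Set G))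
    (hCQ : ∀ x ∈ Subgroup.centralizer ({t} : Set G), x ∈ Subgroup.centralizer (Q : Set G) → x ∈ Q)
    (hmeet : ∀ g : G, lam M χ (clSum (k M) g) ≠ 0 →
      ∃ h, IsConj g h ∧ h ∈ Subgroup.centralizer ({t} : Set G)) (g : G) :
    lam M χ (clSum (k M) g) = ((Nat.card {x : G // IsConj g x} : ℕ) : k M) := by
  classical
  haveI := k_charP hM
  haveI : Fact p.Prime := ⟨hM.1⟩
  set H := Subgroup.centralizer ({t} : Set G) with hH
  set P := Subgroup.zpowers t with hPdef
  have hP : IsPGroup p P := by
    refine IsPGroup.of_card (n := 1) ?_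
    rw [hPdef, Nat.card_zpowers, ht, pow_one]
  have hPC : Subgroup.centralizer (P : Set G) = H := by
    ext x
    constructor
    · intro hx
      exact Subgroup.mem_centralizer_singleton_iff.2 (hx t (Subgroup.mem_zpowers t)).symm
    · intro hx u hu
      obtain ⟨i, rfl⟩ := Subgroup.mem_zpowers_iff.1 hu
      exact (show Commute t x from (Subgroup.mem_centralizer_singleton_iff.1 hx).symm).zpow_left i
  set a : MonoidAlgebra (k M) G :=
    clSum (k M) g - ((Nat.card {x : G // IsConj g x} : ℕ) : k M) • 1 with ha
  have hacl : IsCl a := (isCl_clSum _ g).sub (isCl_one.smul _)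
  have haug : ∑ x : G, a.coeff x = 0 := by
    simp only [ha, MonoidAlgebra.coeff_sub, Finsupp.coe_sub, Pi.sub_apply, Finset.sum_sub_distrib,
      MonoidAlgebra.coeff_smul, Finsupp.coe_smul, Pi.smul_apply, coeff_clSum, MonoidAlgebra.one_def,
      MonoidAlgebra.coeff_single, Finsupp.single_apply, smul_eq_mul]
    have hcard : (∑ x : G, if IsConj g x then (1 : k M) else 0)
        = ((Nat.card {x : G // IsConj g x} : ℕ) : k M) := by
      rw [Nat.card_eq_fintype_card, Fintype.card_subtype, ← Finset.sum_boole]
    rw [sub_eq_zero, ← Finset.mul_sum, Finset.sum_ite_eq, if_pos (Finset.mem_univ _), mul_one]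
    rw [← hcard]
    refine Finset.sum_congr rfl fun x _ => ?_
    by_cases hx : IsConj g x
    · rw [if_pos hx, if_pos hx]
    · rw [if_neg hx, if_neg hx]
  -- the restriction to `H` is nilpotent
  haveI : (Q.subgroupOf H).Normal := (Subgroup.normal_subgroupOf_iff_le_normalizer hQle).2 hQn
  set x : MonoidAlgebra (k M) H := resAlg H (br P a) with hx
  have hxinv : IsInv (Q.subgroupOf H) x := fun h u _ => by
    have := br_isInv (P := P) (Q := H) (by
      intro c hc
      rw [Subgroup.mem_normalizer_iff]
      intro u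
      constructor
      · intro hu
        have hcu : c * u * c⁻¹ = u := by
          rw [← hPC] at hc
          rw [← hc u hu, mul_inv_cancel_right]
        rw [hcu]; exact hu
      · intro hu
        have hcu : c⁻¹ * (c * u * c⁻¹) * c = c * u * c⁻¹ := by
          rw [← hPC] at hc
          rw [mul_assoc, hc _ hu, inv_mul_cancel_left]
        have e : u = c * u * c⁻¹ := by rw [← hcu]; group
        rw [e]; exact hu) (hacl.isInv _) (h : G) (u : G) u.2
    simpa [hx, coeff_resAlg] using this
  have hxaug : ∑ h : H, x.coeff h = 0 := by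
    rw [← haug]
    letI : MulAction P G := MulAction.compHom G (MulAut.conj.comp P.subtype)
    have hsmul : ∀ (u : P) (x : G), u • x = u * x * (u : G)⁻¹ := fun u x => rfl
    conv_rhs => rw [sum_eq_sum_fixedPoints hP (fun r : k M => by
      rw [nsmul_eq_mul, CharP.cast_eq_zero (k M) p, zero_mul]) _
      (fun u x => by rw [hsmul]; exact hacl x u)]
    refine Finset.sum_bij (fun h _ => (h : G)) (fun h _ => ?_) (fun _ _ _ _ e => Subtype.ext e)
      (fun y hy => ?_) (fun h _ => ?_)
    · rw [Finset.mem_filter]
      refine ⟨Finset.mem_univ _, fun u => ?_⟩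
      have hh : (h : G) ∈ Subgroup.centralizer (P : Set G) := hPC.symm ▸ h.2
      rw [hsmul, hh u u.2, mul_inv_cancel_right]
    · rw [Finset.mem_filter] at hy
      have hy' : y ∈ H := by
        rw [← hPC]
        intro u hu
        have := hy.2 ⟨u, hu⟩
        rw [hsmul, mul_inv_eq_iff_eq_mul] at this
        exact this
      exact ⟨⟨y, hy'⟩, Finset.mem_univ _, rfl⟩
    · have hh : (h : G) ∈ Subgroup.centralizer (P : Set G) := hPC.symm ▸ h.2
      rw [hx, coeff_resAlg, coeff_br_of_mem _ hh]
  have hnil : IsNilpotent x := by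
    refine isNilpotent_of_mapDomain_eq_zero (p := p)
      (hQ.of_equiv (Subgroup.subgroupOfEquivOfLe hQle).symm)
      (mapDomain_eq_zero_of_augmentation (hQ.of_equiv (Subgroup.subgroupOfEquivOfLe hQle).symm)
        (fun y hy => ?_) hxinv hxaug)
    rw [Subgroup.mem_subgroupOf]
    exact hCQ _ y.2 fun u hu =>
      congrArg Subtype.val (hy ⟨u, hQle hu⟩ (Subgroup.mem_subgroupOf.2 hu))
  have hbr : br P a = extAlg H x := by
    ext y
    by_cases hy : y ∈ H
    · rw [show y = ((⟨y, hy⟩ : H) : G) from rfl, coeff_extAlg_coe, hx, coeff_resAlg]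
    · rw [coeff_extAlg_of_notMem H x hy, coeff_br_of_notMem _ (hPC ▸ hy)]
  obtain ⟨n, hn⟩ := hnil
  have hz : br P (a ^ (n + 1)) = 0 := by
    rw [br_pow hP (hacl.isInv P) n, hbr, ← map_pow, pow_succ, hn, zero_mul, map_zero]
  have hlam : lam M χ (a ^ (n + 1)) = 0 := by
    haveI := Fintype.ofFinite (ConjClasses G)
    rw [lam_eq_sum]
    refine Finset.sum_eq_zero fun C _ => ?_
    by_contra hne
    obtain ⟨h, hc, hh⟩ := hmeet C.out (by rw [lam_clSum]; exact right_ne_zero_of_mul hne)
    have h0 := congrArg (fun b => b.coeff h) hz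
    simp only [MonoidAlgebra.coeff_zero, Finsupp.coe_zero, Pi.zero_apply] at h0
    rw [coeff_br_of_mem _ (hPC ▸ hh), ← (hacl.pow (n + 1)).of_isConj hc] at h0
    exact left_ne_zero_of_mul hne h0
  rw [lam_pow χ hacl] at hlam
  have := eq_zero_of_pow_eq_zero hlam
  rwa [ha, lam_sub, lam_smul, lam_one, mul_one, sub_eq_zero] at this

/-- All irreducible characters lie in one block. -/
theorem sameBlock_of_local (hM : IsPModular p M)
    (hdef : ∀ χ : IrrCharacter G,
      (charDegree (χ : G → ℂ)).factorization p < (Nat.card G).factorization p)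
    (hloc : ∀ t : G, orderOf t = p → ∃ Q : Subgroup G, IsPGroup p Q ∧
      Q ≤ Subgroup.centralizer ({t} : Set G) ∧
      Subgroup.centralizer ({t} : Set G) ≤ Subgroup.normalizer (Q : Set G) ∧
      ∀ x ∈ Subgroup.centralizer ({t} : Set G), x ∈ Subgroup.centralizer (Q : Set G) → x ∈ Q)
    (χ ψ : IrrCharacter G) : SameBlock M (χ : G → ℂ) (ψ : G → ℂ) := by
  classical
  haveI : Fact p.Prime := ⟨hM.1⟩
  rw [sameBlock_iff]
  have key : ∀ φ : IrrCharacter G, ∀ g : G,
      lam M φ (clSum (k M) g) = ((Nat.card {x : G // IsConj g x} : ℕ) : k M) := by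
    intro φ g
    have hB := isPBlock_blockOf (M := M) φ
    obtain ⟨D, hD⟩ := exists_defectGroup hM hB
    have hpos : blockDefect p (blockOf M (φ : G → ℂ)) ≠ 0 := by
      have := Nat.sInf_le (s := (fun χ : IrrCharacter G => (charDegree (χ : G → ℂ)).factorization p) ''
        blockOf M (φ : G → ℂ)) ⟨φ, mem_blockOf_self φ, rfl⟩
      have h2 := hdef φ
      simp only at this
      unfold blockDefect
      omega
    have hdvd : p ∣ Nat.card D := by
      rw [card_defectGroup hM hB hD]
      exact dvd_pow_self p hpos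
    obtain ⟨z, hz⟩ := exists_prime_orderOf_dvd_card' p hdvd
    obtain ⟨Q, hQ, h1, h2, h3⟩ := hloc (z : G) (by rw [Subgroup.orderOf_coe, hz])
    refine lam_clSum_eq_card hM φ (by rw [Subgroup.orderOf_coe, hz]) hQ h1 h2 h3 (fun y hy => ?_) g
    obtain ⟨h, hc, hh⟩ := defectGroup_le_sylC hM hB hD (mem_blockOf_self φ) hy
    exact ⟨h, hc, Subgroup.mem_centralizer_singleton_iff.2 (hh z z.2).symm⟩
  intro g
  rw [key χ g, key ψ g]

end H99.OneBlock
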