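import Cfsg.Agent.H22.Divis
import Cfsg.Agent.H24.Arith
import Cfsg.Agent.H24.Quot
import Cfsg.Agent.H12.Integral
import Cfsg.Agent.H12.Orth

/-!
Lower bounds for the values of a character vanishing on 2-singular elements, on elements of odd prime order.
-/

set_option autoImplicit false
set_option linter.style.haveILetI false
set_option linter.unusedSectionVars false

open Cfsg Finset

namespace H99.OneBlockBound

universe u

/-- Squares of integers with fixed sum. -/
theorem sum_sq_ge {ι : Type*} [Fintype ι] (n : ι → ℕ) (p : ℕ) (hp : 0 < p)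
    (hι : Fintype.card ι ≤ p) :
    (∑ i, n i) ^ 2 + (∑ i, n i) % p * (p - (∑ i, n i) % p) ≤ p * ∑ i, (n i) ^ 2 := by
  obtain ⟨S, hS⟩ : ∃ S, S = ∑ i, n i := ⟨_, rfl⟩
  rw [← hS]
  obtain ⟨r, hr⟩ : ∃ r, r = S % p := ⟨_, rfl⟩
  obtain ⟨a, ha⟩ : ∃ a, a = S / p := ⟨_, rfl⟩
  have hSa : S = p * a + r := by rw [hr, ha]; exact (Nat.div_add_mod S p).symm
  have hrp : r < p := hr ▸ Nat.mod_lt _ hp
  rw [← hr]
  -- each term
  have h1 : ∀ i, (((n i : ℤ) - a)) ≤ ((n i : ℤ) - a) ^ 2 := fun i => Int.le_self_sq _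
  have h2 : ∑ i, (((n i : ℤ) - a)) ≤ ∑ i, ((n i : ℤ) - a) ^ 2 := Finset.sum_le_sum fun i _ => h1 i
  have e1 : ∑ i, (((n i : ℤ) - a)) = (S : ℤ) - (Fintype.card ι : ℤ) * a := by
    rw [Finset.sum_sub_distrib, Finset.sum_const, Finset.card_univ, nsmul_eq_mul, hS, Nat.cast_sum]
  have e2 : ∑ i, ((n i : ℤ) - a) ^ 2 =
      (∑ i, ((n i : ℤ)) ^ 2) - 2 * a * S + (Fintype.card ι : ℤ) * (a : ℤ) ^ 2 := by
    simp only [sub_sq, Finset.sum_add_distrib, Finset.sum_sub_distrib, Finset.sum_const,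
      Finset.card_univ, nsmul_eq_mul, ← Finset.sum_mul, ← Finset.mul_sum, hS, Nat.cast_sum]
    ring
  rw [e1, e2] at h2
  have hc : (Fintype.card ι : ℤ) ≤ p := by exact_mod_cast hι
  have key : (S : ℤ) ^ 2 + r * ((p : ℤ) - r) ≤ p * ∑ i, ((n i : ℤ)) ^ 2 := by
    have hSz : (S : ℤ) = p * a + r := by exact_mod_cast hSa
    nlinarith [mul_nonneg (mul_nonneg (sub_nonneg.2 hc) (Int.natCast_nonneg a))
      (Int.natCast_nonneg a), mul_nonneg (sub_nonneg.2 hc) (Int.natCast_nonneg a),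
      Int.natCast_nonneg p]
  have hpr : ((p - r : ℕ) : ℤ) = (p : ℤ) - r := by omega
  have : ((S ^ 2 + r * (p - r) : ℕ) : ℤ) ≤ ((p * ∑ i, (n i) ^ 2 : ℕ) : ℤ) := by
    push_cast [hpr] at key ⊢
    exact key
  exact_mod_cast this

variable {G : Type u} [Group G] [Fintype G]

/-- The character values on a cyclic group of prime order commuting with a 2-group of order `2 ^ a`. -/
theorem sum_zpowers_ge {p a d : ℕ} (hp : p.Prime) (hp2 : p ≠ 2) (χ : IrrCharacter G)
    (hd : H12.degree (χ : G → ℂ) = d) (hdvd : 2 ^ a ∣ d)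
    (hvan : ∀ g : G, 2 ∣ orderOf g → (χ : G → ℂ) g = 0)
    {r : G} (hr : orderOf r = p) (ha : 2 ^ a ∣ Nat.card (Subgroup.centralizer ({r} : Set G)))
    [Fintype (Subgroup.zpowers r)] :
    ((d ^ 2 + (2 ^ a) ^ 2 * ((d / 2 ^ a) % p * (p - (d / 2 ^ a) % p)) : ℕ) : ℝ) ≤
      ∑ x : Subgroup.zpowers r, Complex.normSq ((χ : G → ℂ) x) := by
  classical
  haveI : Fact (Nat.Prime 2) := ⟨Nat.prime_two⟩
  have hcard : Nat.card (Subgroup.zpowers r) = p := by rw [Nat.card_zpowers, hr]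
  set f : Subgroup.zpowers r → ℂ := fun x => (χ : G → ℂ) x with hf
  have hchar : IsCharacter (Subgroup.zpowers r) f :=
    H12.IsCharacter.res (H12.isCharacter_irr χ) _
  have hq0 : ((2 ^ a : ℕ) : ℂ) ≠ 0 := Nat.cast_ne_zero.2 (pow_ne_zero _ two_ne_zero)
  -- integrality of the quotient
  have hint : ∀ x : Subgroup.zpowers r, IsIntegral ℤ (f x / ((2 ^ a : ℕ) : ℂ)) := by
    intro x
    by_cases hx : (x : G) = 1
    · obtain ⟨c, hc⟩ := hdvd
      have e : f x / ((2 ^ a : ℕ) : ℂ) = (c : ℂ) := by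
        rw [div_eq_iff hq0, hf]
        simp only [hx, H12.irr_apply_one, hd, hc]
        push_cast; ring
      rw [e]
      exact H24.natCast_isIntegral c
    have hodd : ¬ 2 ∣ orderOf (x : G) := by
      intro h
      have h' : orderOf (x : G) ∣ p := hr ▸ orderOf_dvd_of_mem_zpowers x.2
      exact hp2 ((Nat.prime_dvd_prime_iff_eq Nat.prime_two hp).1 (h.trans h')).symm
    obtain ⟨avg, havg, hav⟩ := H22.exists_average_integral (p := 2) (g := (x : G)) hodd
    have e := hav (χ : G → ℂ) {χ} (fun _ => 1) (fun y => by simp) hvan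
    rw [Finset.sum_singleton, one_mul] at e
    have hle : a ≤ H22.cenExp 2 (x : G) := by
      refine (Nat.prime_two.pow_dvd_iff_le_factorization Nat.card_pos.ne').1
        (ha.trans (Subgroup.card_dvd_of_le fun g hg => ?_))
      obtain ⟨i, hi⟩ := Subgroup.mem_zpowers_iff.1 x.2
      rw [Subgroup.mem_centralizer_singleton_iff, ← hi]
      exact ((show Commute g r from Subgroup.mem_centralizer_singleton_iff.1 hg).zpow_right i).eq
    obtain ⟨b, hb⟩ := Nat.exists_eq_add_of_le hle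
    have e' : f x / ((2 ^ a : ℕ) : ℂ) = avg χ * ((2 ^ b : ℕ) : ℂ) := by
      rw [← e, hb, pow_add, hf]
      push_cast
      field_simp
    rw [e']
    exact (havg χ).mul (H24.natCast_isIntegral _)
  -- multiplicities
  obtain ⟨m, hm⟩ := H12.IsCharacter.exists_mult hchar
  have hinner : ∀ ψ : IrrCharacter (Subgroup.zpowers r), classInner f (ψ : Subgroup.zpowers r → ℂ) = (m ψ : ℂ) := fun ψ => by
    rw [hm]; exact H12.classInner_sum_smul_irr (fun χ => (m χ : ℂ)) ψ
  have hdiv : ∀ ψ : IrrCharacter (Subgroup.zpowers r), 2 ^ a ∣ m ψ := by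
    intro ψ
    have h1 := H12.sum_mul_conj_eq_card_mul f (ψ : Subgroup.zpowers r → ℂ)
    rw [hinner ψ, hcard] at h1
    have h2 : ((p * m ψ : ℕ) : ℂ) = ((2 ^ a : ℕ) : ℂ) *
        ∑ x : Subgroup.zpowers r, f x / ((2 ^ a : ℕ) : ℂ) *
          (starRingEnd ℂ) ((ψ : Subgroup.zpowers r → ℂ) x) := by
      rw [Finset.mul_sum, Nat.cast_mul, ← h1]
      refine Finset.sum_congr rfl fun x _ => ?_
      rw [← mul_assoc, mul_div_cancel₀ _ hq0]
    have h3 : 2 ^ a ∣ p * m ψ := H24.nat_dvd_of_eq_mul (IsIntegral.sum _ fun x _ =>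
      (hint x).mul (map_isIntegral_int (starRingEnd ℂ)
        (H12.IsCharacter.isIntegral (H12.isCharacter_irr ψ) x))) h2
    exact ((((Nat.coprime_primes Nat.prime_two hp).2 (Ne.symm hp2)).pow_left a)).dvd_of_dvd_mul_left h3
  choose n hn using hdiv
  -- degrees
  have hone : ∀ ψ : IrrCharacter (Subgroup.zpowers r), (ψ : Subgroup.zpowers r → ℂ) 1 = 1 := fun ψ => by
    rw [H24.irr_one, H24.charDegree_eq_one_of_comm (fun x y => Subtype.ext (by
      obtain ⟨i, hi⟩ := Subgroup.mem_zpowers_iff.1 x.2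
      obtain ⟨j, hj⟩ := Subgroup.mem_zpowers_iff.1 y.2
      rw [Subgroup.coe_mul, Subgroup.coe_mul, ← hi, ← hj]
      exact ((Commute.refl r).zpow_zpow i j).eq)) ψ, Nat.cast_one]
  have hdn : d = 2 ^ a * ∑ ψ, n ψ := by
    have h1 : (d : ℂ) = ((2 ^ a * ∑ ψ, n ψ : ℕ) : ℂ) := by
      have e := congrFun hm 1
      rw [hf] at e
      simp only [OneMemClass.coe_one, H12.irr_apply_one, hd, Finset.sum_apply, Pi.smul_apply,
        smul_eq_mul, hone, mul_one] at e
      rw [e, Finset.mul_sum, Nat.cast_sum]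
      exact Finset.sum_congr rfl fun ψ _ => by rw [hn ψ]
    exact_mod_cast h1
  have hquot : d / 2 ^ a = ∑ ψ, n ψ := by rw [hdn, Nat.mul_div_cancel_left _ (by positivity)]
  -- Parseval
  have hpar : ∑ x : Subgroup.zpowers r, Complex.normSq (f x) = ((p * ∑ ψ, (m ψ) ^ 2 : ℕ) : ℝ) := by
    have h1 := H12.sum_mul_conj_eq_card_mul f f
    rw [hcard] at h1
    conv_rhs at h1 => rw [hm, H12.classInner_sum_smul_sum_smul]
    simp only [Complex.mul_conj, map_natCast] at h1
    have h2 : ((∑ x, Complex.normSq (f x) : ℝ) : ℂ) = (((p * ∑ ψ, (m ψ) ^ 2 : ℕ) : ℝ) : ℂ) := by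
      push_cast
      rw [h1]
      simp only [sq]
    exact Complex.ofReal_inj.1 h2
  rw [show (∑ x : Subgroup.zpowers r, Complex.normSq ((χ : G → ℂ) x)) = _ from hpar]
  have hcardι : Fintype.card (IrrCharacter (Subgroup.zpowers r)) ≤ p := by
    have h := H12.linearIndependent_irr (Subgroup.zpowers r)
    have := h.fintype_card_le_finrank
    rwa [Module.finrank_fintype_fun_eq_card, ← Nat.card_eq_fintype_card (α := Subgroup.zpowers r),
      hcard] at this
  have key := sum_sq_ge n p hp.pos hcardι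
  rw [← hquot] at key
  have e3 : p * ∑ ψ, (m ψ) ^ 2 = (2 ^ a) ^ 2 * (p * ∑ ψ, (n ψ) ^ 2) := by
    simp only [hn, mul_pow, ← Finset.mul_sum]
    ring
  have e4 : d ^ 2 = (2 ^ a) ^ 2 * (d / 2 ^ a) ^ 2 := by
    rw [hquot, hdn]; ring
  have e5 := Nat.mul_le_mul_left ((2 ^ a) ^ 2) key
  rw [Nat.mul_add, ← e4, ← e3] at e5
  exact_mod_cast e5

/-- The contribution of the elements of order `p` to the norm. -/
theorem sum_order_ge {p a d N : ℕ} (hp : p.Prime) (hp2 : p ≠ 2) (χ : IrrCharacter G)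
    (hd : H12.degree (χ : G → ℂ) = d) (hdvd : 2 ^ a ∣ d)
    (hvan : ∀ g : G, 2 ∣ orderOf g → (χ : G → ℂ) g = 0)
    {r : G} (hr : orderOf r = p) (ha : 2 ^ a ∣ Nat.card (Subgroup.centralizer ({r} : Set G)))
    (hN : Nat.card {c : G // c * r * c⁻¹ ∈ Subgroup.zpowers r} ≤ N) :
    ((Nat.card G * ((2 ^ a) ^ 2 * ((d / 2 ^ a) % p * (p - (d / 2 ^ a) % p))) : ℕ) : ℝ) ≤
      (N : ℝ) * ∑ g ∈ univ.filter (fun g : G => orderOf g = p), Complex.normSq ((χ : G → ℂ) g) := by
  classical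
  haveI : Fintype (Subgroup.zpowers r) := Fintype.ofFinite _
  set F : G → ℝ := fun g => Complex.normSq ((χ : G → ℂ) g) with hF
  set S := univ.filter (fun g : G => orderOf g = p) with hS
  set P := (univ : Finset (Subgroup.zpowers r)).erase 1 with hPdef
  have hlow : (((2 ^ a) ^ 2 * ((d / 2 ^ a) % p * (p - (d / 2 ^ a) % p)) : ℕ) : ℝ) ≤
      ∑ x ∈ P, F x := by
    have h := sum_zpowers_ge hp hp2 χ hd hdvd hvan hr ha
    rw [← Finset.add_sum_erase _ _ (Finset.mem_univ (1 : Subgroup.zpowers r))] at h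
    simp only [OneMemClass.coe_one, H12.irr_apply_one, hd, Complex.normSq_natCast, Nat.cast_add,
      Nat.cast_pow] at h
    simp only [hF]
    rw [hPdef]
    nlinarith [h]
  -- double counting
  set J := ((univ : Finset G) ×ˢ P) with hJ
  set φ : G × Subgroup.zpowers r → G := fun j => j.1 * (j.2 : G) * j.1⁻¹ with hφ
  have hordP : ∀ x : Subgroup.zpowers r, x ∈ P → orderOf (x : G) = p := fun x hx => by
    rcases (Nat.dvd_prime hp).1 (hr ▸ orderOf_dvd_of_mem_zpowers x.2) with h | h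
    · exact absurd (Subtype.ext (orderOf_eq_one_iff.1 h)) (Finset.mem_erase.1 hx).1
    · exact h
  have hmaps : ∀ j ∈ J, φ j ∈ S := fun j hj => by
    rw [hS, Finset.mem_filter]
    refine ⟨Finset.mem_univ _, ?_⟩
    have e : φ j = MulAut.conj j.1 (j.2 : G) := rfl
    rw [e, MulEquiv.orderOf_eq]
    exact hordP _ (Finset.mem_product.1 hj).2
  have hfib : ∀ g ∈ S, ((J.filter fun j => φ j = g).card : ℝ) ≤ N := by
    intro g _
    rcases (J.filter fun j => φ j = g).eq_empty_or_nonempty with h0 | ⟨j0, hj0⟩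
    · rw [h0, Finset.card_empty, Nat.cast_zero]; positivity
    have hle : (J.filter fun j => φ j = g).card ≤ Nat.card {c : G // c * r * c⁻¹ ∈ Subgroup.zpowers r} := by
      rw [Nat.card_eq_fintype_card, Fintype.card_subtype]
      refine Finset.card_le_card_of_injOn (fun j => j0.1⁻¹ * j.1) (fun j hj => ?_) ?_
      · rw [Finset.mem_coe, Finset.mem_filter] at hj ⊢
        refine ⟨Finset.mem_univ _, ?_⟩
        obtain ⟨hj0m, hj0e⟩ := Finset.mem_filter.1 hj0
        have hx0 := (Finset.mem_product.1 hj0m).2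
        have hx := (Finset.mem_product.1 hj.1).2
        have e : j0.1⁻¹ * j.1 * (j.2 : G) * (j0.1⁻¹ * j.1)⁻¹ = (j0.2 : G) := by
          have := hj.2.trans hj0e.symm
          simp only [hφ] at this
          calc j0.1⁻¹ * j.1 * (j.2 : G) * (j0.1⁻¹ * j.1)⁻¹
              = j0.1⁻¹ * (j.1 * (j.2 : G) * j.1⁻¹) * j0.1 := by group
            _ = j0.1⁻¹ * (j0.1 * (j0.2 : G) * j0.1⁻¹) * j0.1 := by rw [this]
            _ = (j0.2 : G) := by group
        have hgen : r ∈ Subgroup.zpowers (j.2 : G) := by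
          have : Subgroup.zpowers (j.2 : G) = Subgroup.zpowers r :=
            Subgroup.eq_of_le_of_card_ge (Subgroup.zpowers_le.2 j.2.2)
              (by rw [Nat.card_zpowers, Nat.card_zpowers, hr, hordP _ hx])
          rw [this]; exact Subgroup.mem_zpowers r
        obtain ⟨i, hi⟩ := Subgroup.mem_zpowers_iff.1 hgen
        show j0.1⁻¹ * j.1 * r * (j0.1⁻¹ * j.1)⁻¹ ∈ Subgroup.zpowers r
        have e2 : j0.1⁻¹ * j.1 * ((j.2 : G) ^ i) * (j0.1⁻¹ * j.1)⁻¹ = (j0.2 : G) ^ i := by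
          rw [← conj_zpow, e]
        rw [hi] at e2
        rw [e2]
        exact Subgroup.zpow_mem _ j0.2.2 i
      · intro j hj j' hj' hjj
        have h1 : j.1 = j'.1 := mul_left_cancel hjj
        refine Prod.ext h1 (Subtype.ext ?_)
        have := (Finset.mem_filter.1 (Finset.mem_coe.1 hj)).2.trans
          (Finset.mem_filter.1 (Finset.mem_coe.1 hj')).2.symm
        simp only [hφ, h1] at this
        exact mul_left_cancel (mul_right_cancel this)
    exact_mod_cast hle.trans hN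
  have hsum : ∑ j ∈ J, F (φ j) = (Nat.card G : ℝ) * ∑ x ∈ P, F x := by
    rw [hJ, Finset.sum_product]
    rw [show (Nat.card G : ℝ) * ∑ x ∈ P, F x = ∑ _c : G, ∑ x ∈ P, F x by
      rw [Finset.sum_const, Finset.card_univ, nsmul_eq_mul, Nat.card_eq_fintype_card]]
    refine Finset.sum_congr rfl fun c _ => Finset.sum_congr rfl fun x _ => ?_
    simp only [hF, hφ, H12.irr_isClassFunction χ (x : G) c]
  have hle : ∑ j ∈ J, F (φ j) ≤ (N : ℝ) * ∑ g ∈ S, F g := by
    rw [← Finset.sum_fiberwise_of_maps_to hmaps, Finset.mul_sum]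
    refine Finset.sum_le_sum fun g hg => ?_
    rw [Finset.sum_congr rfl (fun j hj => by rw [(Finset.mem_filter.1 hj).2] :
      ∀ j ∈ J.filter (fun j => φ j = g), F (φ j) = F g), Finset.sum_const, nsmul_eq_mul]
    exact mul_le_mul_of_nonneg_right (hfib g hg) (Complex.normSq_nonneg _)
  rw [hsum] at hle
  rw [Nat.cast_mul]
  exact le_trans (mul_le_mul_of_nonneg_left hlow (Nat.cast_nonneg _)) hle

end H99.OneBlockBound
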