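import Cfsg.Agent.H94.Perm

/-! Data for the single 2-block of `M24`. -/

set_option autoImplicit false

namespace H99.OneBlockData

def qgensB : List ℕ := [735385133092051639856892755403118624, 956138802231383555134108374082558326, 984690096700511497057451740670141472, 708206627468469927746302892193294027, 735457312421301346770266117170628640, 291646613650543841761740723346154870]

def r5 : ℕ := 765267496591457679178044693280853057

def u5 : List ℕ := [858948926812011643931944781874375886, 101264212024676630693701102930058805]

def r7 : ℕ := 769330082117307290676923242217868353

def u7 : List ℕ := [358662142733855540651195105552730144]

def r11 : ℕ := 967522047159837615871897267329961025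

def u11 : List ℕ := []

def r23 : ℕ := 262596814834676303136614474191080513

def u23 : List ℕ := []

end H99.OneBlockData
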