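import Cfsg.Agent.H94.Centralisers
import Cfsg.Agent.H99.OneBlockData

/-!
Kernel checks for the single 2-block of `M24`.
-/

set_option autoImplicit false

namespace H99.OneBlockM24

open H94 H99.OneBlockData

/-- products of subsets of a list -/
noncomputable def prodB : List ℕ → List ℕ
  | [] => [pone]
  | a :: l => prodB l ++ (prodB l).map (pmul a)

/-- `P` and `q * c` agree, compared position by position -/
def prodEqB (P q c : ℕ) : Bool := (List.range 24).all fun i => Nat.beq (pap P i) (pap q (pap c i))

theorem gens_ok : (qgensB.all fun g => memB g && commB rep2free g && peq (pmul g g) pone &&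
    qgensB.all fun h => commB g h) = true := by decide +kernel

theorem norm_ok : ((centTrans ++ cent0List).all fun c => qgensB.all fun g =>
    (fun L P => L.any fun q => prodEqB P q c) (prodB qgensB) (pmul c g)) = true := by
  decide +kernel

/-- `P * R = S * P`, compared position by position -/
def relB (R S P : ℕ) : Bool :=
  (List.range 24).all fun i => Nat.beq (pap P (pap R i)) (pap S (pap P i))

theorem self_cent_ok : (fun L => centTrans.all fun a => cent0List.all fun s =>
    (fun P => !(qgensB.all fun g => relB g g P) || L.any fun q => peq P q) (pmul a s))
      (prodB qgensB) = true := by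
  decide +kernel

theorem rep2eight_fixes :
    ((List.range 24).any fun i => Nat.beq (pap rep2eight i) i) = true := by decide +kernel

/-- powers -/
noncomputable def pp (R : ℕ) : ℕ → ℕ
  | 0 => pone
  | j + 1 => pmul R (pp R j)

/-- filter: `g * r = s * g` -/
def relF (R S l Q : ℕ) : Bool :=
  (List.range (l + 1)).all fun i => Nat.blt l (pap R i) ||
    Nat.beq (pap Q (pap R i)) (pap S (pap Q i))

/-- elements with `g * r = r ^ j * g` for a `0 < j < p` -/
noncomputable def normList (R p : ℕ) : List ℕ :=
  (List.range (p - 1)).flatMap fun j =>
    (fun S => (search (relF R S)).filter fun P => relB R S P) (pp R (j + 1))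

/-- the representative check: an element of order `p` centralised by the given group -/
noncomputable def repB (R p : ℕ) (us : List ℕ) : Bool :=
  memB R && peq (pp R p) pone && !peq R pone &&
    us.all fun u => memB u && commB R u && peq (pmul u u) pone

theorem rep5_ok : repB r5 5 u5 = true := by decide +kernel
theorem rep7_ok : repB r7 7 u7 = true := by decide +kernel
theorem rep11_ok : repB r11 11 u11 = true := by decide +kernel
theorem rep23_ok : repB r23 23 u23 = true := by decide +kernel

theorem u7_ok : (u7.all fun u => !peq u pone) = true := by decide +kernel

theorem u5_ok : (fun L => (List.range L.length).all fun i => (List.range i).all fun j =>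
    !peq (L.getD i 0) (L.getD j 0)) (prodB u5) = true := by decide +kernel

theorem u5_comm : (u5.all fun u => u5.all fun w => commB u w) = true := by decide +kernel

theorem norm5_ok : Nat.ble (normList r5 5).length 240 = true := by decide +kernel
theorem norm7_ok : Nat.ble (normList r7 7).length 126 = true := by decide +kernel
theorem norm11_ok : Nat.ble (normList r11 11).length 110 = true := by decide +kernel
theorem norm23_ok : Nat.ble (normList r23 23).length 253 = true := by decide +kernel

end H99.OneBlockM24
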