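import Cfsg.Agent.H99.OneBlockCheck
import Cfsg.Agent.H99.OneBlock
import Cfsg.Agent.H99.OneBlockBound
import Cfsg.Agent.H90.CentralizerLarge

/-!
`M24` has a single 2-block: centralisers of involutions and the absence of a character of full degree 2-part.
-/

set_option autoImplicit false
set_option linter.style.haveILetI false
set_option linter.unusedSectionVars false

open Cfsg H94 H99.OneBlockData

namespace H99.OneBlockM24

/-- The group. -/
abbrev G24 : Type := ↥Cfsg.M24

theorem eq_of_prodEqB {P q c : ℕ} {g y a : Equiv.Perm GolayPt} (hP : Reps P g) (hq : Reps q y)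
    (hc : Reps c a) (h : prodEqB P q c = true) : g = y * a := by
  refine Equiv.ext fun x => idxN_injective ?_
  have h' := Nat.eq_of_beq_eq_true
    (List.all_eq_true.mp h (idxN x) (List.mem_range.mpr (idxN_lt x)))
  rw [hP _ (idxN_lt x), ptN_idxN, hq _ (hc.pap_lt (idxN_lt x)), hc _ (idxN_lt x), ptN_idxN,
    ptN_idxN] at h'
  exact h'

theorem relB_of_eq {R S P : ℕ} {r s g : Equiv.Perm GolayPt} (hR : Reps R r) (hS : Reps S s)
    (hP : Reps P g) (h : g * r = s * g) : relB R S P = true := by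
  rw [relB, List.all_eq_true]
  intro i hi
  have hi' := List.mem_range.mp hi
  rw [hP _ (hR.pap_lt hi'), hR i hi', ptN_idxN, hS _ (hP.pap_lt hi'), hP i hi', ptN_idxN,
    ← Equiv.Perm.mul_apply, h, Equiv.Perm.mul_apply]
  exact Nat.beq_refl _

theorem relF_spec {R S : ℕ} {r s g : Equiv.Perm GolayPt} (hR : Reps R r) (hS : Reps S s)
    (hc : g * r = s * g) : ∀ l, l < 5 → ∀ Q, Agree g (l + 1) Q → relF R S l Q = true := by
  intro l hl Q hQ
  rw [relF, List.all_eq_true]
  intro i hi
  have hi' := List.mem_range.mp hi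
  rw [Bool.or_eq_true]
  by_cases h : l < pap R i
  · exact Or.inl (Nat.ble_eq_true_of_le h)
  · refine Or.inr ?_
    rw [hQ i hi', hQ (pap R i) (by omega), hR i (by omega), hS _ (idxN_lt _), ptN_idxN, ptN_idxN,
      ← Equiv.Perm.mul_apply, ← Equiv.Perm.mul_apply, hc]
    exact Nat.beq_refl _

/-- `x` has the encoding `P` after moving by `u`. -/
def CR (u : G24) (P : ℕ) (x : G24) : Prop := Reps P (u * x * u⁻¹ : G24).1

theorem CR.mul {u x y : G24} {P Q : ℕ} (hx : CR u P x) (hy : CR u Q y) :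
    CR u (pmul P Q) (x * y) := by
  have h := Reps.mul hx hy
  rwa [← Subgroup.coe_mul, show u * x * u⁻¹ * (u * y * u⁻¹) = u * (x * y) * u⁻¹ by group] at h

theorem cr_one (u : G24) : CR u pone 1 := by
  show Reps pone (u * 1 * u⁻¹ : G24).1
  rw [mul_one, mul_inv_cancel]
  exact reps_one

theorem CR.unique {u x y : G24} {P : ℕ} (hx : CR u P x) (hy : CR u P y) : x = y :=
  mul_left_cancel (mul_right_cancel (Subtype.ext (Reps.unique hx hy)))

theorem CR.eq_of_peq {u x y : G24} {P Q : ℕ} (hx : CR u P x) (hy : CR u Q y)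
    (h : peq P Q = true) : x = y :=
  mul_left_cancel (mul_right_cancel (Subtype.ext (Reps.eq_of_peq hx hy h)))

theorem cr_conj (u y : G24) {P : ℕ} (hR : Reps P y.1) : CR u P (u⁻¹ * y * u) := by
  unfold CR
  rw [show u * (u⁻¹ * y * u) * u⁻¹ = y by group]
  exact hR

theorem exists_cr (u : G24) {P : ℕ} (h : memB P = true) : ∃ x : G24, CR u P x := by
  obtain ⟨g, hg, hR⟩ := exists_perm_of_memB h
  exact ⟨_, cr_conj u ⟨g, hg⟩ hR⟩

/-- The subgroup generated by the encoded elements. -/
def gSub (u : G24) (L : List ℕ) : Subgroup G24 := Subgroup.closure {x | ∃ P ∈ L, CR u P x}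

theorem mem_gSub_of_prodB (u : G24) {L : List ℕ} (hm : ∀ P ∈ L, memB P = true) :
    ∀ P ∈ prodB L, ∃ x ∈ gSub u L, CR u P x := by
  suffices H : ∀ L' : List ℕ, (∀ P ∈ L', P ∈ L) → ∀ P ∈ prodB L', ∃ x ∈ gSub u L, CR u P x from
    H L fun _ h => h
  intro L'
  induction L' with
  | nil =>
    intro _ P hP
    rw [prodB, List.mem_singleton] at hP
    exact ⟨1, one_mem _, hP ▸ cr_one u⟩
  | cons a l ih =>
    intro hsub P hP
    have ih' := ih fun Q hQ => hsub Q (List.mem_cons_of_mem _ hQ)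
    rw [prodB, List.mem_append, List.mem_map] at hP
    rcases hP with hP | ⟨Q, hQ, rfl⟩
    · exact ih' P hP
    obtain ⟨y, hy, hyQ⟩ := ih' Q hQ
    have ha := hsub a List.mem_cons_self
    obtain ⟨x, hx⟩ := exists_cr u (hm a ha)
    exact ⟨x * y, mul_mem (Subgroup.subset_closure ⟨a, ha, hx⟩) hy, hx.mul hyQ⟩

theorem gSub_isPGroup (u : G24) {L : List ℕ}
    (hc : ∀ g ∈ L, peq (pmul g g) pone = true ∧ ∀ h ∈ L, commB g h = true) :
    IsPGroup 2 (gSub u L) := by
  have hcomm : gSub u L ≤ Subgroup.centralizer (gSub u L : Set G24) := by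
    have h1 : gSub u L ≤ Subgroup.centralizer {x | ∃ P ∈ L, CR u P x} := by
      refine (Subgroup.closure_le _).mpr ?_
      rintro x ⟨P, hP, hx⟩ y ⟨Q, hQ, hy⟩
      exact (hx.mul hy).eq_of_peq (hy.mul hx) ((hc Q hQ).2 P hP) |>.symm
    refine (Subgroup.closure_le _).mpr ?_
    intro x hx y hy
    exact ((h1 hy) x hx).symm
  have hsq : ∀ x ∈ gSub u L, x * x = 1 := by
    intro x hx
    induction hx using Subgroup.closure_induction with
    | mem x hx =>
      obtain ⟨P, hP, hx⟩ := hx
      exact (hx.mul hx).eq_of_peq (cr_one u) (hc P hP).1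
    | one => exact one_mul 1
    | mul x y hx hy hx2 hy2 =>
      have e : y * x = x * y := hcomm hx y hy
      calc x * y * (x * y) = x * (y * x) * y := by group
        _ = x * (x * y) * y := by rw [e]
        _ = (x * x) * (y * y) := by group
        _ = 1 := by rw [hx2, hy2, one_mul]
    | inv x _ hx2 => rw [← mul_inv_rev, hx2, inv_one]
  intro x
  exact ⟨1, Subtype.ext (by
    rw [pow_one, SubgroupClass.coe_pow, pow_two, OneMemClass.coe_one]; exact hsq x.1 x.2)⟩

theorem gSub_le_centralizer {u t : G24} {R : ℕ} {L : List ℕ} (ht : CR u R t)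
    (hc : ∀ g ∈ L, commB R g = true) : gSub u L ≤ Subgroup.centralizer ({t} : Set G24) := by
  refine (Subgroup.closure_le _).mpr ?_
  rintro x ⟨P, hP, hx⟩
  exact Subgroup.mem_centralizer_singleton_iff.mpr
    ((hx.mul ht).eq_of_peq (ht.mul hx) (hc P hP))

theorem qgens_facts : ∀ g ∈ qgensB, memB g = true ∧ commB rep2free g = true ∧
    peq (pmul g g) pone = true ∧ ∀ h ∈ qgensB, commB g h = true := by
  intro g hg
  have h := List.all_eq_true.mp gens_ok g hg
  simp only [Bool.and_eq_true, List.all_eq_true] at h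
  exact ⟨h.1.1.1, h.1.1.2, h.1.2, h.2⟩

/-- decomposition of an element of the centraliser -/
theorem cent_decomp {u t c : G24} (ht : CR u rep2free t) (hc : c * t = t * c) :
    ∃ A B : G24, c = A * B ∧ ∃ a ∈ centTrans, ∃ s ∈ cent0List, CR u a A ∧ CR u s B := by
  set ρ := (u * t * u⁻¹ : G24) with hρ
  set c' := (u * c * u⁻¹ : G24) with hc'
  have hcomm : c' * ρ = ρ * c' := by
    rw [hρ, hc', show u * c * u⁻¹ * (u * t * u⁻¹) = u * (c * t) * u⁻¹ by group, hc]
    group
  obtain ⟨a, ⟨ha, hac, ha0⟩, P, hP, hPR⟩ := cent_trans (ρ := ρ.1) ht (c'.1 (ptN 0))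
  set A' : G24 := ⟨a, ha⟩ with hA'
  have hac' : A' * ρ = ρ * A' := Subtype.ext hac
  have hs : (A'⁻¹ * c').1 * ρ.1 = ρ.1 * (A'⁻¹ * c').1 := congrArg Subtype.val
    ((Commute.inv_left (show Commute A' ρ from hac')).mul_left (show Commute c' ρ from hcomm)).eq
  have hs0 : (A'⁻¹ * c').1 (ptN 0) = ptN 0 := by
    show a⁻¹ (c'.1 (ptN 0)) = ptN 0
    rw [Equiv.Perm.inv_def, Equiv.symm_apply_eq, ha0]
  obtain ⟨S, hS, hSR⟩ := cent0_complete ht (A'⁻¹ * c').2 hs hs0
  exact ⟨u⁻¹ * A' * u, u⁻¹ * (A'⁻¹ * c') * u, by rw [hc']; group, P, hP, S, hS,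
    cr_conj u A' hPR, cr_conj u (A'⁻¹ * c') hSR⟩

theorem conj_mem {u A : G24} {c : ℕ} (hc : c ∈ centTrans ++ cent0List) (hA : CR u c A) :
    ∀ x ∈ gSub u qgensB, A * x * A⁻¹ ∈ gSub u qgensB := by
  intro x hx
  induction hx using Subgroup.closure_induction with
  | mem x hx =>
    obtain ⟨g, hg, hxg⟩ := hx
    obtain ⟨q, hq, he⟩ := List.any_eq_true.mp
      (List.all_eq_true.mp (List.all_eq_true.mp norm_ok c hc) g hg)
    obtain ⟨y, hy, hyq⟩ := mem_gSub_of_prodB u (fun P hP => (qgens_facts P hP).1) q hq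
    have e := eq_of_prodEqB (hA.mul hxg) hyq hA he
    rw [← Subgroup.coe_mul,
      show u * y * u⁻¹ * (u * A * u⁻¹) = u * (y * A) * u⁻¹ by group] at e
    rw [mul_left_cancel (mul_right_cancel (Subtype.ext e)), mul_inv_cancel_right]
    exact hy
  | one => simp
  | mul x y _ _ hx hy =>
    rw [show A * (x * y) * A⁻¹ = (A * x * A⁻¹) * (A * y * A⁻¹) by group]
    exact mul_mem hx hy
  | inv x _ hx =>
    rw [show A * x⁻¹ * A⁻¹ = (A * x * A⁻¹)⁻¹ by group]
    exact inv_mem hx

theorem local_free {u t : G24} (ht : CR u rep2free t) :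
    ∃ Q : Subgroup G24, IsPGroup 2 Q ∧ Q ≤ Subgroup.centralizer ({t} : Set G24) ∧
      Subgroup.centralizer ({t} : Set G24) ≤ Subgroup.normalizer (Q : Set G24) ∧
      ∀ x ∈ Subgroup.centralizer ({t} : Set G24), x ∈ Subgroup.centralizer (Q : Set G24) → x ∈ Q := by
  refine ⟨gSub u qgensB, gSub_isPGroup u fun g hg => (qgens_facts g hg).2.2,
    gSub_le_centralizer ht fun g hg => (qgens_facts g hg).2.1, ?_, ?_⟩
  · have key : ∀ c ∈ Subgroup.centralizer ({t} : Set G24), ∀ x ∈ gSub u qgensB,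
        c * x * c⁻¹ ∈ gSub u qgensB := by
      intro c hc x hx
      obtain ⟨A, B, rfl, a, ha, s, hs, hA, hB⟩ :=
        cent_decomp ht (Subgroup.mem_centralizer_singleton_iff.mp hc)
      rw [show A * B * x * (A * B)⁻¹ = A * (B * x * B⁻¹) * A⁻¹ by group]
      exact conj_mem (List.mem_append_left _ ha) hA _
        (conj_mem (List.mem_append_right _ hs) hB x hx)
    intro c hc
    rw [Subgroup.mem_normalizer_iff]
    refine fun x => ⟨key c hc x, fun h => ?_⟩
    have h2 := key c⁻¹ (inv_mem hc) _ h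
    rwa [show c⁻¹ * (c * x * c⁻¹) * c⁻¹⁻¹ = x by group] at h2
  · intro x hx hxQ
    obtain ⟨A, B, rfl, a, ha, s, hs, hA, hB⟩ :=
      cent_decomp ht (Subgroup.mem_centralizer_singleton_iff.mp hx)
    have h := List.all_eq_true.mp (List.all_eq_true.mp self_cent_ok a ha) s hs
    rw [Bool.or_eq_true, Bool.not_eq_true', List.any_eq_true] at h
    rcases h with h | ⟨q, hq, he⟩
    · exfalso
      rw [Bool.eq_false_iff] at h
      refine h (List.all_eq_true.mpr fun g hg => ?_)
      obtain ⟨y, hy⟩ := exists_cr u (qgens_facts g hg).1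
      have e : y * (A * B) = A * B * y := hxQ y (Subgroup.subset_closure ⟨g, hg, hy⟩)
      refine relB_of_eq hy hy (hA.mul hB) ?_
      rw [← Subgroup.coe_mul, ← Subgroup.coe_mul]
      refine congrArg Subtype.val ?_
      calc u * (A * B) * u⁻¹ * (u * y * u⁻¹) = u * (A * B * y) * u⁻¹ := by group
        _ = u * (y * (A * B)) * u⁻¹ := by rw [e]
        _ = u * y * u⁻¹ * (u * (A * B) * u⁻¹) := by group
    · obtain ⟨y, hy, hyq⟩ := mem_gSub_of_prodB u (fun P hP => (qgens_facts P hP).1) q hq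
      rw [(hA.mul hB).eq_of_peq hyq he]
      exact hy

theorem local_all (t : G24) (ht : orderOf t = 2) :
    ∃ Q : Subgroup G24, IsPGroup 2 Q ∧ Q ≤ Subgroup.centralizer ({t} : Set G24) ∧
      Subgroup.centralizer ({t} : Set G24) ≤ Subgroup.normalizer (Q : Set G24) ∧
      ∀ x ∈ Subgroup.centralizer ({t} : Set G24), x ∈ Subgroup.centralizer (Q : Set G24) → x ∈ Q := by
  have ht' : orderOf t.1 = 2 := by rw [Subgroup.orderOf_coe, ht]
  obtain ⟨k, hk, ρ, hρ, he, hcase⟩ := H90.involution_class t.2 ht'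
  rcases hcase with ⟨hR, -⟩ | ⟨-, hfree⟩
  · set K : G24 := ⟨k, hk⟩ with hK
    have hz : H90.CRepr K t H90.invAN := by
      show H90.Repr (K⁻¹ * t * K : G24).1 H90.invAN
      have e : (K⁻¹ * t * K : G24).1 = ρ := by
        show k⁻¹ * t.1 * k = ρ
        rw [← he]; group
      rw [e]; exact hR
    refine ⟨H90.coreSub K, H90.coreSub_pGroup, H90.coreSub_le_centralizer hz,
      H90.coreSub_normalized hz, fun x _ hx => ?_⟩
    rw [H90.centralizer_coreSub hz] at hx
    obtain ⟨y, -, rfl⟩ := hx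
    exact y.2
  · have hne : t.1 ≠ 1 := fun e => by rw [e, orderOf_one] at ht'; omega
    obtain ⟨r, hr, u, hu, hru⟩ := class_two t.2 (by rw [← ht']; exact pow_orderOf_eq_one _) hne
    simp only [List.mem_cons, List.not_mem_nil, or_false] at hr
    rcases hr with rfl | rfl
    · exfalso
      obtain ⟨i, hi, hfix⟩ := List.any_eq_true.mp rep2eight_fixes
      have hi' := List.mem_range.mp hi
      have e := hru i hi'
      rw [Nat.eq_of_beq_eq_true hfix] at e
      have e2 : (u * t.1 * u⁻¹) (ptN i) = ptN i :=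
        idxN_injective (by rw [← e, idxN_ptN hi'])
      exact hfree (u⁻¹ (ptN i)) (u.injective (by simpa using e2))
    · exact local_free (u := ⟨u, hu⟩) hru

/-! ### Elements of odd prime order -/

theorem reps_pow {R : ℕ} {r : G24} (h : Reps R r.1) : ∀ j, Reps (pp R j) (r ^ j : G24).1
  | 0 => by rw [pow_zero]; exact reps_one
  | j + 1 => by
    rw [pow_succ']
    exact h.mul (reps_pow h j)

theorem exists_rep {R p : ℕ} {us : List ℕ} (hp : p.Prime) (h : repB R p us = true) :
    ∃ r : G24, Reps R r.1 ∧ orderOf r = p ∧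
      (∀ u ∈ us, memB u = true ∧ commB R u = true ∧ peq (pmul u u) pone = true) := by
  haveI : Fact p.Prime := ⟨hp⟩
  simp only [repB, Bool.and_eq_true, Bool.not_eq_true', List.all_eq_true] at h
  obtain ⟨⟨⟨hm, hpow⟩, hne⟩, hus⟩ := h
  obtain ⟨g, hg, hR⟩ := exists_perm_of_memB hm
  refine ⟨⟨g, hg⟩, hR, orderOf_eq_prime ?_ ?_, fun u hu => ⟨(hus u hu).1.1, (hus u hu).1.2, (hus u hu).2⟩⟩
  · exact Subtype.ext ((reps_pow (r := ⟨g, hg⟩) hR p).eq_of_peq reps_one hpow)
  · intro e
    have hg1 : g = 1 := congrArg Subtype.val e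
    rw [hR.peq_of_eq (hg1 ▸ reps_one)] at hne
    exact Bool.noConfusion hne

theorem card_norm_le {R p N : ℕ} (hp : p.Prime) {r : G24} (hR : Reps R r.1) (hr : orderOf r = p)
    (h : Nat.ble (normList R p).length N = true) :
    Nat.card {c : G24 // c * r * c⁻¹ ∈ Subgroup.zpowers r} ≤ N := by
  classical
  have hex : ∀ c : {c : G24 // c * r * c⁻¹ ∈ Subgroup.zpowers r},
      ∃ i : Fin (normList R p).length, Reps (normList R p)[i.val] c.1.1 := by
    intro c
    obtain ⟨i, hi⟩ := mem_powers_iff_mem_zpowers.mpr c.2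
    have hi' : c.1 * r * c.1⁻¹ = r ^ (i % p) := by
      rw [← hr, pow_mod_orderOf]; exact hi.symm
    have h0 : i % p ≠ 0 := by
      intro e
      rw [e, pow_zero, conj_eq_one_iff] at hi'
      rw [hi', orderOf_one] at hr
      exact hp.ne_one hr.symm
    have hcr : c.1.1 * r.1 = (r ^ (i % p) : G24).1 * c.1.1 := by
      rw [← Subgroup.coe_mul, ← Subgroup.coe_mul, ← hi', inv_mul_cancel_right]
    obtain ⟨P, hP, hPR⟩ := search_complete (relF R (pp R (i % p))) c.1.2
      (relF_spec hR (reps_pow hR _) hcr)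
    have hmem : P ∈ normList R p := by
      refine List.mem_flatMap.mpr ⟨i % p - 1, List.mem_range.mpr ?_, ?_⟩
      · have := Nat.mod_lt i hp.pos; omega
      · rw [show i % p - 1 + 1 = i % p by omega]
        exact List.mem_filter.mpr ⟨hP, relB_of_eq hR (reps_pow hR _) hPR hcr⟩
    obtain ⟨j, hj, rfl⟩ := List.getElem_of_mem hmem
    exact ⟨⟨j, hj⟩, hPR⟩
  choose f hf using hex
  have hinj : Function.Injective f := fun c d e => Subtype.ext (Subtype.ext
    ((hf c).unique (show Reps (normList R p)[(f c).val] d.1.1 from e ▸ hf d)))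
  exact (Nat.card_le_card_of_injective f hinj).trans
    (by rw [Nat.card_fin]; exact Nat.le_of_ble_eq_true h)

theorem two_dvd_centralizer {R u : ℕ} {r : G24} (hR : Reps R r.1) (hm : memB u = true)
    (hc : commB R u = true) (hsq : peq (pmul u u) pone = true) (hne : peq u pone = false) :
    2 ∣ Nat.card (Subgroup.centralizer ({r} : Set G24)) := by
  haveI : Fact (Nat.Prime 2) := ⟨Nat.prime_two⟩
  obtain ⟨g, hg, hU⟩ := exists_perm_of_memB hm
  have hmem : (⟨g, hg⟩ : G24) ∈ Subgroup.centralizer ({r} : Set G24) :=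
    Subgroup.mem_centralizer_singleton_iff.mpr
      (Subtype.ext ((hU.mul hR).eq_of_peq (hR.mul hU) hc))
  have ho : orderOf (⟨⟨g, hg⟩, hmem⟩ : Subgroup.centralizer ({r} : Set G24)) = 2 := by
    rw [Subgroup.orderOf_mk]
    refine orderOf_eq_prime ?_ fun e => ?_
    · rw [pow_two]; exact Subtype.ext ((hU.mul hU).eq_of_peq reps_one hsq)
    · have hg1 : g = 1 := congrArg Subtype.val e
      rw [hU.peq_of_eq (hg1 ▸ reps_one)] at hne
      exact Bool.noConfusion hne
  exact ho ▸ orderOf_dvd_natCard _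

theorem four_dvd_centralizer {R : ℕ} {r : G24} (hR : Reps R r.1)
    (hu : ∀ u ∈ u5, memB u = true ∧ commB R u = true ∧ peq (pmul u u) pone = true) :
    4 ∣ Nat.card (Subgroup.centralizer ({r} : Set G24)) := by
  haveI : Fact (Nat.Prime 2) := ⟨Nat.prime_two⟩
  have hr1 : CR 1 R r := by
    show Reps R (1 * r * 1⁻¹ : G24).1
    simpa using hR
  have hcomm := u5_comm
  simp only [List.all_eq_true] at hcomm
  have hp := gSub_isPGroup (L := u5) (1 : G24) fun g hg => ⟨(hu g hg).2.2, hcomm g hg⟩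
  obtain ⟨m, hm⟩ := IsPGroup.iff_card.mp hp
  have hlen : (prodB u5).length = 4 := by decide +kernel
  have hex : ∀ i : Fin (prodB u5).length, ∃ x : gSub 1 u5, CR 1 (prodB u5)[i.val] x.1 := fun i => by
    obtain ⟨x, hx, hxc⟩ := mem_gSub_of_prodB 1 (fun P hP => (hu P hP).1) _ (List.getElem_mem i.isLt)
    exact ⟨⟨x, hx⟩, hxc⟩
  choose f hf using hex
  have hinj : Function.Injective f := by
    have hd := u5_ok
    simp only [List.all_eq_true, List.mem_range] at hd
    have key : ∀ i j : Fin (prodB u5).length, j.val < i.val → f i ≠ f j := by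
      intro i j hlt e
      have := hd i.val i.isLt j.val hlt
      rw [List.getD_eq_getElem _ _ i.isLt, List.getD_eq_getElem _ _ j.isLt,
        Reps.peq_of_eq (hf i) (show Reps _ (1 * (f i).1 * 1⁻¹ : G24).1 from e ▸ hf j)] at this
      exact Bool.noConfusion this
    intro i j e
    rcases lt_trichotomy i.val j.val with h | h | h
    · exact absurd e.symm (key j i h)
    · exact Fin.ext h
    · exact absurd e (key i j h)
  have h4 : 4 ≤ 2 ^ m := by
    rw [← hm, ← hlen]
    calc (prodB u5).length = Nat.card (Fin (prodB u5).length) := (Nat.card_fin _).symm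
      _ ≤ _ := Nat.card_le_card_of_injective f hinj
  have hm2 : 2 ≤ m := by
    by_contra hlt
    interval_cases m <;> norm_num at h4
  refine dvd_trans ?_ (Subgroup.card_dvd_of_le (gSub_le_centralizer hr1 fun g hg => (hu g hg).2.1))
  rw [hm]
  exact pow_dvd_pow 2 hm2

/-- No irreducible character has degree divisible by `2 ^ 10`. -/
theorem no_full (M : Ideal AlgInt) (hM : IsPModular 2 M) [Fintype G24] (χ : IrrCharacter G24)
    (h : (Nat.card G24).factorization 2 ≤ (charDegree (χ : G24 → ℂ)).factorization 2) : False := by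
  classical
  haveI : M.IsPrime := hM.2.1.isPrime
  have hcard : Nat.card G24 = 244823040 := H90.natCard_M24
  obtain ⟨d, hd⟩ : ∃ d, d = H12.degree (χ : G24 → ℂ) := ⟨_, rfl⟩
  rw [H24.charDegree_eq_degree, ← hd] at h
  have hdd : d ∣ 244823040 := hcard ▸ hd ▸ H12.irr_degree_dvd_card χ
  have hd0 : 0 < d := hd ▸ H12.irr_degree_pos χ
  have h10 : (Nat.card G24).factorization 2 = 10 := by
    rw [hcard, show (244823040 : ℕ) = 2 ^ 10 * 239085 by norm_num,
      Nat.factorization_mul (by norm_num) (by norm_num), Nat.prime_two.factorization_pow]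
    simp [Nat.factorization_eq_zero_of_not_dvd (show ¬ 2 ∣ 239085 by norm_num)]
  have h1024 : 2 ^ 10 ∣ d := (Nat.prime_two.pow_dvd_iff_le_factorization hd0.ne').mpr (h10 ▸ h)
  -- vanishing
  have hsingle : blockOf M (χ : G24 → ℂ) = {χ} := by
    refine (H20.blockOf_eq_singleton_iff hM χ).mp ?_
    rw [H24.charDegree_eq_degree, ← hd, hcard]
    intro h2
    obtain ⟨k, hk⟩ := h1024
    subst hk
    have : 2 ^ 10 * k * 2 ∣ 244823040 := by
      conv_rhs => rw [← Nat.div_mul_cancel hdd, mul_comm]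
      exact mul_dvd_mul_left _ h2
    have h211 : 2 ^ 11 ∣ 244823040 := dvd_trans ⟨k, by ring⟩ this
    norm_num at h211
  have hvan : ∀ g : G24, 2 ∣ orderOf g → (χ : G24 → ℂ) g = 0 := by
    intro g hg
    have h0 := H20.singVanish_blockOf hM χ 1 g (by rw [orderOf_one]; norm_num) hg
    rw [hsingle, finsum_mem_singleton, H12.irr_apply_one] at h0
    rcases mul_eq_zero.mp h0 with h0 | h0
    · exact absurd h0 (Nat.cast_ne_zero.mpr (H12.irr_degree_pos χ).ne')
    · exact (map_eq_zero _).mp h0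
  -- the four primes
  obtain ⟨x5, hx5, ho5, hu5⟩ := exists_rep Nat.prime_five rep5_ok
  obtain ⟨x7, hx7, ho7, hu7⟩ := exists_rep (by norm_num : Nat.Prime 7) rep7_ok
  obtain ⟨x11, hx11, ho11, -⟩ := exists_rep (by norm_num : Nat.Prime 11) rep11_ok
  obtain ⟨x23, hx23, ho23, -⟩ := exists_rep (by norm_num : Nat.Prime 23) rep23_ok
  obtain ⟨w, hw, hw1⟩ : ∃ w, w ∈ u7 ∧ peq w pone = false := by
    have := u7_ok
    rw [u7, List.all_cons, Bool.and_eq_true, Bool.not_eq_true'] at this
    exact ⟨_, by rw [u7]; exact List.mem_cons_self, this.1⟩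
  have b5 := OneBlockBound.sum_order_ge (a := 2) Nat.prime_five (by norm_num) χ hd.symm
    (dvd_trans (pow_dvd_pow 2 (by norm_num)) h1024) hvan ho5 (four_dvd_centralizer hx5 hu5)
    (card_norm_le Nat.prime_five hx5 ho5 norm5_ok)
  have b7 := OneBlockBound.sum_order_ge (a := 1) (by norm_num : Nat.Prime 7) (by norm_num) χ hd.symm
    (dvd_trans (pow_dvd_pow 2 (by norm_num)) h1024) hvan ho7
    (two_dvd_centralizer hx7 (hu7 w hw).1 (hu7 w hw).2.1 (hu7 w hw).2.2 hw1)
    (card_norm_le (by norm_num) hx7 ho7 norm7_ok)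
  have b11 := OneBlockBound.sum_order_ge (a := 0) (by norm_num : Nat.Prime 11) (by norm_num) χ hd.symm
    (by simp) hvan ho11 (by simp) (card_norm_le (by norm_num) hx11 ho11 norm11_ok)
  have b23 := OneBlockBound.sum_order_ge (a := 0) (by norm_num : Nat.Prime 23) (by norm_num) χ hd.symm
    (by simp) hvan ho23 (by simp) (card_norm_le (by norm_num) hx23 ho23 norm23_ok)
  -- the norm
  have htot : ∑ g : G24, Complex.normSq ((χ : G24 → ℂ) g) = (244823040 : ℝ) := by
    have h1 := H12.sum_mul_conj_eq_card_mul (χ : G24 → ℂ) (χ : G24 → ℂ)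
    rw [H12.classInner_irr_self, mul_one, hcard] at h1
    simp only [Complex.mul_conj] at h1
    have h1' : ((∑ g, Complex.normSq ((χ : G24 → ℂ) g) : ℝ) : ℂ) = ((244823040 : ℝ) : ℂ) := by
      push_cast
      exact h1.trans (by norm_num)
    exact Complex.ofReal_inj.mp h1'
  have hsum := Finset.sum_fiberwise_eq_sum_filter (Finset.univ : Finset G24)
    ({1, 5, 7, 11, 23} : Finset ℕ) (fun g => orderOf g) (fun g => Complex.normSq ((χ : G24 → ℂ) g))
  have hle : ∑ g ∈ Finset.univ.filter (fun g : G24 => orderOf g ∈ ({1, 5, 7, 11, 23} : Finset ℕ)),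
      Complex.normSq ((χ : G24 → ℂ) g) ≤ 244823040 :=
    htot ▸ Finset.sum_le_sum_of_subset_of_nonneg (Finset.filter_subset _ _)
      fun _ _ _ => Complex.normSq_nonneg _
  rw [← hsum, Finset.sum_insert (by decide), Finset.sum_insert (by decide),
    Finset.sum_insert (by decide), Finset.sum_insert (by decide), Finset.sum_singleton,
    show (Finset.univ.filter fun g : G24 => orderOf g = 1) = {1} by ext g; simp,
    Finset.sum_singleton, H12.irr_apply_one, ← hd, Complex.normSq_natCast] at hle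
  rw [hcard] at b5 b7 b11 b23
  obtain ⟨k, hk⟩ := h1024
  have hk15 : k ≤ 15 := by
    by_contra hk16
    have hd16 : (16384 : ℝ) ≤ d := by exact_mod_cast (show 16384 ≤ d by omega)
    nlinarith [hle, Finset.sum_nonneg' (s := Finset.univ.filter fun g : G24 => orderOf g = 5)
      (f := fun g => Complex.normSq ((χ : G24 → ℂ) g)) fun _ => Complex.normSq_nonneg _,
      Finset.sum_nonneg' (s := Finset.univ.filter fun g : G24 => orderOf g = 7)
      (f := fun g => Complex.normSq ((χ : G24 → ℂ) g)) fun _ => Complex.normSq_nonneg _,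
      Finset.sum_nonneg' (s := Finset.univ.filter fun g : G24 => orderOf g = 11)
      (f := fun g => Complex.normSq ((χ : G24 → ℂ) g)) fun _ => Complex.normSq_nonneg _,
      Finset.sum_nonneg' (s := Finset.univ.filter fun g : G24 => orderOf g = 23)
      (f := fun g => Complex.normSq ((χ : G24 → ℂ) g)) fun _ => Complex.normSq_nonneg _]
  subst hk
  interval_cases k
  all_goals (norm_num at b5 b7 b11 b23 hle hdd)
  all_goals linarith

/-- All characters of `M24` lie in one 2-block. -/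
theorem sameBlock_M24 (M : Ideal AlgInt) (hM : IsPModular 2 M) (χ ψ : IrrCharacter G24) :
    SameBlock M (χ : G24 → ℂ) (ψ : G24 → ℂ) := by
  haveI : M.IsPrime := hM.2.1.isPrime
  haveI := Fintype.ofFinite G24
  exact OneBlock.sameBlock_of_local hM (fun φ => lt_of_not_ge fun h => no_full M hM φ h) local_all χ ψ

end H99.OneBlockM24
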