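/-
First cohomology of orthogonal groups over the field of two elements on the natural module: a cocycle on the
products of two transvections is inner once the non-singular vectors are reached from a connected basis.
-/
import Cfsg.Agent.H44.InvolCount
import Cfsg.Agent.H43.Bridge

set_option autoImplicit false

namespace H99.OrthCocycle

open H43
open scoped commutatorElement

variable {ι : Type} [Fintype ι] [DecidableEq ι] {Q : QuadraticForm (ZMod 2) (ι → ZMod 2)}

lemma self_add (x u : ι → ZMod 2) : x + (x + u) = u := by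
  rw [← add_assoc, ZModModule.add_self, zero_add]

lemma two_cases : ∀ a : ZMod 2, a = 0 ∨ a = 1 := by decide

lemma refl_two {x : (ι → ZMod 2)} (hx : Q x = 1) (u : (ι → ZMod 2)) : (refl Q x).1 u = u + polB Q u x • x := by
  rw [refl_apply, hx, inv_one, one_mul, ZModModule.sub_eq_add]

lemma polB_two (x : (ι → ZMod 2)) : polB Q x x = 0 := by
  rw [polB_self, show (2 : ZMod 2) = 0 from rfl, zero_mul]

/-- Adjacent non-singular vectors. -/
def Adj (Q : QuadraticForm (ZMod 2) (ι → ZMod 2)) (x y : (ι → ZMod 2)) : Prop := Q x = 1 ∧ Q y = 1 ∧ polB Q x y = 1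

lemma Adj.symm {x y : (ι → ZMod 2)} (h : Adj Q x y) : Adj Q y x := ⟨h.2.1, h.1, by rw [polB_comm, h.2.2]⟩

lemma Adj.add_right {x y : (ι → ZMod 2)} (h : Adj Q x y) : Adj Q x (x + y) := by
  refine ⟨h.1, ?_, ?_⟩
  · rw [qmap_add, h.1, h.2.1, h.2.2]; rfl
  · rw [map_add, polB_two, h.2.2, zero_add]

lemma pair_mem_commutator (hQ : (polB Q).Nondegenerate) {x y : (ι → ZMod 2)} (hx : Q x = 1) (hy : Q y = 1) :
    refl Q x * refl Q y ∈ commutator (orthGroup Q) := by
  obtain ⟨k, hk⟩ := exists_refl_conj hQ (u := x) (v := y) (by rw [hx]; exact one_ne_zero)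
    (by rw [hy]; exact one_ne_zero) (by rw [hx, hy])
  rw [← hk, show refl Q x * (k * refl Q x * k⁻¹) = ⁅refl Q x, k⁆ by
    rw [commutatorElement_def, inv_eq_of_mul_eq_one_left (refl_sq _)]; group]
  exact Subgroup.commutator_mem_commutator (Subgroup.mem_top _) (Subgroup.mem_top _)

/-- The commutator subgroup is generated by products of two transvections. -/
lemma commutator_le_pairs (hcl : Subgroup.closure (reflSet Q) = ⊤) (P : Subgroup (orthGroup Q))
    (hP : ∀ x y : (ι → ZMod 2), Q x = 1 → Q y = 1 → refl Q x * refl Q y ∈ P) :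
    commutator (orthGroup Q) ≤ P := by
  have h1 : ∀ v, Q v ≠ 0 → Q v = 1 := fun v h => (two_cases _).resolve_left h
  by_cases hex : ∃ v, Q v = 1
  · obtain ⟨v₀, hv₀⟩ := hex
    set P' := Subgroup.closure {g : orthGroup Q | ∃ x y : (ι → ZMod 2), Q x = 1 ∧ Q y = 1 ∧
      g = refl Q x * refl Q y}
    have hP' : P' ≤ P := (Subgroup.closure_le P).2 (by rintro _ ⟨x, y, hx, hy, rfl⟩; exact hP x y hx hy)
    have hgen : ∀ x y : (ι → ZMod 2), Q x = 1 → Q y = 1 → refl Q x * refl Q y ∈ P' := fun x y hx hy =>
      Subgroup.subset_closure ⟨x, y, hx, hy, rfl⟩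
    set r := refl Q v₀
    have hr : r * r = 1 := refl_sq v₀
    have hconj : ∀ p ∈ P', r * p * r ∈ P' := by
      intro p hp
      induction hp using Subgroup.closure_induction with
      | mem g hg =>
        obtain ⟨x, y, hx, hy, rfl⟩ := hg
        rw [show r * (refl Q x * refl Q y) * r = (r * refl Q x) * (refl Q y * r) by group]
        exact mul_mem (hgen _ _ hv₀ hx) (hgen _ _ hy hv₀)
      | one => rw [mul_one, hr]; exact one_mem _
      | mul a b _ _ ha hb =>
        rw [show r * (a * b) * r = (r * a * r) * (r * b * r) by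
          simp only [mul_assoc]; rw [← mul_assoc r r, hr, one_mul]]
        exact mul_mem ha hb
      | inv a _ ha =>
        rw [show r * a⁻¹ * r = (r * a * r)⁻¹ by
          rw [mul_inv_rev, mul_inv_rev, inv_eq_of_mul_eq_one_left hr, mul_assoc]]
        exact inv_mem ha
    have hall : ∀ g : orthGroup Q, g ∈ P' ∨ r * g ∈ P' := by
      intro g
      have hg : g ∈ Subgroup.closure (reflSet Q) := by rw [hcl]; trivial
      induction hg using Subgroup.closure_induction_left with
      | one => exact Or.inl (one_mem _)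
      | mul_left x hx y _ hy =>
        obtain ⟨v, hv, rfl⟩ := hx
        rcases hy with hy | hy
        · right; rw [← mul_assoc]; exact mul_mem (hgen _ _ hv₀ (h1 v hv)) hy
        · left
          rw [show refl Q v * y = (refl Q v * r) * (r * y) by
            simp only [mul_assoc]; rw [← mul_assoc r r, hr, one_mul]]
          exact mul_mem (hgen _ _ (h1 v hv) hv₀) hy
      | inv_mul_cancel x hx y _ hy =>
        obtain ⟨v, hv, rfl⟩ := hx
        rw [inv_eq_of_mul_eq_one_left (refl_sq v)]
        rcases hy with hy | hy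
        · right; rw [← mul_assoc]; exact mul_mem (hgen _ _ hv₀ (h1 v hv)) hy
        · left
          rw [show refl Q v * y = (refl Q v * r) * (r * y) by
            simp only [mul_assoc]; rw [← mul_assoc r r, hr, one_mul]]
          exact mul_mem (hgen _ _ (h1 v hv) hv₀) hy
    haveI : P'.Normal := ⟨fun p hp g => by
      rcases hall g with hg | hg
      · exact mul_mem (mul_mem hg hp) (inv_mem hg)
      · have := hconj _ (mul_mem (mul_mem hg hp) (inv_mem hg))
        rwa [show r * (r * g * p * (r * g)⁻¹) * r = g * p * g⁻¹ by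
          rw [mul_inv_rev, inv_eq_of_mul_eq_one_left hr]
          simp only [mul_assoc, hr, mul_one]
          rw [← mul_assoc r r, hr, one_mul]] at this⟩
    refine le_trans ?_ hP'
    rw [_root_.commutator_def, Subgroup.commutator_le]
    intro a _ b _
    rw [← QuotientGroup.eq_one_iff, ← QuotientGroup.mk'_apply, map_commutatorElement,
      commutatorElement_eq_one_iff_mul_comm]
    have hq : ∀ g : orthGroup Q,
        QuotientGroup.mk' P' g = 1 ∨ QuotientGroup.mk' P' g = QuotientGroup.mk' P' r := fun g => by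
      rcases hall g with hg | hg
      · exact Or.inl ((QuotientGroup.eq_one_iff g).2 hg)
      · refine Or.inr ?_
        have e := (QuotientGroup.eq_one_iff _).2 hg
        rw [← QuotientGroup.mk'_apply, map_mul] at e
        rw [← inv_eq_of_mul_eq_one_right e, ← map_inv, inv_eq_of_mul_eq_one_left hr]
    rcases hq a with ha | ha <;> rcases hq b with hb | hb <;> simp [ha, hb]
  · have hsub : Subgroup.closure (reflSet Q) ≤ P := by
      rw [Subgroup.closure_le]
      rintro _ ⟨v, hv, rfl⟩
      exact absurd ⟨v, h1 v hv⟩ hex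
    exact le_trans le_top (hcl ▸ hsub)

variable (hQ : (polB Q).Nondegenerate)

/-- The product of two transvections as an element of the commutator subgroup. -/
def T (x y : (ι → ZMod 2)) (hx : Q x = 1) (hy : Q y = 1) : ↥(commutator (orthGroup Q)) :=
  ⟨refl Q x * refl Q y, pair_mem_commutator hQ hx hy⟩

lemma T_apply (x y : (ι → ZMod 2)) (hx : Q x = 1) (hy : Q y = 1) (u : (ι → ZMod 2)) :
    (T hQ x y hx hy).1.1 u = (refl Q x).1 ((refl Q y).1 u) := rfl

lemma T_inv (x y : (ι → ZMod 2)) (hx : Q x = 1) (hy : Q y = 1) :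
    (T hQ x y hx hy)⁻¹ = T hQ y x hy hx := by
  apply Subtype.ext
  show (refl Q x * refl Q y)⁻¹ = refl Q y * refl Q x
  rw [mul_inv_rev, inv_eq_of_mul_eq_one_left (refl_sq y), inv_eq_of_mul_eq_one_left (refl_sq x)]

lemma T_mul (x y z : (ι → ZMod 2)) (hx : Q x = 1) (hy : Q y = 1) (hz : Q z = 1) :
    T hQ x y hx hy * T hQ y z hy hz = T hQ x z hx hz := by
  apply Subtype.ext
  show refl Q x * refl Q y * (refl Q y * refl Q z) = refl Q x * refl Q z
  rw [mul_assoc, ← mul_assoc (refl Q y), refl_sq, one_mul]

/-- The two actions of a rotation of order three. -/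
lemma T_left {x y : (ι → ZMod 2)} (h : Adj Q x y) : (T hQ x y h.1 h.2.1).1.1 x = y := by
  rw [T_apply, refl_two h.2.1, map_add, map_smul, refl_two h.1, refl_two h.1, polB_two, h.2.2,
    polB_comm y x, h.2.2, one_smul, zero_smul, add_zero, one_smul, add_left_comm,
    ZModModule.add_self, add_zero]

lemma T_right {x y : (ι → ZMod 2)} (h : Adj Q x y) : (T hQ x y h.1 h.2.1).1.1 y = x + y := by
  rw [T_apply, refl_two h.2.1, polB_two, zero_smul, add_zero, refl_two h.1, polB_comm y x, h.2.2,
    one_smul, add_comm]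

variable (f : ↥(commutator (orthGroup Q)) → (ι → ZMod 2)) (hf : ∀ g h, f (g * h) = f g + g.1.1 (f h))

include hf

lemma f_one : f 1 = 0 := by
  have h := hf 1 1
  rw [one_mul] at h
  change f 1 = f 1 + f 1 at h
  rw [ZModModule.add_self] at h
  exact h

lemma f_inv (g : ↥(commutator (orthGroup Q))) : f g⁻¹ = (g⁻¹).1.1 (f g) := by
  have h := hf g⁻¹ g
  rw [inv_mul_cancel, f_one f hf] at h
  rw [← sub_eq_zero, ZModModule.sub_eq_add, ← h]

lemma polB_f_inv (g : ↥(commutator (orthGroup Q))) (u : (ι → ZMod 2)) :
    polB Q (f g⁻¹) u = polB Q (f g) (g.1.1 u) := by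
  rw [f_inv f hf, ← orth_polB_map g.1]
  rw [show g.1.1 ((g⁻¹).1.1 (f g)) = f g from LinearEquiv.apply_symm_apply g.1.1 (f g)]

include hQ

lemma f_pair {x y : (ι → ZMod 2)} (h : Adj Q x y) :
    f (T hQ x y h.1 h.2.1) = polB Q (f (T hQ x y h.1 h.2.1)) x • y
      + polB Q (f (T hQ x y h.1 h.2.1)) y • x := by
  set p := T hQ x y h.1 h.2.1 with hp
  have hp3 : p * p = p⁻¹ := by
    rw [eq_inv_iff_mul_eq_one]
    apply Subtype.ext
    apply orth_ext
    intro u
    show p.1.1 (p.1.1 (p.1.1 u)) = u
    simp only [hp, T_apply, refl_two h.1, refl_two h.2.1, map_add, map_smul, polB_two, h.2.2,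
      polB_comm y x, LinearMap.add_apply, LinearMap.smul_apply, smul_eq_mul]
    generalize polB Q u x = B
    generalize polB Q u y = C
    rcases two_cases B with rfl | rfl <;> rcases two_cases C with rfl | rfl <;>
      simp [ZModModule.add_self, self_add, add_assoc, add_comm, add_left_comm]
  have e : f 1 = f p + p.1.1 (f p + p.1.1 (f p)) := by
    rw [← hf, ← hf, hp3, mul_inv_cancel]
  rw [f_one f hf] at e
  generalize f p = w at e ⊢
  simp only [hp, T_apply, refl_two h.1, refl_two h.2.1, map_add, map_smul, polB_two, h.2.2,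
    polB_comm y x, LinearMap.add_apply, LinearMap.smul_apply, smul_eq_mul] at e
  rw [← sub_eq_zero, ZModModule.sub_eq_add, e]
  generalize polB Q w x = B
  generalize polB Q w y = C
  rcases two_cases B with rfl | rfl <;> rcases two_cases C with rfl | rfl <;>
    simp [ZModModule.add_self, self_add, add_assoc, add_comm, add_left_comm]

/-- The value at `x` read on the plane of `x` and `y`. -/
def val (x y : (ι → ZMod 2)) (h : Adj Q x y) : ZMod 2 := polB Q (f (T hQ x y h.1 h.2.1)) (x + y)

lemma val_swap {x y : (ι → ZMod 2)} (h : Adj Q x y) :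
    val hQ f y x h.symm = polB Q (f (T hQ x y h.1 h.2.1)) x := by
  unfold val
  rw [← T_inv hQ x y h.1 h.2.1, polB_f_inv f hf, map_add, T_left hQ h, T_right hQ h,
    add_assoc, ZModModule.add_self, add_zero]

lemma val_plane {x y : (ι → ZMod 2)} (h : Adj Q x y) : val hQ f x (x + y) h.add_right = val hQ f x y h := by
  unfold val
  have e : T hQ x (x + y) h.1 h.add_right.2.1 = (T hQ x y h.1 h.2.1)⁻¹ := by
    rw [T_inv]
    apply Subtype.ext
    apply orth_ext
    intro u
    show (refl Q x).1 ((refl Q (x + y)).1 u) = (refl Q y).1 ((refl Q x).1 u)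
    simp only [refl_two h.1, refl_two h.2.1, refl_two h.add_right.2.1, map_add, map_smul, polB_two,
      h.2.2, LinearMap.add_apply, LinearMap.smul_apply, smul_eq_mul, polB_comm y x]
    generalize polB Q u x = B
    generalize polB Q u y = C
    rcases two_cases B with rfl | rfl <;> rcases two_cases C with rfl | rfl <;>
      simp [ZModModule.add_self, self_add, add_assoc, add_comm, add_left_comm]
  rw [← add_assoc, ZModModule.add_self, zero_add, e, polB_f_inv f hf, T_right hQ h]

lemma val_chain {x y z : (ι → ZMod 2)} (h : Adj Q x y) (h' : Adj Q x z) (hyz : polB Q y z = 0) (hne : y ≠ z) :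
    val hQ f x y h = val hQ f x z h' := by
  rw [val_swap hQ f hf h.symm, val]
  set q := T hQ y x h.2.1 h.1 with hq
  set a := f q with ha
  set a' := f (T hQ x z h'.1 h'.2.1) with ha'
  set g := T hQ y z h.2.1 h'.2.1 with hg
  have hfg : f g = a + q.1.1 a' := by rw [ha, ha', ← hf, hg, hq, T_mul]
  have hgg : g * g = 1 := by
    apply Subtype.ext
    apply orth_ext
    intro u
    show g.1.1 (g.1.1 u) = u
    simp only [hg, T_apply, refl_two h.2.1, refl_two h'.2.1, map_add, map_smul, polB_two, hyz,
      polB_comm z y, LinearMap.add_apply, LinearMap.smul_apply, smul_eq_mul]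
    generalize polB Q u y = B
    generalize polB Q u z = C
    rcases two_cases B with rfl | rfl <;> rcases two_cases C with rfl | rfl <;>
      simp [ZModModule.add_self, self_add, add_assoc, add_comm, add_left_comm]
  have e : (0 : (ι → ZMod 2)) = f g + g.1.1 (f g) := by rw [← hf, hgg, f_one f hf]
  generalize f g = w at e hfg
  simp only [hg, T_apply, refl_two h.2.1, refl_two h'.2.1, map_add, map_smul, polB_two, hyz,
    polB_comm z y, LinearMap.add_apply, LinearMap.smul_apply, smul_eq_mul] at e
  have key : polB Q w z = 0 := by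
    by_contra hne0
    have hz1 := (two_cases _).resolve_left hne0
    rw [hz1] at e
    rcases two_cases (polB Q w y) with hy1 | hy1 <;> rw [hy1] at e
    · have hz0 : z = 0 := by
        simp [ZModModule.add_self, self_add, add_assoc, add_comm, add_left_comm] at e
        exact e.symm
      have := h'.2.1
      rw [hz0, map_zero] at this
      exact zero_ne_one this
    · apply hne
      simp [ZModModule.add_self, self_add, add_assoc, add_comm, add_left_comm] at e
      rw [← sub_eq_zero, ZModModule.sub_eq_add, ← e]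
  rw [hfg, map_add, LinearMap.add_apply] at key
  have e2 : polB Q (q.1.1 a') z = polB Q a' (x + z) := by
    have ht : q.1.1 (x + z) = z := by
      simp only [hq, T_apply, refl_two h.1, refl_two h.2.1, map_add, map_smul, polB_two,
        polB_comm z x, polB_comm z y, h'.2.2, hyz, LinearMap.add_apply, LinearMap.smul_apply,
        smul_eq_mul, h.2.2, polB_comm y x]
      simp [ZModModule.add_self, self_add, add_assoc, add_comm, add_left_comm]
    conv_lhs => rw [← ht]
    rw [orth_polB_map q.1]
  rw [e2] at key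
  have e3 : polB Q a z = polB Q a y := by
    have h0 := f_pair hQ f hf h.symm
    rw [← hq, ← ha] at h0
    conv_lhs => rw [h0]
    simp only [map_add, map_smul, LinearMap.add_apply, LinearMap.smul_apply, smul_eq_mul, hyz,
      h'.2.2, mul_zero, mul_one, add_zero]
  rw [e3] at key
  exact (sub_eq_zero.1 (by rw [ZModModule.sub_eq_add]; exact key))

lemma val_eq {x y z : (ι → ZMod 2)} (h : Adj Q x y) (h' : Adj Q x z) : val hQ f x y h = val hQ f x z h' := by
  by_cases hne : y = z
  · subst hne; rfl
  rcases two_cases (polB Q y z) with hyz | hyz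
  · exact val_chain hQ f hf h h' hyz hne
  · rw [← val_plane hQ f hf h]
    by_cases hne' : x + y = z
    · subst hne'; rfl
    · refine val_chain hQ f hf h.add_right h' ?_ hne'
      rw [map_add, LinearMap.add_apply, hyz, h'.2.2]
      rfl

omit hf in
open Classical in
/-- The value attached to a non-singular vector. -/
noncomputable def phi (x : (ι → ZMod 2)) : ZMod 2 :=
  if h : ∃ y, Adj Q x y then val hQ f x h.choose h.choose_spec else 0

lemma phi_eq {x y : (ι → ZMod 2)} (h : Adj Q x y) : phi hQ f x = val hQ f x y h := by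
  rw [phi, dif_pos ⟨y, h⟩]
  exact val_eq hQ f hf _ h

/-- The main criterion. -/
theorem inner_of_reach {n : ℕ} [NeZero n] (X D : Fin n → (ι → ZMod 2)) (hX : ∀ i, Q (X i) = 1)
    (hedge : ∀ i, i ≠ 0 → ∃ j, j < i ∧ polB Q (X i) (X j) = 1)
    (hD : ∀ i j, polB Q (D i) (X j) = if i = j then 1 else 0)
    (hreach : ∀ S : (ι → ZMod 2) → Prop, (∀ i, S (X i)) → (∀ x y, S x → S y → Adj Q x y → S (x + y)) →
      ∀ x, Q x = 1 → S x)
    (hcl : Subgroup.closure (reflSet Q) = ⊤) :
    ∃ v : (ι → ZMod 2), ∀ g, f g = g.1.1 v - v := by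
  classical
  let v : (ι → ZMod 2) := ∑ i, phi hQ f (X i) • D i
  have hv : ∀ j, polB Q v (X j) = phi hQ f (X j) := fun j => by
    simp [v, map_sum, LinearMap.sum_apply, hD]
  let K : Subgroup ↥(commutator (orthGroup Q)) :=
    { carrier := {g | f g = g.1.1 v + v}
      one_mem' := by
        show f 1 = v + v
        rw [f_one f hf, ZModModule.add_self]
      mul_mem' := fun {a b} ha hb => by
        show f (a * b) = (a * b).1.1 v + v
        rw [hf, ha, hb, map_add, show (a * b).1.1 v = a.1.1 (b.1.1 v) from rfl,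
          add_comm (a.1.1 v) v, add_assoc, add_comm (a.1.1 (b.1.1 v)), ← add_assoc (a.1.1 v),
          ZModModule.add_self, zero_add, add_comm]
      inv_mem' := fun {a} ha => by
        show f a⁻¹ = (a⁻¹).1.1 v + v
        rw [f_inv f hf, ha, map_add, show (a⁻¹).1.1 (a.1.1 v) = v from
          LinearEquiv.symm_apply_apply a.1.1 v, add_comm] }
  -- rotations whose two vectors agree with `v` are in `K`
  have hK : ∀ x y (h : Adj Q x y), polB Q v x = phi hQ f x → polB Q v y = phi hQ f y →
      T hQ x y h.1 h.2.1 ∈ K := by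
    intro x y h hx hy
    show f _ = _
    rw [phi_eq hQ f hf h, val, map_add] at hx
    rw [phi_eq hQ f hf h.symm, val_swap hQ f hf h] at hy
    rw [f_pair hQ f hf h]
    simp only [T_apply, refl_two h.1, refl_two h.2.1, map_add, map_smul, polB_two, h.2.2,
      polB_comm y x, LinearMap.add_apply, LinearMap.smul_apply, smul_eq_mul, hx, hy]
    generalize polB Q (f (T hQ x y h.1 h.2.1)) x = B
    generalize polB Q (f (T hQ x y h.1 h.2.1)) y = C
    rcases two_cases B with rfl | rfl <;> rcases two_cases C with rfl | rfl <;>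
      simp [ZModModule.add_self, self_add, add_assoc, add_comm, add_left_comm]
  let S : (ι → ZMod 2) → Prop := fun x =>
    ∃ hx : Q x = 1, polB Q v x = phi hQ f x ∧ T hQ x (X 0) hx (hX 0) ∈ K
  have hS0 : ∀ i, S (X i) := by
    intro i
    induction i using WellFoundedLT.induction with
    | ind i ih =>
      refine ⟨hX i, hv i, ?_⟩
      by_cases hi : i = 0
      · subst hi
        have : T hQ (X 0) (X 0) (hX 0) (hX 0) = 1 := Subtype.ext (refl_sq _)
        rw [this]; exact one_mem K
      · obtain ⟨j, hj, hadj⟩ := hedge i hi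
        obtain ⟨_, hj1, hj2⟩ := ih j hj
        rw [← T_mul hQ (X i) (X j) (X 0) (hX i) (hX j) (hX 0)]
        exact mul_mem (hK _ _ ⟨hX i, hX j, hadj⟩ (hv i) hj1) hj2
  have hSadd : ∀ x y, S x → S y → Adj Q x y → S (x + y) := by
    rintro x y ⟨hx, hx1, hx2⟩ ⟨hy, hy1, -⟩ h
    have hadd : polB Q v (x + y) = phi hQ f (x + y) := by
      rw [map_add, hx1, hy1, phi_eq hQ f hf h, phi_eq hQ f hf h.symm, val_swap hQ f hf h,
        phi_eq hQ f hf h.add_right.symm, val_swap hQ f hf h.add_right, val]
      have e : T hQ x (x + y) h.1 h.add_right.2.1 = (T hQ x y h.1 h.2.1)⁻¹ := by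
        rw [T_inv]
        apply Subtype.ext
        apply orth_ext
        intro u
        show (refl Q x).1 ((refl Q (x + y)).1 u) = (refl Q y).1 ((refl Q x).1 u)
        simp only [refl_two h.1, refl_two h.2.1, refl_two h.add_right.2.1, map_add, map_smul,
          polB_two, h.2.2, LinearMap.add_apply, LinearMap.smul_apply, smul_eq_mul, polB_comm y x]
        generalize polB Q u x = B
        generalize polB Q u y = C
        rcases two_cases B with rfl | rfl <;> rcases two_cases C with rfl | rfl <;>
          simp [ZModModule.add_self, self_add, add_assoc, add_comm, add_left_comm]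
      rw [e, polB_f_inv f hf, T_left hQ h, map_add]
      rw [add_comm (polB Q _ x) (polB Q _ y), add_assoc, ZModModule.add_self, add_zero]
    refine ⟨h.add_right.2.1, hadd, ?_⟩
    rw [← T_mul hQ (x + y) x (X 0) h.add_right.2.1 hx (hX 0)]
    exact mul_mem (hK _ _ h.add_right.symm hadd hx1) hx2
  have hall := hreach S hS0 hSadd
  refine ⟨v, fun g => ?_⟩
  rw [ZModModule.sub_eq_add]
  have hle : commutator (orthGroup Q) ≤ K.map (commutator (orthGroup Q)).subtype :=
    commutator_le_pairs hcl _ fun x y hx hy => by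
      obtain ⟨_, -, hxK⟩ := hall x hx
      obtain ⟨_, -, hyK⟩ := hall y hy
      refine ⟨T hQ x y hx hy, ?_, rfl⟩
      rw [← T_mul hQ x (X 0) y hx (hX 0) hy, ← T_inv hQ y (X 0) hy (hX 0)]
      exact mul_mem hxK (inv_mem hyK)
  obtain ⟨k, hk, hkg⟩ := hle g.2
  rw [Subtype.ext hkg] at hk
  exact hk

end H99.OrthCocycle
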