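/-
The natural modules of three small orthogonal groups over the field of two elements have no first cohomology.
-/
import Cfsg.Agent.H99.OrthCocycle

set_option autoImplicit false

namespace H99.OrthCocycle

open H43

/-- Checking a derivation table. -/
def chk (ok : ℕ → ℕ → ℕ → Bool) : List ℕ → List (ℕ × ℕ × ℕ) → Option (List ℕ)
  | known, [] => some known
  | known, (c, a, b) :: rest =>
    if known.contains a && known.contains b && ok c a b then chk ok (c :: known) rest else none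

lemma chk_sound (ok : ℕ → ℕ → ℕ → Bool) (P : ℕ → Prop)
    (hok : ∀ c a b, ok c a b = true → P a → P b → P c) :
    ∀ tab known out, chk ok known tab = some out → (∀ m ∈ known, P m) → ∀ m ∈ out, P m := by
  intro tab
  induction tab with
  | nil =>
    intro known out h hk
    simp only [chk, Option.some.injEq] at h
    exact h ▸ hk
  | cons t rest ih =>
    obtain ⟨c, a, b⟩ := t
    intro known out h hk
    simp only [chk] at h
    split at h
    · rename_i hc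
      simp only [Bool.and_eq_true, List.contains_iff_mem] at hc
      refine ih _ _ h fun m hm => ?_
      rcases List.mem_cons.1 hm with rfl | hm
      · exact hok _ _ _ hc.2 (hk _ hc.1.1) (hk _ hc.1.2)
      · exact hk _ hm
    · exact absurd h (by simp)

variable {ι : Type} [Fintype ι] [DecidableEq ι]

/-- A vector from the bits of a number. -/
def vec (pos : ι → ℕ) (m : ℕ) : ι → ZMod 2 := fun i => if m.testBit (pos i) then 1 else 0

/-- The whole check. -/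
def full (Qf : (ι → ZMod 2) → ZMod 2) (pos : ι → ℕ) (n : ℕ) (X : List ℕ)
    (tab : List (ℕ × ℕ × ℕ)) : Bool :=
  match chk (fun c a b => decide (Qf (vec pos a + vec pos b) = 1 ∧
      vec pos c = vec pos a + vec pos b)) X tab with
  | none => false
  | some k => (List.range (2 ^ n)).all fun m => !decide (Qf (vec pos m) = 1) || k.contains m

theorem vec_surjective {n : ℕ} (hn : Fintype.card ι = n) (pos : ι → ℕ) (hlt : ∀ i, pos i < n)
    (hinj : Function.Injective pos) (x : ι → ZMod 2) : ∃ m < 2 ^ n, vec pos m = x := by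
  classical
  let e : ι → Fin n := fun i => ⟨pos i, hlt i⟩
  have he : Function.Bijective e := (Fintype.bijective_iff_injective_and_card e).2
    ⟨fun a b h => hinj (congrArg Fin.val h), by rw [hn, Fintype.card_fin]⟩
  let E := Equiv.ofBijective e he
  obtain ⟨m, hm⟩ : ∃ m : Fin (2 ^ n), ∀ k : Fin n, m.val.testBit k = decide (x (E.symm k) = 1) := by
    refine ⟨finFunctionFinEquiv fun k => if x (E.symm k) = 1 then 1 else 0, fun k => ?_⟩
    set g : Fin n → Fin 2 := fun k => if x (E.symm k) = 1 then 1 else 0 with hg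
    have h1 := congrFun (finFunctionFinEquiv.symm_apply_apply g) k
    have h2 : ((finFunctionFinEquiv g : Fin (2 ^ n)) : ℕ) / 2 ^ (k : ℕ) % 2 = (g k : ℕ) := by
      rw [← h1]; rfl
    rw [Nat.testBit_eq_decide_div_mod_eq, h2, hg]
    by_cases hx : x (E.symm k) = 1 <;> simp [hx]
  refine ⟨m, m.isLt, funext fun i => ?_⟩
  have := hm (E i)
  rw [E.symm_apply_apply] at this
  rw [vec, show pos i = (E i : ℕ) from rfl, this]
  rcases two_cases (x i) with h | h <;> simp [h]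

/-- The criterion, for the matrix groups. -/
theorem omega_inner (q : QuadraticForm (ZMod 2) (ι → ZMod 2)) (Qf : (ι → ZMod 2) → ZMod 2)
    (hqf : ⇑q = Qf) (hq : (polB q).Nondegenerate) (hcl : Subgroup.closure (reflSet q) = ⊤)
    {n : ℕ} [NeZero n] (hn : Fintype.card ι = n) (pos : ι → ℕ) (hlt : ∀ i, pos i < n)
    (hinj : Function.Injective pos) (X D : Fin n → ℕ) (tab : List (ℕ × ℕ × ℕ))
    (hX : ∀ i, Qf (vec pos (X i)) = 1)
    (hedge : ∀ i, i ≠ 0 → ∃ j, j < i ∧ Qf (vec pos (X i) + vec pos (X j)) = 1)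
    (hD : ∀ i j, Qf (vec pos (D i) + vec pos (X j)) + Qf (vec pos (D i)) + Qf (vec pos (X j)) =
      if i = j then 1 else 0)
    (hfull : full Qf pos n (List.ofFn X) tab = true)
    (f : ↥(Cfsg.Omega (ZMod 2) Qf) → ι → ZMod 2)
    (hf : ∀ g h : ↥(Cfsg.Omega (ZMod 2) Qf), f (g * h) = f g + Matrix.mulVec
      (((g : ↥(Cfsg.isometryGroup (ZMod 2) Qf)) : GL ι (ZMod 2)) : Matrix ι ι (ZMod 2)) (f h)) :
    ∃ v : ι → ZMod 2, ∀ g : ↥(Cfsg.Omega (ZMod 2) Qf), f g = Matrix.mulVec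
      (((g : ↥(Cfsg.isometryGroup (ZMod 2) Qf)) : GL ι (ZMod 2)) : Matrix ι ι (ZMod 2)) v - v := by
  subst hqf
  have hpol : ∀ x y, polB q x y = q (x + y) + q x + q y := fun x y => by
    rw [qmap_add]; linear_combination (norm := ring_nf) - CharTwo.add_self_eq_zero (q x + q y)
  have hadj : ∀ x y, q x = 1 → q y = 1 → q (x + y) = 1 → Adj q x y := fun x y hx hy hxy => by
    refine ⟨hx, hy, ?_⟩
    rw [hpol, hx, hy, hxy]; rfl
  let e : ↥(Cfsg.Omega (ZMod 2) ⇑q) ≃* ↥(commutator (orthGroup q)) :=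
    ((toOrth q).subgroupMap _).trans (MulEquiv.subgroupCongr omega_map_toOrth)
  have he : ∀ g x, (e g).1.1 x = Matrix.mulVec
      (((g : ↥(Cfsg.isometryGroup (ZMod 2) ⇑q)) : GL ι (ZMod 2)) : Matrix ι ι (ZMod 2)) x :=
    fun g x => toOrth_apply g.1 x
  have hreach : ∀ S : (ι → ZMod 2) → Prop, (∀ i, S (vec pos (X i))) →
      (∀ x y, S x → S y → Adj q x y → S (x + y)) → ∀ x, q x = 1 → S x := by
    intro S hS0 hSadd x hx
    obtain ⟨m, hm, rfl⟩ := vec_surjective hn pos hlt hinj x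
    unfold full at hfull
    split at hfull
    · exact absurd hfull (by simp)
    · rename_i k hk
      have hall := List.all_eq_true.1 hfull m (List.mem_range.2 hm)
      simp only [hx, decide_true, Bool.not_true, Bool.false_or, List.contains_iff_mem] at hall
      refine (chk_sound _ (fun m => q (vec pos m) = 1 ∧ S (vec pos m)) ?_ _ _ _ hk ?_ m hall).2
      · intro c a b hok ha hb
        simp only [decide_eq_true_eq] at hok
        rw [hok.2]
        exact ⟨hok.1, hSadd _ _ ha.2 hb.2 (hadj _ _ ha.1 hb.1 hok.1)⟩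
      · intro m hm
        obtain ⟨i, rfl⟩ := List.mem_ofFn.1 hm
        exact ⟨hX i, hS0 i⟩
  obtain ⟨v, hv⟩ := inner_of_reach hq (fun g => f (e.symm g)) (fun g h => by
      rw [map_mul, hf, ← he, e.apply_symm_apply])
    (fun i => vec pos (X i)) (fun i => vec pos (D i)) hX
    (fun i hi => by
      obtain ⟨j, hj, hq1⟩ := hedge i hi
      exact ⟨j, hj, (hadj _ _ (hX i) (hX j) hq1).2.2⟩)
    (fun i j => by rw [hpol, hD]) hreach hcl
  refine ⟨v, fun g => ?_⟩
  have := hv (e g)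
  rw [e.symm_apply_apply] at this
  rw [this, he]

/-- Bit positions for the standard coordinates. -/
def posMinus (m : ℕ) : (Fin m ⊕ Fin m) ⊕ Fin 2 → ℕ :=
  Sum.elim (Sum.elim (fun i => i) (fun i => m + i)) (fun j => 2 * m + j)

/-- Bit positions for the standard coordinates. -/
def posPlus (m : ℕ) : Fin m ⊕ Fin m → ℕ := Sum.elim (fun i => i) (fun i => m + i)

lemma aniso : ∀ z₁ z₂ : ZMod 2, z₁ ^ 2 + 1 * z₁ * z₂ + 1 * z₂ ^ 2 = 0 → z₁ = 0 ∧ z₂ = 0 := by decide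

theorem minusFour (f : ↥(Cfsg.Omega (ZMod 2) (Cfsg.quadFormMinus 1 (ZMod 2) 1 1)) → (Fin 1 ⊕ Fin 1) ⊕ Fin 2 → ZMod 2)
    (hf : ∀ g h : ↥(Cfsg.Omega (ZMod 2) (Cfsg.quadFormMinus 1 (ZMod 2) 1 1)), f (g * h) = f g + Matrix.mulVec
      (((g : ↥(Cfsg.isometryGroup (ZMod 2) (Cfsg.quadFormMinus 1 (ZMod 2) 1 1))) : GL ((Fin 1 ⊕ Fin 1) ⊕ Fin 2) (ZMod 2)) :
        Matrix ((Fin 1 ⊕ Fin 1) ⊕ Fin 2) ((Fin 1 ⊕ Fin 1) ⊕ Fin 2) (ZMod 2)) (f h)) :
    ∃ v : (Fin 1 ⊕ Fin 1) ⊕ Fin 2 → ZMod 2, ∀ g : ↥(Cfsg.Omega (ZMod 2) (Cfsg.quadFormMinus 1 (ZMod 2) 1 1)), f g = Matrix.mulVec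
      (((g : ↥(Cfsg.isometryGroup (ZMod 2) (Cfsg.quadFormMinus 1 (ZMod 2) 1 1))) : GL ((Fin 1 ⊕ Fin 1) ⊕ Fin 2) (ZMod 2)) :
        Matrix ((Fin 1 ⊕ Fin 1) ⊕ Fin 2) ((Fin 1 ⊕ Fin 1) ⊕ Fin 2) (ZMod 2)) v - v := by
  refine omega_inner (qMinus 1 (ZMod 2) 1 1) _ (coe_qMinus 1 (ZMod 2) 1 1) (qMinus_nondeg 1 aniso)
    (H44.closure_reflSet_of_small (qMinus_nondeg 1 aniso) (fun U hU => ?_))
    (n := 4) (by simp) (posMinus 1) (by decide) (by decide)
    ![3, 5, 8, 4] ![1, 3, 4, 11]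
    [(6, 5, 3), (13, 8, 5), (12, 4, 8), (14, 6, 8), (9, 13, 4), (10, 12, 6)]
    (by decide +kernel) (by decide +kernel) (by decide +kernel) (by decide +kernel) f hf
  have key : ∀ a b : Fin 16, (Cfsg.quadFormMinus 1 (ZMod 2) 1 1) (vec (posMinus 1) a) = 0 → (Cfsg.quadFormMinus 1 (ZMod 2) 1 1) (vec (posMinus 1) b) = 0 →
      (Cfsg.quadFormMinus 1 (ZMod 2) 1 1) (vec (posMinus 1) a + vec (posMinus 1) b) = 0 →
      vec (posMinus 1) a = 0 ∨ vec (posMinus 1) b = 0 ∨ vec (posMinus 1) a = vec (posMinus 1) b := by decide +kernel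
  by_cases hbot : U = ⊥
  · rw [hbot, finrank_bot]; exact zero_le_one
  obtain ⟨u, hu, hu0⟩ := (Submodule.ne_bot_iff _).1 hbot
  have hle : U ≤ Submodule.span (ZMod 2) {u} := by
    intro w hw
    obtain ⟨a, ha, rfl⟩ := vec_surjective (n := 4) (by simp) (posMinus 1) (by decide) (by decide) u
    obtain ⟨b, hb, rfl⟩ := vec_surjective (n := 4) (by simp) (posMinus 1) (by decide) (by decide) w
    have ka := hU _ hu
    have kb := hU _ hw
    have kab := hU _ (add_mem hu hw)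
    rw [coe_qMinus 1 (ZMod 2) 1 1] at ka kb kab
    rcases key ⟨a, ha⟩ ⟨b, hb⟩ ka kb kab with h | h | h
    · exact absurd h hu0
    · simp only at h; rw [h]; exact zero_mem _
    · simp only at h; rw [← h]; exact Submodule.mem_span_singleton_self _
  exact le_trans (Submodule.finrank_mono hle) (le_of_eq (finrank_span_singleton hu0))

theorem minusSix (f : ↥(Cfsg.Omega (ZMod 2) (Cfsg.quadFormMinus 2 (ZMod 2) 1 1)) → (Fin 2 ⊕ Fin 2) ⊕ Fin 2 → ZMod 2)
    (hf : ∀ g h : ↥(Cfsg.Omega (ZMod 2) (Cfsg.quadFormMinus 2 (ZMod 2) 1 1)), f (g * h) = f g + Matrix.mulVec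
      (((g : ↥(Cfsg.isometryGroup (ZMod 2) (Cfsg.quadFormMinus 2 (ZMod 2) 1 1))) : GL ((Fin 2 ⊕ Fin 2) ⊕ Fin 2) (ZMod 2)) :
        Matrix ((Fin 2 ⊕ Fin 2) ⊕ Fin 2) ((Fin 2 ⊕ Fin 2) ⊕ Fin 2) (ZMod 2)) (f h)) :
    ∃ v : (Fin 2 ⊕ Fin 2) ⊕ Fin 2 → ZMod 2, ∀ g : ↥(Cfsg.Omega (ZMod 2) (Cfsg.quadFormMinus 2 (ZMod 2) 1 1)), f g = Matrix.mulVec
      (((g : ↥(Cfsg.isometryGroup (ZMod 2) (Cfsg.quadFormMinus 2 (ZMod 2) 1 1))) : GL ((Fin 2 ⊕ Fin 2) ⊕ Fin 2) (ZMod 2)) :
        Matrix ((Fin 2 ⊕ Fin 2) ⊕ Fin 2) ((Fin 2 ⊕ Fin 2) ⊕ Fin 2) (ZMod 2)) v - v := by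
  refine omega_inner (qMinus 2 (ZMod 2) 1 1) _ (coe_qMinus 2 (ZMod 2) 1 1) (qMinus_nondeg 2 aniso)
    (closure_reflSet (qMinus_nondeg 2 aniso) (Or.inr (by simp)))
    (n := 6) (by simp) (posMinus 2) (by decide) (by decide)
    ![5, 11, 17, 7, 10, 32] ![11, 37, 32, 10, 39, 16]
    [(14, 11, 5), (20, 17, 5), (22, 7, 17), (13, 10, 7), (49, 32, 17), (31, 14, 17), (19, 20, 7), (52, 20, 32), (28, 22, 10), (54, 22, 32), (24, 22, 14), (25, 13, 20), (63, 49, 14), (60, 49, 13), (18, 31, 13), (51, 19, 32), (34, 19, 49), (57, 52, 13), (40, 28, 52), (56, 54, 14), (41, 54, 31), (44, 24, 52), (47, 25, 54), (50, 63, 13), (35, 63, 28), (38, 63, 25), (36, 60, 24), (33, 51, 18), (48, 34, 18), (16, 56, 40)]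
    (by decide +kernel) (by decide +kernel) (by decide +kernel) (by decide +kernel) f hf

theorem plusEight (f : ↥(Cfsg.Omega (ZMod 2) (Cfsg.quadFormPlus 4 (ZMod 2))) → Fin 4 ⊕ Fin 4 → ZMod 2)
    (hf : ∀ g h : ↥(Cfsg.Omega (ZMod 2) (Cfsg.quadFormPlus 4 (ZMod 2))), f (g * h) = f g + Matrix.mulVec
      (((g : ↥(Cfsg.isometryGroup (ZMod 2) (Cfsg.quadFormPlus 4 (ZMod 2)))) : GL (Fin 4 ⊕ Fin 4) (ZMod 2)) :
        Matrix (Fin 4 ⊕ Fin 4) (Fin 4 ⊕ Fin 4) (ZMod 2)) (f h)) :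
    ∃ v : Fin 4 ⊕ Fin 4 → ZMod 2, ∀ g : ↥(Cfsg.Omega (ZMod 2) (Cfsg.quadFormPlus 4 (ZMod 2))), f g = Matrix.mulVec
      (((g : ↥(Cfsg.isometryGroup (ZMod 2) (Cfsg.quadFormPlus 4 (ZMod 2)))) : GL (Fin 4 ⊕ Fin 4) (ZMod 2)) :
        Matrix (Fin 4 ⊕ Fin 4) (Fin 4 ⊕ Fin 4) (ZMod 2)) v - v := by
  refine omega_inner (qPlus 4 (ZMod 2)) _ (coe_qPlus 4 (ZMod 2)) (qPlus_nondeg (F := ZMod 2) 4)
    (closure_reflSet (qPlus_nondeg (F := ZMod 2) 4) (Or.inr (by simp)))
    (n := 8) (by simp) (posPlus 4) (by decide) (by decide)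
    ![17, 35, 21, 25, 68, 23, 34, 136] ![205, 17, 102, 136, 4, 34, 19, 8]
    [(50, 35, 17), (54, 21, 35), (58, 25, 35), (81, 68, 21), (83, 23, 68), (53, 34, 23), (145, 136, 25), (39, 50, 21), (43, 50, 25), (47, 54, 25), (114, 54, 68), (178, 58, 136), (70, 81, 23), (99, 81, 50), (107, 81, 58), (113, 83, 34), (101, 83, 54), (100, 53, 81), (163, 145, 50), (167, 145, 54), (62, 39, 25), (29, 39, 58), (116, 39, 83), (182, 39, 145), (122, 43, 81), (124, 47, 83), (71, 114, 53), (227, 114, 145), (89, 114, 43), (149, 178, 39), (109, 70, 43), (244, 70, 178), (86, 99, 53), (242, 99, 145), (76, 99, 47), (209, 99, 178), (94, 107, 53), (78, 101, 43), (79, 100, 43), (214, 100, 178), (140, 163, 47), (229, 163, 70), (200, 163, 107), (198, 163, 101), (199, 163, 100), (196, 167, 99), (91, 62, 101), (108, 29, 113), (121, 29, 100), (31, 116, 107), (211, 116, 167), (221, 182, 107), (223, 124, 163), (202, 124, 182), (228, 71, 163), (241, 71,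 182), (61, 71, 122), (254, 227, 29), (151, 227, 116), (239, 89, 182), (233, 149, 124), (42, 109, 71), (142, 109, 227), (248, 109, 149), (173, 244, 89), (181, 86, 227), (162, 86, 244), (184, 76, 244), (188, 209, 109), (253, 94, 163), (232, 94, 182), (203, 94, 149), (172, 94, 242), (143, 94, 209), (218, 79, 149), (187, 79, 244), (158, 79, 209), (154, 214, 76), (152, 214, 78), (169, 229, 76), (138, 198, 76), (137, 198, 79), (139, 199, 76), (141, 91, 214), (147, 91, 200), (156, 91, 199), (168, 108, 196), (177, 121, 200), (191, 121, 198), (201, 31, 214), (216, 31, 199), (27, 211, 200), (166, 223, 121), (251, 228, 31), (57, 228, 221), (46, 228, 202), (238, 241, 31), (226, 61, 223), (247, 61, 202), (212, 233, 61), (197, 42, 239), (106, 142, 228), (127, 142, 241), (92, 173, 241), (77, 181, 248), (69, 253, 184), (84, 232, 188), (119, 203, 188), (98, 218, 184), (38, 158, 184), (49, 169, 152), (19, 137, 154)]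
    (by decide +kernel) (by decide +kernel) (by decide +kernel) (by decide +kernel) f hf

end H99.OrthCocycle
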