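/-
Two meeting lines of 3-transpositions span a plane of four or of nine points... the affine plane
of order three or the dual affine plane of order two.
-/
import Cfsg.Agent.H99.SymFour

set_option autoImplicit false

namespace H99

open Cfsg

variable {G : Type*} [Group G] {D : Set G}

/-- The line through two non-commuting members. -/
def ttLine (x y : D) : Set D :=
  {z : D | (z : G) = x ∨ (z : G) = y ∨ (z : G) = (y : G) * (x : G) * (y : G)⁻¹}

variable (hD : IsThreeTranspositionSet D) (hconj : ∀ g : G, ∀ d ∈ D, g * d * g⁻¹ ∈ D)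

include hD in
lemma tt_third_ne {x y : G} (hx : x ∈ D) (hy : y ∈ D) (hn : ¬ Commute x y) :
    y * x * y⁻¹ ≠ x ∧ y * x * y⁻¹ ≠ y := by
  constructor
  · intro h
    exact hn (mul_inv_eq_iff_eq_mul.1 h).symm
  · intro h
    have h' := mul_inv_eq_iff_eq_mul.1 h
    exact hn ((mul_left_cancel h').symm ▸ Commute.refl y)

include hD in
lemma tt_third_symm {x y : G} (hx : x ∈ D) (hy : y ∈ D) (hn : ¬ Commute x y) :
    y * x * y⁻¹ = x * y * x⁻¹ := by
  rw [tt_inv hD hy, tt_inv hD hx]
  exact (tt_braid hD hx hy hn).symm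

include hD hconj in
/-- Any two different points of a line are non-commuting and determine the line. -/
lemma ttLine_pair {x y p q : D} (hn : ¬ Commute (x : G) y) (hp : p ∈ ttLine x y)
    (hq : q ∈ ttLine x y) (hpq : p ≠ q) :
    ¬ Commute (p : G) q ∧ ttLine p q = ttLine x y := by
  obtain ⟨x, hx⟩ := x
  obtain ⟨y, hy⟩ := y
  obtain ⟨p, hpD⟩ := p
  obtain ⟨q, hqD⟩ := q
  dsimp only at *
  have hs := tt_third_symm hD hx hy hn
  set z := y * x * y⁻¹ with hz
  have hne := tt_third_ne hD hx hy hn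
  have hzx : x * z * x⁻¹ = y := by
    rw [hs, tt_inv hD hx]
    simp [← mul_assoc, tt_mul_self hD hx]
    simp [mul_assoc, tt_mul_self hD hx]
  have hzy : y * z * y⁻¹ = x := by
    rw [hz, tt_inv hD hy]
    simp [← mul_assoc, tt_mul_self hD hy]
    simp [mul_assoc, tt_mul_self hD hy]
  have hxz : ¬ Commute x z := by
    intro h
    rw [h.eq, mul_inv_cancel_right] at hzx
    exact hne.2 hzx
  have hyz : ¬ Commute y z := by
    intro h
    rw [h.eq, mul_inv_cancel_right] at hzy
    exact hne.1 hzy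
  have hpq' : p ≠ q := fun h => hpq (Subtype.ext h)
  simp only [ttLine, Set.mem_ofPred_eq] at hp hq
  -- the six ordered pairs
  have L : ∀ a b c : G, c = b * a * b⁻¹ → ({a, b, c} : Set G) = {x, y, z} →
      {w : D | (w : G) = a ∨ (w : G) = b ∨ (w : G) = b * a * b⁻¹} =
      {w : D | (w : G) = x ∨ (w : G) = y ∨ (w : G) = z} := by
    intro a b c hc h
    ext w
    have := Set.ext_iff.1 h (w : G)
    simpa [← hc] using this
  have hxzx : z * x * z⁻¹ = y := by
    rw [tt_third_symm hD hx (hconj y x hx) hxz]; exact hzx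
  have hyzy : z * y * z⁻¹ = x := by
    rw [tt_third_symm hD hy (hconj y x hx) hyz]; exact hzy
  show _ ∧ {w : D | (w : G) = p ∨ (w : G) = q ∨ (w : G) = q * p * q⁻¹} = _
  rcases hp with rfl | rfl | rfl <;> rcases hq with rfl | rfl | rfl
  · exact absurd rfl hpq'
  · exact ⟨hn, rfl⟩
  · exact ⟨hxz, L _ _ y hxzx.symm (Set.ext fun w => by simp; tauto)⟩
  · exact ⟨fun h => hn h.symm, L _ _ z (hs) (Set.ext fun w => by simp; tauto)⟩
  · exact absurd rfl hpq'
  · exact ⟨hyz, L _ _ x hyzy.symm (Set.ext fun w => by simp; tauto)⟩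
  · exact ⟨fun h => hxz h.symm, L _ _ y hzx.symm (Set.ext fun w => by simp; tauto)⟩
  · exact ⟨fun h => hyz h.symm, L _ _ x hzy.symm (Set.ext fun w => by simp; tauto)⟩
  · exact absurd rfl hpq'

include hD hconj in
lemma threeTranspositionLines_pair {l : Set D} (hl : l ∈ threeTranspositionLines D) {p q : D}
    (hp : p ∈ l) (hq : q ∈ l) (hpq : p ≠ q) :
    ¬ Commute (p : G) q ∧ ttLine p q = l := by
  obtain ⟨x, y, hn, rfl⟩ := hl
  exact ttLine_pair hD hconj hn hp hq hpq

include hD hconj in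
lemma threeTranspositionLines_ncard {l : Set D} (hl : l ∈ threeTranspositionLines D) :
    l.ncard = 3 := by
  obtain ⟨x, y, hn, rfl⟩ := hl
  have hne := tt_third_ne hD x.2 y.2 hn
  have hxy : x ≠ y := fun h => hn (h ▸ Commute.refl _)
  rw [Set.ncard_eq_three]
  refine ⟨x, y, ⟨(y : G) * x * (y : G)⁻¹, hconj _ _ x.2⟩, hxy, ?_, ?_, ?_⟩
  · exact fun h => hne.1 (congrArg Subtype.val h).symm
  · exact fun h => hne.2 (congrArg Subtype.val h).symm
  · ext w
    simp [Subtype.ext_iff]

/-! ### Recognising a plane -/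

include hD hconj in
/-- A finite configuration closed under taking third points is a subspace isomorphic to the given
line system. -/
lemma plane_iso {Y : Type*} (M : Set (Set Y)) (f : Y → D) (hf : Function.Injective f)
    (h1 : ∀ p q, ¬ Commute (f p : G) (f q) →
      ∃ r, (f r : G) = (f q : G) * f p * (f q : G)⁻¹ ∧ ({p, q, r} : Set Y) ∈ M)
    (h2 : ∀ m ∈ M, ∃ p q, ¬ Commute (f p : G) (f q) ∧ f '' m = ttLine (f p) (f q))
    {l m : Set D} (hl : l ⊆ Set.range f) (hm : m ⊆ Set.range f)
    (hgen : ∀ T, l ∪ m ⊆ T → LineSystem.IsSubspace (threeTranspositionLines D) T →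
      Set.range f ⊆ T) :
    LineSystem.Isomorphic (LineSystem.restrict (threeTranspositionLines D)
      (LineSystem.span (threeTranspositionLines D) (l ∪ m))) M := by
  have himg : ∀ p q r, (f r : G) = (f q : G) * f p * (f q : G)⁻¹ →
      f '' ({p, q, r} : Set Y) = ttLine (f p) (f q) := by
    intro p q r hr
    ext w
    simp [ttLine, Set.image_insert_eq, ← hr, Subtype.ext_iff]
  have hsub : LineSystem.IsSubspace (threeTranspositionLines D) (Set.range f) := by
    rintro k hk _ ⟨p, rfl⟩ _ ⟨q, rfl⟩ hne hp hq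
    obtain ⟨hn, rfl⟩ := threeTranspositionLines_pair hD hconj hk hp hq hne
    obtain ⟨r, hr, -⟩ := h1 p q hn
    rw [← himg p q r hr]
    exact Set.image_subset_range f _
  have hspan : LineSystem.span (threeTranspositionLines D) (l ∪ m) = Set.range f := by
    refine le_antisymm (Set.sInter_subset_of_mem ⟨Set.union_subset hl hm, hsub⟩) ?_
    exact Set.subset_sInter fun T hT => hgen T hT.1 hT.2
  rw [hspan]
  refine ⟨(Equiv.ofInjective f hf).symm, fun k => ?_⟩
  have hsymm : ∀ k : Set (Set.range f), (Equiv.ofInjective f hf).symm '' k =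
      {y | (⟨f y, y, rfl⟩ : Set.range f) ∈ k} := by
    intro k
    ext y
    rw [Equiv.image_eq_preimage_symm, Equiv.symm_symm]
    rfl
  rw [hsymm]
  constructor
  · rintro ⟨k', hk', hkS, rfl⟩
    obtain ⟨x, y, hn, hxy⟩ := hk'
    have hx : x ∈ k' := hxy ▸ Or.inl rfl
    have hy : y ∈ k' := hxy ▸ Or.inr (Or.inl rfl)
    obtain ⟨p, rfl⟩ := hkS hx
    obtain ⟨q, rfl⟩ := hkS hy
    obtain ⟨r, hr, hM⟩ := h1 p q hn
    have : k' = f '' {p, q, r} := hxy.trans (himg p q r hr).symm
    rw [this]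
    show {y | f y ∈ f '' _} ∈ M
    have e : {y | f y ∈ f '' ({p, q, r} : Set Y)} = {p, q, r} := Set.ext fun y => hf.mem_set_image
    rw [e]; exact hM
  · intro hk
    obtain ⟨p, q, hn, hpq⟩ := h2 _ hk
    refine ⟨ttLine (f p) (f q), ⟨f p, f q, hn, rfl⟩, ?_, ?_⟩
    · rw [← hpq]; exact Set.image_subset_range f _
    · ext ⟨w, y, rfl⟩
      rw [Set.mem_ofPred_eq, ← hpq, hf.mem_set_image]
      rfl

/-! ### The dual affine plane -/

/-- The transposition attached to a point of the dual affine plane. -/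
def pointSwap (P : DualAffinePoint) : Equiv.Perm (Fin 4) :=
  (List.finRange 4).foldl (fun σ i => if i ∈ P.1 then
    (List.finRange 4).foldl (fun σ' j => if j ∈ P.1 ∧ i < j then Equiv.swap i j else σ') σ else σ) 1

lemma pointSwap_injective : Function.Injective pointSwap := by decide +kernel

lemma pointSwap_isSwap : ∀ P : DualAffinePoint, ∃ i j : Fin 4, i < j ∧ pointSwap P = Equiv.swap i j := by
  decide +kernel

lemma pointSwap_surj : ∀ i j : Fin 4, i < j → ∃ P : DualAffinePoint, pointSwap P = Equiv.swap i j := by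
  decide +kernel

lemma pointSwap_third : ∀ P Q : DualAffinePoint,
    pointSwap P * pointSwap Q ≠ pointSwap Q * pointSwap P →
    ∃ R : DualAffinePoint, pointSwap R = pointSwap Q * pointSwap P * (pointSwap Q)⁻¹ ∧
      ∃ i : Fin 4, ∀ S : DualAffinePoint, (S = P ∨ S = Q ∨ S = R) ↔ i ∉ S.1 := by
  decide +kernel

lemma pointSwap_line : ∀ i : Fin 4, ∃ P Q : DualAffinePoint,
    pointSwap P * pointSwap Q ≠ pointSwap Q * pointSwap P ∧ i ∉ P.1 ∧ i ∉ Q.1 ∧
    ∀ R : DualAffinePoint, i ∉ R.1 ↔
      R = P ∨ R = Q ∨ pointSwap R = pointSwap Q * pointSwap P * (pointSwap Q)⁻¹ := by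
  decide +kernel

include hD hconj in
/-- The case of two meeting lines with commuting points. -/
lemma dual_plane {a x y : D} (hax : ¬ Commute (a : G) x) (hay : ¬ Commute (a : G) y)
    (hxy : Commute (x : G) y) (hne : x ≠ y) :
    LineSystem.Isomorphic (LineSystem.restrict (threeTranspositionLines D)
      (LineSystem.span (threeTranspositionLines D) (ttLine a x ∪ ttLine a y))) dualAffinePlaneTwo := by
  obtain ⟨φ, hinj, h1, h2, h3⟩ := exists_sym_four_of_string hD x.2 a.2 y.2
    (fun h => hne (Subtype.ext h)) hxy (fun h => hax h.symm) hay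
  have hgenp : ∀ σ : Equiv.Perm (Fin 4), ∃ g, φ σ = g := fun σ => ⟨_, rfl⟩
  have hmem : ∀ P, φ (pointSwap P) ∈ D := by
    intro P
    obtain ⟨i, j, hij, hP⟩ := pointSwap_isSwap P
    obtain ⟨τ, hτ⟩ : ∃ τ : Equiv.Perm (Fin 4), τ * Equiv.swap 0 1 * τ⁻¹ = Equiv.swap i j := by
      clear hP
      revert hij
      revert i j
      decide +kernel
    rw [hP, ← hτ, map_mul, map_mul, map_inv, h1]
    exact hconj _ _ x.2
  let f : DualAffinePoint → D := fun P => ⟨φ (pointSwap P), hmem P⟩
  have hf : Function.Injective f := fun P Q h =>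
    pointSwap_injective (hinj (congrArg Subtype.val h))
  have hcom : ∀ P Q, Commute (f P : G) (f Q) ↔
      pointSwap P * pointSwap Q = pointSwap Q * pointSwap P := by
    intro P Q
    exact ⟨fun h => hinj (by simpa [f] using h.eq), fun h => by
      show φ _ * φ _ = φ _ * φ _
      rw [← map_mul, h, map_mul]⟩
  have hr : ∀ i j, i < j → ∃ P, (f P : G) = φ (Equiv.swap i j) := by
    intro i j hij
    obtain ⟨P, hP⟩ := pointSwap_surj i j hij
    exact ⟨P, by show φ (pointSwap P) = _; rw [hP]⟩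
  have h02 : φ (Equiv.swap 0 2) = (a : G) * x * (a : G)⁻¹ := by
    rw [← h1, ← h2, ← map_inv, ← map_mul, ← map_mul,
      show (Equiv.swap 0 2 : Equiv.Perm (Fin 4)) =
        Equiv.swap 1 2 * Equiv.swap 0 1 * (Equiv.swap 1 2)⁻¹ by decide]
  have h13 : φ (Equiv.swap 1 3) = (a : G) * y * (a : G)⁻¹ := by
    rw [← h3, ← h2, ← map_inv, ← map_mul, ← map_mul,
      show (Equiv.swap 1 3 : Equiv.Perm (Fin 4)) =
        Equiv.swap 1 2 * Equiv.swap 2 3 * (Equiv.swap 1 2)⁻¹ by decide]
  have hmemr : ∀ w : D, ∀ i j, i < j → (w : G) = φ (Equiv.swap i j) → w ∈ Set.range f := by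
    intro w i j hij hw
    obtain ⟨P, hP⟩ := hr i j hij
    exact ⟨P, Subtype.ext (hP.trans hw.symm)⟩
  refine plane_iso hD hconj dualAffinePlaneTwo f hf ?_ ?_ ?_ ?_ ?_
  · intro P Q hn
    obtain ⟨R, hR, i, hi⟩ := pointSwap_third P Q fun h => hn ((hcom P Q).2 h)
    refine ⟨R, ?_, i, ?_⟩
    · show φ _ = φ _ * φ _ * (φ _)⁻¹
      rw [hR, map_mul, map_mul, map_inv]
    · ext S
      simpa using hi S
  · rintro m ⟨i, rfl⟩
    obtain ⟨P, Q, hne', hP, hQ, hall⟩ := pointSwap_line i
    refine ⟨P, Q, fun h => hne' ((hcom P Q).1 h), ?_⟩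
    ext w
    constructor
    · rintro ⟨R, hR, rfl⟩
      rcases (hall R).1 hR with rfl | rfl | h
      · exact Or.inl rfl
      · exact Or.inr (Or.inl rfl)
      · refine Or.inr (Or.inr ?_)
        show φ _ = φ _ * φ _ * (φ _)⁻¹
        rw [h, map_mul, map_mul, map_inv]
    · rintro (h | h | h)
      · exact ⟨P, hP, Subtype.ext h.symm⟩
      · exact ⟨Q, hQ, Subtype.ext h.symm⟩
      · obtain ⟨R, hR, -⟩ := pointSwap_third P Q hne'
        refine ⟨R, (hall R).2 (Or.inr (Or.inr hR)), Subtype.ext ?_⟩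
        rw [h]
        show φ _ = φ _ * φ _ * (φ _)⁻¹
        rw [hR, map_mul, map_mul, map_inv]
  · rintro w (h | h | h)
    · exact hmemr w 1 2 (by decide) (h.trans h2.symm)
    · exact hmemr w 0 1 (by decide) (h.trans h1.symm)
    · refine hmemr w 0 2 (by decide) ?_
      rw [h, h02, tt_third_symm hD a.2 x.2 hax]
  · rintro w (h | h | h)
    · exact hmemr w 1 2 (by decide) (h.trans h2.symm)
    · exact hmemr w 2 3 (by decide) (h.trans h3.symm)
    · refine hmemr w 1 3 (by decide) ?_
      rw [h, h13, tt_third_symm hD a.2 y.2 hay]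
  · intro T hT hTs
    rintro _ ⟨P, rfl⟩
    -- the five points on the two lines
    have hxl : x ∈ T := hT (Or.inl (Or.inr (Or.inl rfl)))
    have hal : a ∈ T := hT (Or.inl (Or.inl rfl))
    have hyl : y ∈ T := hT (Or.inr (Or.inr (Or.inl rfl)))
    have hT' : ∀ w : D, (w : G) = (a : G) * x * (a : G)⁻¹ → w ∈ T := fun w hw =>
      hT (Or.inl (Or.inr (Or.inr (hw.trans (tt_third_symm hD a.2 x.2 hax).symm))))
    have hT'' : ∀ w : D, (w : G) = (a : G) * y * (a : G)⁻¹ → w ∈ T := fun w hw =>
      hT (Or.inr (Or.inr (Or.inr (hw.trans (tt_third_symm hD a.2 y.2 hay).symm))))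
    obtain ⟨i, j, hij, hP⟩ := pointSwap_isSwap P
    have hfP : (f P : G) = φ (Equiv.swap i j) := by show φ _ = _; rw [hP]
    have h6 : (i = 0 ∧ j = 1) ∨ (i = 0 ∧ j = 2) ∨ (i = 0 ∧ j = 3) ∨ (i = 1 ∧ j = 2) ∨
        (i = 1 ∧ j = 3) ∨ (i = 2 ∧ j = 3) := by clear hP hfP; revert hij; revert i j; decide
    rcases h6 with ⟨rfl, rfl⟩ | ⟨rfl, rfl⟩ | ⟨rfl, rfl⟩ | ⟨rfl, rfl⟩ | ⟨rfl, rfl⟩ | ⟨rfl, rfl⟩
    · rwa [show f P = x from Subtype.ext (hfP.trans h1)]
    · exact hT' _ (hfP.trans h02)
    · obtain ⟨A, hA⟩ := hr 0 1 (by decide)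
      obtain ⟨B, hB⟩ := hr 1 3 (by decide)
      have hnc : ¬ Commute (f A : G) (f B) := by
        rw [hA, hB]
        intro h
        have := hinj (show φ (Equiv.swap 0 1 * Equiv.swap 1 3) = φ (Equiv.swap 1 3 * Equiv.swap 0 1) by
          rw [map_mul, map_mul]; exact h.eq)
        revert this; decide
      refine hTs (ttLine (f A) (f B)) ⟨f A, f B, hnc, rfl⟩ (f A) ?_ (f B) ?_
        (fun h => hnc (h ▸ Commute.refl _)) (Or.inl rfl) (Or.inr (Or.inl rfl)) (Or.inr (Or.inr ?_))
      · rwa [show f A = x from Subtype.ext (hA.trans h1)]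
      · exact hT'' _ (hB.trans h13)
      · rw [hfP, hA, hB, ← map_inv, ← map_mul, ← map_mul,
          show (Equiv.swap 1 3 * Equiv.swap 0 1 * (Equiv.swap 1 3)⁻¹ : Equiv.Perm (Fin 4)) =
            Equiv.swap 0 3 by decide]
    · rwa [show f P = a from Subtype.ext (hfP.trans h2)]
    · exact hT'' _ (hfP.trans h13)
    · rwa [show f P = y from Subtype.ext (hfP.trans h3)]

/-! ### The affine plane -/

include hD hconj in
/-- The case of two meeting lines without commuting points. -/
lemma affine_plane {a b c : D} (hab : ¬ Commute (a : G) b) (hac : ¬ Commute (a : G) c)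
    (hbc : ¬ Commute (b : G) c) (hbc' : ¬ Commute ((a : G) * b * (a : G)⁻¹) c)
    (hne : ttLine a b ≠ ttLine a c) :
    LineSystem.Isomorphic (LineSystem.restrict (threeTranspositionLines D)
      (LineSystem.span (threeTranspositionLines D) (ttLine a b ∪ ttLine a c))) affinePlaneThree := by
  have ha := a.2
  have hb := b.2
  have hc := c.2
  have aa := tt_mul_self hD ha
  have bb := tt_mul_self hD hb
  have cc := tt_mul_self hD hc
  have ai := tt_inv hD ha
  have bi := tt_inv hD hb
  have ci := tt_inv hD hc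
  set u : G := (a : G) * b with hu
  set v : G := (a : G) * c with hv
  have hu3 : u ^ 3 = 1 := tt_cube_of_not_commute hD ha hb hab
  have hv3 : v ^ 3 = 1 := tt_cube_of_not_commute hD ha hc hac
  have huv : (u * v) ^ 3 = 1 := by
    have h := tt_cube_of_not_commute hD (hconj a b hb) hc hbc'
    rw [ai] at h
    rw [hu, hv, ← mul_assoc]
    exact h
  have huv' : (u⁻¹ * v) ^ 3 = 1 := by
    have h := tt_cube_of_not_commute hD hb hc hbc
    rw [hu, hv, mul_inv_rev, ai, bi, mul_assoc, ← mul_assoc (a : G) a, aa, one_mul]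
    exact h
  -- z = [u, v] is central in ⟨u, v⟩
  have key : ∀ s t : G, s ^ 3 = 1 → t ^ 3 = 1 → (s * t) ^ 3 = 1 → (s⁻¹ * t) ^ 3 = 1 →
      Commute s (t * s * t⁻¹) := by
    intro s t hs ht hst hst'
    have e1 : s * t * s = t⁻¹ * s⁻¹ * t⁻¹ := by
      have : s * t * s * (t * s * t) = 1 := by rw [← hst]; simp [pow_succ, mul_assoc]
      rw [eq_inv_of_mul_eq_one_left this]; group
    have e2 : s * t⁻¹ * s = t * s⁻¹ * t := by
      have h' : (s * t⁻¹) ^ 3 = 1 := by
        have := congrArg (fun g => t * g * t⁻¹) (congrArg (·⁻¹) hst')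
        simp [pow_succ, mul_assoc] at this
        simpa [pow_succ, mul_assoc] using this
      have : s * t⁻¹ * s * (t⁻¹ * s * t⁻¹) = 1 := by rw [← h']; simp [pow_succ, mul_assoc]
      rw [eq_inv_of_mul_eq_one_left this]; group
    have ht2 : t * t = t⁻¹ := by
      apply eq_inv_of_mul_eq_one_left
      rw [← ht]; simp [pow_succ, mul_assoc]
    have ht2' : t⁻¹ * t⁻¹ = t := by rw [← mul_inv_rev, ht2, inv_inv]
    show s * (t * s * t⁻¹) = t * s * t⁻¹ * s
    rw [← mul_assoc s (t * s), ← mul_assoc s t s, e1,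
      show t * s * t⁻¹ * s = t * (s * t⁻¹ * s) by group, e2, mul_assoc _ t⁻¹ t⁻¹, ht2',
      ← mul_assoc t (t * s⁻¹), ← mul_assoc t t s⁻¹, ht2]
  have hcu : Commute u (v * u * v⁻¹) := key u v hu3 hv3 huv huv'
  have hcv : Commute v (u * v * u⁻¹) := by
    refine key v u hv3 hu3 ?_ ?_
    · have := congrArg (fun g => u⁻¹ * g * u) huv
      simpa [pow_succ, mul_assoc] using this
    · have := congrArg (·⁻¹) huv'
      simpa [pow_succ, mul_assoc] using this
  set z : G := u * v * u⁻¹ * v⁻¹ with hz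
  have hzu : Commute u z := by
    have h : Commute u (v * u⁻¹ * v⁻¹) := by
      have := hcu.inv_right
      simpa [mul_assoc] using this
    rw [hz, mul_assoc u v, mul_assoc u]
    exact (Commute.refl u).mul_right h
  have hzv : Commute v z := by
    rw [hz]
    exact hcv.mul_right (Commute.refl v).inv_right
  have hza : Commute (a : G) z := by
    have hau : (a : G) * u * a = u⁻¹ := by
      rw [hu, mul_inv_rev, ai, bi, ← mul_assoc (a : G), aa, one_mul]
    have hav : (a : G) * v * a = v⁻¹ := by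
      rw [hv, mul_inv_rev, ai, ci, ← mul_assoc (a : G), aa, one_mul]
    have e : (a : G) * z * a = u⁻¹ * v⁻¹ * u * v := by
      have h1 : ∀ s t : G, (a : G) * (s * t) * a = ((a : G) * s * a) * (a * t * a) := by
        intro s t
        rw [show ((a : G) * s * a) * (a * t * a) = a * s * (a * a) * t * a by group, aa]; group
      have hinv : ∀ s : G, (a : G) * s⁻¹ * a = ((a : G) * s * a)⁻¹ := fun s => by
        simp [mul_inv_rev, ai, mul_assoc]
      rw [hz, h1, h1, h1, hinv, hinv, hau, hav, inv_inv, inv_inv]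
    have e2 : u⁻¹ * v⁻¹ * u * v = z := by
      have hc' : Commute (v * u)⁻¹ z := (hzv.mul_left hzu).inv_left
      calc u⁻¹ * v⁻¹ * u * v = (v * u)⁻¹ * z * (v * u) := by rw [hz]; group
        _ = z := by rw [hc'.eq, inv_mul_cancel_right]
    show (a : G) * z = z * a
    calc (a : G) * z = (a : G) * z * a * a := by rw [mul_assoc _ (a : G) a, aa, mul_one]
      _ = z * a := by rw [e, e2]
  -- the coordinates
  set g : (Fin 2 → ZMod 3) → G := fun p => u ^ (p 0).val * v ^ (p 1).val with hg
  let f : (Fin 2 → ZMod 3) → D := fun p => ⟨g p * a * (g p)⁻¹, hconj _ _ ha⟩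
  have hpow : ∀ (s : G), s ^ 3 = 1 → ∀ i j : ZMod 3, s ^ (i + j).val = s ^ i.val * s ^ j.val := by
    intro s hs i j
    rw [← pow_add, ZMod.val_add, ← pow_eq_pow_mod _ hs]
  have hneg : ∀ (s : G), s ^ 3 = 1 → ∀ i : ZMod 3, s ^ (-i).val = (s ^ i.val)⁻¹ := by
    intro s hs i
    apply eq_inv_of_mul_eq_one_left
    rw [← hpow s hs, neg_add_cancel]
    simp
  -- translations
  have hU : ∀ p, u * (f p : G) * u⁻¹ = f (p + ![1, 0]) := by
    intro p
    show u * (g p * a * (g p)⁻¹) * u⁻¹ = g _ * a * (g _)⁻¹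
    have : g (p + ![1, 0]) = u * g p := by
      simp only [hg, Pi.add_apply, Matrix.cons_val_zero, Matrix.cons_val_one, add_zero]
      rw [hpow u hu3, ← mul_assoc]
      congr 1
      rw [show (1 : ZMod 3).val = 1 from rfl, pow_one]
      exact (Commute.pow_self u _).eq
    rw [this]
    group
  have hvu : ∀ i : ℕ, v * u ^ i * v⁻¹ = (z ^ i)⁻¹ * u ^ i := by
    intro i
    have h0 : v * u * v⁻¹ = z⁻¹ * u := by rw [hz]; group
    rw [← conj_pow, h0, (hzu.symm.inv_left).mul_pow, inv_pow]
  have hV : ∀ p, v * (f p : G) * v⁻¹ = f (p + ![0, 1]) := by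
    intro p
    show v * (g p * a * (g p)⁻¹) * v⁻¹ = g _ * a * (g _)⁻¹
    have e1 : v * g p = g (p + ![0, 1]) * (z ^ (p 0).val)⁻¹ := by
      simp only [hg, Pi.add_apply, Matrix.cons_val_zero, Matrix.cons_val_one, add_zero]
      have hvv : v ^ ((p 1) + 1).val = v * v ^ (p 1).val := by
        rw [hpow v hv3, show (1 : ZMod 3).val = 1 from rfl, pow_one]
        exact (Commute.pow_self v _).eq
      rw [hvv, ← mul_assoc, mul_inv_eq_iff_eq_mul.1 (hvu (p 0).val)]
      have hc : Commute (z ^ (p 0).val)⁻¹ (u ^ (p 0).val * (v * v ^ (p 1).val)) :=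
        (((hzu.pow_pow (p 0).val (p 0).val).symm).inv_left).mul_right
          (((hzv.symm.pow_left _).inv_left).mul_right
            ((hzv.pow_pow (p 1).val (p 0).val).symm.inv_left))
      rw [← hc.eq]
      simp only [mul_assoc]
    calc v * (g p * a * (g p)⁻¹) * v⁻¹ = (v * g p) * a * (v * g p)⁻¹ := by group
      _ = g (p + ![0, 1]) * ((z ^ (p 0).val)⁻¹ * a * z ^ (p 0).val) * (g (p + ![0, 1]))⁻¹ := by
          rw [e1]; group
      _ = _ := by
          rw [((hza.symm.pow_left (p 0).val).inv_left).eq, inv_mul_cancel_right]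
  have hA : ∀ p, (a : G) * (f p : G) * a = f (-p) := by
    intro p
    show (a : G) * (g p * a * (g p)⁻¹) * a = g _ * a * (g _)⁻¹
    have hau : (a : G) * u * (a : G)⁻¹ = u⁻¹ := by
      rw [ai, hu, mul_inv_rev, ai, bi, ← mul_assoc (a : G), aa, one_mul]
    have hav : (a : G) * v * (a : G)⁻¹ = v⁻¹ := by
      rw [ai, hv, mul_inv_rev, ai, ci, ← mul_assoc (a : G), aa, one_mul]
    have : g (-p) = (a : G) * g p * (a : G)⁻¹ := by
      simp only [hg, Pi.neg_apply]
      rw [hneg u hu3, hneg v hv3, ← inv_pow, ← inv_pow, ← hau, ← hav, conj_pow, conj_pow]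
      group
    rw [this]
    conv_lhs => rw [show (a : G) * (g p * a * (g p)⁻¹) * a = a * (g p * a * (g p)⁻¹) * (a : G)⁻¹ by rw [ai]]
    group
  have hUn : ∀ (i : ℕ) p, u ^ i * (f p : G) * (u ^ i)⁻¹ = f (p + i • ![1, 0]) := by
    intro i
    induction i with
    | zero => intro p; simp
    | succ i ih =>
        intro p
        rw [show u ^ (i + 1) * (f p : G) * (u ^ (i + 1))⁻¹
          = u * (u ^ i * (f p : G) * (u ^ i)⁻¹) * u⁻¹ by rw [pow_succ']; group, ih, hU, succ_nsmul,
          add_assoc]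
  have hVn : ∀ (i : ℕ) p, v ^ i * (f p : G) * (v ^ i)⁻¹ = f (p + i • ![0, 1]) := by
    intro i
    induction i with
    | zero => intro p; simp
    | succ i ih =>
        intro p
        rw [show v ^ (i + 1) * (f p : G) * (v ^ (i + 1))⁻¹
          = v * (v ^ i * (f p : G) * (v ^ i)⁻¹) * v⁻¹ by rw [pow_succ']; group, ih, hV, succ_nsmul,
          add_assoc]
  have hgT : ∀ p q, g p * (f q : G) * (g p)⁻¹ = f (p + q) := by
    intro p q
    have hp : p + q = q + (p 1).val • ![0, 1] + (p 0).val • ![1, 0] := by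
      ext i
      fin_cases i <;> simp [Matrix.vecHead, Matrix.vecTail] <;> exact add_comm _ _
    rw [hp, ← hUn, ← hVn]
    simp only [hg]
    group
  have hrefl : ∀ p q, (f p : G) * (f q : G) * (f p : G)⁻¹ = f (p + p - q) := by
    intro p q
    show g p * a * (g p)⁻¹ * (f q : G) * (g p * a * (g p)⁻¹)⁻¹ = _
    have e1 : (g p)⁻¹ * (f q : G) * g p = f (q - p) := by
      calc (g p)⁻¹ * (f q : G) * g p = (g p)⁻¹ * (f (p + (q - p)) : G) * g p := by
            rw [add_sub_cancel]
        _ = f (q - p) := by rw [← hgT]; group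
    calc g p * a * (g p)⁻¹ * (f q : G) * (g p * a * (g p)⁻¹)⁻¹
        = g p * (a * ((g p)⁻¹ * (f q : G) * g p) * (a : G)⁻¹) * (g p)⁻¹ := by group
      _ = _ := by rw [e1, ai, hA, hgT]; congr 2; abel
  have f0 : f 0 = a := by
    apply Subtype.ext
    show g 0 * (a : G) * (g 0)⁻¹ = a
    simp [hg]
  have fb : f ![1, 0] = b := by
    apply Subtype.ext
    have h := hU 0
    rw [zero_add, f0] at h
    rw [← h, hu, mul_inv_rev, ai, bi]
    rw [show (a : G) * b * a * (b * a) = a * (b * a * b) * a by group,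
      ← tt_braid hD ha hb hab, show (a : G) * (a * b * a) * a = a * a * b * (a * a) by group, aa,
      one_mul, mul_one]
  have fc : f ![0, 1] = c := by
    apply Subtype.ext
    have h := hV 0
    rw [zero_add, f0] at h
    rw [← h, hv, mul_inv_rev, ai, ci]
    rw [show (a : G) * c * a * (c * a) = a * (c * a * c) * a by group,
      ← tt_braid hD ha hc hac, show (a : G) * (a * c * a) * a = a * a * c * (a * a) by group, aa,
      one_mul, mul_one]
  have hzero : ∀ r, f r = a → r = 0 := by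
    intro r hr
    have hr' : (f (-r) : G) = a := by rw [← hA, hr, aa, one_mul]
    have hnb : ∀ w : D, w = b → w ∈ ttLine a c → False := fun w hw hmem => by
      obtain ⟨-, h⟩ := ttLine_pair hD hconj hac (Or.inl rfl) hmem
        (fun h => hab (by rw [h, hw]))
      rw [hw] at h
      exact hne h
    have hb2 : f (-![1, 0]) ≠ a := fun h => hab (by
      have h' : (a : G) * b * a = a := by rw [← fb, hA, h]
      have : (a : G) * b = 1 := mul_left_injective (a : G) (by simpa using h')
      rw [eq_inv_of_mul_eq_one_left this, bi])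
    have hc2 : f (-![0, 1]) ≠ a := fun h => hac (by
      have h' : (a : G) * c * a = a := by rw [← fc, hA, h]
      have : (a : G) * c = 1 := mul_left_injective (a : G) (by simpa using h')
      rw [eq_inv_of_mul_eq_one_left this, ci])
    have hdiag : ∀ p q : Fin 2 → ZMod 3, p + q = r → f p = f (p + r) := by
      intro p q _
      apply Subtype.ext
      rw [← hgT p r, hr, ← f0, hgT p 0, add_zero]
    have h11 : r ≠ ![1, 1] := by
      rintro rfl
      have h := hdiag ![0, 2] _ (add_sub_cancel _ _)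
      rw [show (![0, 2] : Fin 2 → ZMod 3) + ![1, 1] = ![1, 0] by decide, fb] at h
      refine hnb _ h ?_
      right; right
      have h' := hA ![0, 1]
      rw [fc, show -(![0, 1] : Fin 2 → ZMod 3) = ![0, 2] by decide] at h'
      rw [← h', tt_third_symm hD ha hc hac, ai]
    have h12 : r ≠ ![1, 2] := by
      rintro rfl
      have h := hdiag ![0, 1] _ (add_sub_cancel _ _)
      rw [show (![0, 1] : Fin 2 → ZMod 3) + ![1, 2] = ![1, 0] by decide, fb, fc] at h
      exact hnb _ h (Or.inr (Or.inl rfl))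
    have hr2 : f (-r) = a := Subtype.ext hr'
    have h22 : r ≠ ![2, 2] := by
      rintro rfl
      have h := hdiag ![0, 2] _ (add_sub_cancel _ _)
      rw [show (![0, 2] : Fin 2 → ZMod 3) + ![2, 2] = ![2, 1] by decide] at h
      have hh : f ![1, 1] = a := by
        rw [show (![1, 1] : Fin 2 → ZMod 3) = -![2, 2] by decide]; exact hr2
      have h2 := congrArg Subtype.val hh
      have h3 : (f ![1, 0] : G) = f ![0, 2] := by
        have := hgT ![0, 2] ![1, 1]
        rw [show (![0, 2] : Fin 2 → ZMod 3) + ![1, 1] = ![1, 0] by decide, h2, ← f0, hgT,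
          add_zero] at this
        exact this.symm
      rw [fb] at h3
      refine hnb _ (Subtype.ext h3.symm) ?_
      right; right
      have h' := hA ![0, 1]
      rw [fc, show -(![0, 1] : Fin 2 → ZMod 3) = ![0, 2] by decide] at h'
      rw [← h', tt_third_symm hD ha hc hac, ai]
    have h21 : r ≠ ![2, 1] := by
      rintro rfl
      have hh : f ![1, 2] = a := by
        rw [show (![1, 2] : Fin 2 → ZMod 3) = -![2, 1] by decide]; exact hr2
      have h3 : (f ![1, 0] : G) = f ![0, 1] := by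
        have := hgT ![0, 1] ![1, 2]
        rw [show (![0, 1] : Fin 2 → ZMod 3) + ![1, 2] = ![1, 0] by decide, congrArg Subtype.val hh,
          ← f0, hgT, add_zero] at this
        exact this.symm
      rw [fb, fc] at h3
      exact hnb _ (Subtype.ext h3.symm) (Or.inr (Or.inl rfl))
    have hall : ∀ s : Fin 2 → ZMod 3, s = 0 ∨ s = ![1, 0] ∨ s = -![1, 0] ∨ s = ![0, 1] ∨
        s = -![0, 1] ∨ s = ![1, 1] ∨ s = ![1, 2] ∨ s = ![2, 2] ∨ s = ![2, 1] := by decide +kernel
    rcases hall r with h | h | h | h | h | h | h | h | h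
    · exact h
    · exact absurd (fb.symm.trans (h ▸ hr)) (fun e => hab (e ▸ Commute.refl _))
    · exact absurd (h ▸ hr) hb2
    · exact absurd (fc.symm.trans (h ▸ hr)) (fun e => hac (e ▸ Commute.refl _))
    · exact absurd (h ▸ hr) hc2
    · exact absurd h h11
    · exact absurd h h12
    · exact absurd h h22
    · exact absurd h h21
  have hf : Function.Injective f := by
    intro p q h
    have : q - p = 0 := by
      refine hzero _ (Subtype.ext ?_)
      have e := hgT (-p) q
      rw [← h, hgT, neg_add_cancel, f0] at e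
      rw [show q - p = -p + q by abel]
      exact e.symm
    exact (sub_eq_zero.1 this).symm
  have hnc : ∀ p q, p ≠ q → ¬ Commute (f p : G) (f q) := by
    intro p q hpq h
    have h1 := hrefl p q
    rw [h.eq, mul_inv_cancel_right] at h1
    have := hf (Subtype.ext h1)
    apply hpq
    have h2 : p + p = q + q := by rw [← sub_eq_iff_eq_add]; exact this.symm
    revert h2
    clear this h1 h
    revert p q
    decide +kernel
  have hline : ∀ p q : Fin 2 → ZMod 3, p ≠ q → ({p, q, q + q - p} : Set (Fin 2 → ZMod 3)) =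
      {x | ∃ k : ZMod 3, x = p + k • (q - p)} := by
    intro p q hpq
    ext x
    simp only [Set.mem_insert_iff, Set.mem_singleton_iff, Set.mem_ofPred_eq]
    revert hpq; revert p q x
    decide +kernel
  have fneg_b : (f (-![1, 0]) : G) = (b : G) * a * (b : G)⁻¹ := by
    rw [← hA, fb, tt_third_symm hD ha hb hab, ai]
  have fneg_c : (f (-![0, 1]) : G) = (c : G) * a * (c : G)⁻¹ := by
    rw [← hA, fc, tt_third_symm hD ha hc hac, ai]
  refine plane_iso hD hconj affinePlaneThree f hf ?_ ?_ ?_ ?_ ?_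
  · intro p q hn
    have hpq : p ≠ q := fun h => hn (h ▸ Commute.refl _)
    refine ⟨q + q - p, (hrefl q p).symm, p, q - p, sub_ne_zero.2 (Ne.symm hpq), ?_⟩
    exact hline p q hpq
  · rintro m ⟨p, w, hw, rfl⟩
    have hpq : p ≠ p + w := fun h => hw (by simpa using h)
    refine ⟨p, p + w, hnc p _ hpq, ?_⟩
    have := hline p (p + w) hpq
    rw [add_sub_cancel_left] at this
    rw [← this]
    ext x
    simp [ttLine, Set.image_insert_eq, hrefl, Subtype.ext_iff]
  · rintro w (h | h | h)
    · exact ⟨0, f0.trans (Subtype.ext h.symm)⟩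
    · exact ⟨_, fb.trans (Subtype.ext h.symm)⟩
    · exact ⟨_, Subtype.ext (fneg_b.trans h.symm)⟩
  · rintro w (h | h | h)
    · exact ⟨0, f0.trans (Subtype.ext h.symm)⟩
    · exact ⟨_, fc.trans (Subtype.ext h.symm)⟩
    · exact ⟨_, Subtype.ext (fneg_c.trans h.symm)⟩
  · intro T hT hTs
    have hstep : ∀ p q, p ≠ q → f p ∈ T → f q ∈ T → f (q + q - p) ∈ T := fun p q hpq hp hq =>
      hTs _ ⟨f p, f q, hnc p q hpq, rfl⟩ (f p) hp (f q) hq (fun h => hpq (hf h)) (Or.inl rfl)
        (Or.inr (Or.inl rfl)) (Or.inr (Or.inr (hrefl q p).symm))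
    have t1 : f ![1, 0] ∈ T := hT (Or.inl (Or.inr (Or.inl (congrArg Subtype.val fb))))
    have t2 : f ![0, 1] ∈ T := hT (Or.inr (Or.inr (Or.inl (congrArg Subtype.val fc))))
    have t3 : f (-![1, 0]) ∈ T := hT (Or.inl (Or.inr (Or.inr fneg_b)))
    have t4 : f (-![0, 1]) ∈ T := hT (Or.inr (Or.inr (Or.inr fneg_c)))
    have t0 : f 0 ∈ T := hT (Or.inl (Or.inl (congrArg Subtype.val f0)))
    have hall : ∀ s : Fin 2 → ZMod 3, s = 0 ∨ s = ![1, 0] ∨ s = -![1, 0] ∨ s = ![0, 1] ∨
        s = -![0, 1] ∨ (∃ p q, (p = ![1, 0] ∨ p = -![1, 0]) ∧ (q = ![0, 1] ∨ q = -![0, 1]) ∧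
          p ≠ q ∧ s = q + q - p) := by decide +kernel
    rintro _ ⟨s, rfl⟩
    rcases hall s with rfl | rfl | rfl | rfl | rfl | ⟨p, q, hp, hq, hne', rfl⟩
    · exact t0
    · exact t1
    · exact t3
    · exact t2
    · exact t4
    · exact hstep p q hne' (by rcases hp with rfl | rfl <;> assumption)
        (by rcases hq with rfl | rfl <;> assumption)

include hD hconj in
/-- The lines on a set of 3-transpositions form a Fischer space. -/
theorem isFischerSpace_lines : IsFischerSpace (threeTranspositionLines D) := by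
  refine ⟨?_, fun l hl => threeTranspositionLines_ncard hD hconj hl, ?_⟩
  · intro l hl m hm x y hxy hxl hyl hxm hym
    rw [← (threeTranspositionLines_pair hD hconj hl hxl hyl hxy).2,
      ← (threeTranspositionLines_pair hD hconj hm hxm hym hxy).2]
  · intro l hl m hm hlm ⟨a, hal, ham⟩
    have other : ∀ k ∈ threeTranspositionLines D, ∃ b ∈ k, b ≠ a := by
      intro k hk
      by_contra h
      push Not at h
      have : k ⊆ {a} := fun w hw => h w hw
      have := Set.ncard_le_ncard this (Set.finite_singleton a)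
      rw [threeTranspositionLines_ncard hD hconj hk, Set.ncard_singleton] at this
      omega
    by_cases hex : ∃ x ∈ l, ∃ y ∈ m, x ≠ a ∧ y ≠ a ∧ Commute (x : G) y
    · obtain ⟨x, hx, y, hy, hxa, hya, hc⟩ := hex
      obtain ⟨h1, rfl⟩ := threeTranspositionLines_pair hD hconj hl hal hx (Ne.symm hxa)
      obtain ⟨h2, rfl⟩ := threeTranspositionLines_pair hD hconj hm ham hy (Ne.symm hya)
      exact Or.inl (dual_plane hD hconj h1 h2 hc (fun h => hlm (h ▸ rfl)))
    · push Not at hex
      obtain ⟨b, hb, hba⟩ := other l hl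
      obtain ⟨c, hc, hca⟩ := other m hm
      obtain ⟨h1, rfl⟩ := threeTranspositionLines_pair hD hconj hl hal hb (Ne.symm hba)
      obtain ⟨h2, rfl⟩ := threeTranspositionLines_pair hD hconj hm ham hc (Ne.symm hca)
      refine Or.inr (affine_plane hD hconj h1 h2 (hex b hb c hc hba hca) ?_ hlm)
      refine hex ⟨_, hconj a b b.2⟩ (Or.inr (Or.inr ?_)) c hc ?_ hca
      · exact (tt_third_symm hD a.2 b.2 h1).symm
      · intro h
        have h' := congrArg Subtype.val h
        simp only at h'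
        exact (tt_third_ne hD b.2 a.2 (fun e => h1 e.symm)).2 h'

end H99
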