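/-
Involution classes whose pairwise products have prime power order: the step from "products lie in a
normal subgroup of odd order" (the Z*-theorem) to "products lie in the p-core".
-/
import Cfsg.Agent.H1.CoprimeAction
import Cfsg.Agent.H1.Cores
import Cfsg.Prelude.Def_Local

set_option autoImplicit false

namespace H99

open Cfsg

variable {G : Type*} [Group G] [Finite G]

/-- A subgroup all of whose other Sylow subgroups fix `C` is covered by `C` and a Sylow subgroup. -/
lemma exists_sylow_mul_of_dvd {R : Type*} [Group R] [Finite R] {p : ℕ} [Fact p.Prime] (P : Sylow p R)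
    (C : Subgroup R)
    (hC : ∀ q k : ℕ, q.Prime → q ≠ p → q ^ k ∣ Nat.card R → q ^ k ∣ Nat.card C) (r : R) :
    ∃ x ∈ (P : Subgroup R), ∃ c ∈ C, r = x * c := by
  have hp : p.Prime := Fact.out
  set K := C.subgroupOf (P : Subgroup R) with hK
  let f : (P : Subgroup R) ⧸ K → R ⧸ C := Quotient.map' (fun x => (x : R)) fun a b h => by
    rw [QuotientGroup.leftRel_apply] at h ⊢
    exact h
  have hinj : Function.Injective f := by
    intro u v
    induction u using QuotientGroup.induction_on with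
    | H a =>
      induction v using QuotientGroup.induction_on with
      | H b =>
        intro h
        have h' : (QuotientGroup.mk (a : R) : R ⧸ C) = QuotientGroup.mk (b : R) := h
        exact QuotientGroup.eq.2 (QuotientGroup.eq.1 h' :)
  have hle : Nat.card (R ⧸ C) ≤ Nat.card ((P : Subgroup R) ⧸ K) := by
    set a := (Nat.card R).factorization p
    have hPc : Nat.card (P : Subgroup R) = p ^ a := P.card_eq_multiplicity
    set m := Nat.card R / p ^ a
    have hm : p ^ a * m = Nat.card R := Nat.ordProj_mul_ordCompl_eq_self _ _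
    have hpm : ¬ p ∣ m := Nat.not_dvd_ordCompl hp Nat.card_pos.ne'
    have hmC : m ∣ Nat.card C := by
      rw [Nat.dvd_iff_prime_pow_dvd_dvd]
      intro q k hq hqk
      rcases Nat.eq_zero_or_pos k with rfl | hk
      · simp
      refine hC q k hq (fun h => hpm (h ▸ (dvd_pow_self q hk.ne').trans hqk)) ?_
      exact hqk.trans ⟨p ^ a, by rw [← hm, mul_comm]⟩
    have hKP : Nat.card K ∣ p ^ a := hPc ▸ Subgroup.card_subgroup_dvd_card K
    have hKC : Nat.card K ∣ Nat.card C :=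
      Subgroup.card_comap_dvd_of_injective C _ Subtype.coe_injective
    have hcop : (Nat.card K).Coprime m :=
      Nat.Coprime.coprime_dvd_left hKP (Nat.Coprime.pow_left a ((Nat.Prime.coprime_iff_not_dvd hp).2 hpm))
    have hdvd := Nat.le_of_dvd Nat.card_pos (hcop.mul_dvd_of_dvd_of_dvd hKC hmC)
    have e1 := Subgroup.card_eq_card_quotient_mul_card_subgroup C
    have e2 := Subgroup.card_eq_card_quotient_mul_card_subgroup K
    have hpos : 0 < Nat.card K * m := Nat.mul_pos Nat.card_pos (Nat.pos_of_ne_zero fun h => hpm (h ▸ dvd_zero p))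
    refine Nat.le_of_mul_le_mul_right ?_ hpos
    calc Nat.card (R ⧸ C) * (Nat.card K * m) ≤ Nat.card (R ⧸ C) * Nat.card C :=
          Nat.mul_le_mul_left _ hdvd
      _ = Nat.card R := e1.symm
      _ = Nat.card ((P : Subgroup R) ⧸ K) * Nat.card K * m := by rw [← e2, hPc, hm]
      _ = Nat.card ((P : Subgroup R) ⧸ K) * (Nat.card K * m) := mul_assoc _ _ _
  obtain ⟨u, hu⟩ := (hinj.bijective_of_nat_card_le hle).2 (QuotientGroup.mk r)
  induction u using QuotientGroup.induction_on with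
  | H x =>
    exact ⟨x, x.2, (x : R)⁻¹ * r, (QuotientGroup.eq).1 hu, by group⟩

/-- If an involution's class has products of `p`-power order lying in a normal subgroup of odd order,
the products lie in the `p`-core. -/
theorem mul_mem_pCore_of_mem_odd {p : ℕ} [Fact p.Prime] (d : G) (hd : orderOf d = 2)
    (hprod : ∀ a ∈ conjugatesOf d, ∀ b ∈ conjugatesOf d, ∃ k : ℕ, orderOf (a * b) = p ^ k)
    {N : Subgroup G} (hodd : Odd (Nat.card N))
    (hN : ∀ a ∈ conjugatesOf d, ∀ b ∈ conjugatesOf d, a * b ∈ N) :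
    ∀ a ∈ conjugatesOf d, ∀ b ∈ conjugatesOf d, a * b ∈ Cfsg.pCore p G := by
  have hdd : d * d = 1 := by rw [← pow_two, ← hd]; exact pow_orderOf_eq_one d
  have hdi : d⁻¹ = d := inv_eq_of_mul_eq_one_left hdd
  have hmem : ∀ g : G, g * d * g⁻¹ ∈ conjugatesOf d := fun g => isConj_iff.2 ⟨g, rfl⟩
  have hd0 : d ∈ conjugatesOf d := IsConj.refl d
  have hinvc : ∀ a ∈ conjugatesOf d, a * a = 1 := by
    intro a ha
    obtain ⟨g, rfl⟩ := isConj_iff.1 (show IsConj d a from ha)
    rw [show g * d * g⁻¹ * (g * d * g⁻¹) = g * (d * d) * g⁻¹ by group, hdd, mul_one, mul_inv_cancel]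
  set S : Set G := {x | ∃ a ∈ conjugatesOf d, ∃ b ∈ conjugatesOf d, x = a * b} with hS
  set R := Subgroup.closure S with hR
  have hRN : R ≤ N := by
    rw [hR, Subgroup.closure_le]
    rintro _ ⟨a, ha, b, hb, rfl⟩
    exact hN a ha b hb
  have hconjS : ∀ g : G, ∀ x ∈ S, g * x * g⁻¹ ∈ S := by
    rintro g _ ⟨a, ha, b, hb, rfl⟩
    exact ⟨g * a * g⁻¹, IsConj.trans (show IsConj d a from ha) (isConj_iff.2 ⟨g, rfl⟩),
      g * b * g⁻¹, IsConj.trans (show IsConj d b from hb) (isConj_iff.2 ⟨g, rfl⟩), by group⟩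
  haveI hRn : R.Normal := ⟨fun n hn g => by
    have hle : R ≤ R.comap (MulAut.conj g).toMonoidHom := by
      rw [hR, Subgroup.closure_le]
      exact fun x hx => Subgroup.subset_closure (hconjS g x hx)
    exact hle hn⟩
  have hRodd : Odd (Nat.card R) := hodd.of_dvd_nat (Subgroup.card_dvd_of_le hRN)
  set A := Subgroup.zpowers d
  haveI hAsol : Group.IsSolvable A := Group.isSolvable_of_comm fun a b => mul_comm' a b
  have hAK : A ≤ Subgroup.normalizer (R : Set G) := by
    rw [Subgroup.normalizer_eq_top]; exact le_top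
  have hcop : (Nat.card A).Coprime (Nat.card R) := by
    rw [Nat.card_zpowers, hd]
    exact (Nat.prime_two.coprime_iff_not_dvd).2 hRodd.not_two_dvd_nat
  have hfix : ∀ (q : ℕ) [Fact q.Prime], q ≠ p → ∀ Q : Sylow q R,
      A ≤ Subgroup.normalizer ((Q : Subgroup R).map R.subtype : Set G) →
      (Q : Subgroup R) ≤ (Subgroup.centralizer {d}).subgroupOf R := by
    intro q _ hqp Q hQ x hx
    have hxm : (x : G) ∈ (Q : Subgroup R).map R.subtype := ⟨x, hx, rfl⟩
    have h1 : d * (x : G) * d⁻¹ ∈ (Q : Subgroup R).map R.subtype :=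
      (Subgroup.mem_normalizer_iff.1 (hQ (Subgroup.mem_zpowers d)) _).1 hxm
    have h2 := mul_mem (inv_mem hxm) h1
    obtain ⟨k, hk⟩ := hprod ((x : G)⁻¹ * d * (x : G)⁻¹⁻¹) (hmem _) d hd0
    obtain ⟨j, hj⟩ := (Q.isPGroup'.map R.subtype) ⟨_, h2⟩
    have hj' : ((x : G)⁻¹ * (d * (x : G) * d⁻¹)) ^ q ^ j = 1 := by simpa [Subtype.ext_iff] using hj
    have e : (x : G)⁻¹ * d * (x : G)⁻¹⁻¹ * d = (x : G)⁻¹ * (d * (x : G) * d⁻¹) := by
      rw [hdi]; group
    rw [e] at hk
    have hdvd : p ^ k ∣ q ^ j := hk ▸ orderOf_dvd_of_pow_eq_one hj'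
    have hone : p ^ k = 1 := Nat.Coprime.eq_one_of_dvd
      (Nat.Coprime.pow k j ((Nat.coprime_primes Fact.out Fact.out).2 (Ne.symm hqp))) hdvd
    rw [hone, orderOf_eq_one_iff, inv_mul_eq_one] at hk
    show (x : G) ∈ Subgroup.centralizer {d}
    exact Subgroup.mem_centralizer_singleton_iff.2 (mul_inv_eq_iff_eq_mul.1 hk.symm).symm
  obtain ⟨P, hP⟩ := H1.exists_invariant_sylow hAK hcop (Or.inl hAsol) p
  set PG := (P : Subgroup R).map R.subtype
  have hPd : d ∈ Subgroup.normalizer (PG : Set G) := hP (Subgroup.mem_zpowers d)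
  have hconjP : ∀ r ∈ R, d * (r * d * r⁻¹) ∈ PG := by
    intro r hr
    obtain ⟨x, hx, c, hc, hrxc⟩ := exists_sylow_mul_of_dvd P ((Subgroup.centralizer {d}).subgroupOf R)
      (fun q k hq hqp hdvd => by
        haveI : Fact q.Prime := ⟨hq⟩
        obtain ⟨Q, hQ⟩ := H1.exists_invariant_sylow hAK hcop (Or.inl hAsol) q
        exact (Q.pow_dvd_card_of_pow_dvd_card hdvd).trans
          (Subgroup.card_dvd_of_le (hfix q hqp Q hQ))) ⟨r, hr⟩
    have hcd : (c : G) * d = d * c := Subgroup.mem_centralizer_singleton_iff.1 hc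
    have hr' : r = (x : G) * (c : G) := congrArg Subtype.val hrxc
    have hxm : (x : G) ∈ PG := ⟨x, hx, rfl⟩
    have e : d * (r * d * r⁻¹) = (d * (x : G) * d⁻¹) * (x : G)⁻¹ := by
      rw [hr', show (x : G) * c * d * ((x : G) * c)⁻¹ = (x : G) * ((c : G) * d * (c : G)⁻¹) * (x : G)⁻¹
        by group, hcd, mul_inv_cancel_right, hdi]
      group
    rw [e]
    exact mul_mem ((Subgroup.mem_normalizer_iff.1 hPd _).1 hxm) (inv_mem hxm)
  have hallP : ∀ a ∈ conjugatesOf d, d * a ∈ PG := by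
    intro a ha
    set o := d * a with ho
    have hoR : o ∈ R := Subgroup.subset_closure ⟨d, hd0, a, ha, rfl⟩
    have hinv : d * o * d⁻¹ = o⁻¹ := by
      rw [ho, mul_inv_rev, inv_eq_of_mul_eq_one_left (hinvc a ha), hdi, ← mul_assoc, hdd, one_mul]
    have hoo : Odd (orderOf o) := by
      have : orderOf o = orderOf (⟨o, hoR⟩ : R) := Subgroup.orderOf_coe (⟨o, hoR⟩ : R)
      rw [this]
      exact hRodd.of_dvd_nat (orderOf_dvd_natCard _)
    obtain ⟨j, hj⟩ := hoo
    set s := o ^ (j + 1) with hs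
    have hss : s * s = o := by
      rw [hs, ← pow_add, show j + 1 + (j + 1) = orderOf o + 1 by omega, pow_succ, pow_orderOf_eq_one,
        one_mul]
    have hsinv : d * s * d⁻¹ = s⁻¹ := by rw [hs, ← conj_pow, hinv, inv_pow]
    have := hconjP s⁻¹ (inv_mem (pow_mem hoR _))
    have e : d * (s⁻¹ * d * s⁻¹⁻¹) = o := by
      rw [inv_inv, show d * (s⁻¹ * d * s) = (d * s * d⁻¹)⁻¹ * (d * d) * s by group,
        hsinv, hdd, inv_inv, mul_one, hss]
    rwa [e] at this
  have hRP : R ≤ PG := by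
    rw [hR, Subgroup.closure_le]
    rintro _ ⟨a, ha, b, hb, rfl⟩
    have := mul_mem (inv_mem (hallP a ha)) (hallP b hb)
    rwa [mul_inv_rev, hdi, inv_eq_of_mul_eq_one_left (hinvc a ha), mul_assoc, ← mul_assoc d d, hdd,
      one_mul] at this
  intro a ha b hb
  exact H1.le_pCore ((P.isPGroup'.map R.subtype).to_le hRP) (Subgroup.subset_closure ⟨a, ha, b, hb, rfl⟩)

/-- The conclusion for any group in which the Z*-theorem holds. -/
theorem mul_mem_pCore_of_zStar
    (hZ : ∀ (P : Sylow 2 G) (u : G), orderOf u = 2 → u ∈ P →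
      (∀ g : G, g * u * g⁻¹ ∈ P → g * u * g⁻¹ = u) →
      ∃ N : Subgroup G, N.Normal ∧ Odd (Nat.card N) ∧ ∀ g : G, (u * g * u⁻¹ * g⁻¹) ∈ N)
    {p : ℕ} (hp : p.Prime) (hp2 : p ≠ 2) (d : G) (hd : orderOf d = 2)
    (hprod : ∀ a ∈ conjugatesOf d, ∀ b ∈ conjugatesOf d, ∃ k : ℕ, orderOf (a * b) = p ^ k) :
    ∀ a ∈ conjugatesOf d, ∀ b ∈ conjugatesOf d, a * b ∈ Cfsg.pCore p G := by
  haveI : Fact p.Prime := ⟨hp⟩
  haveI : Fact (Nat.Prime 2) := ⟨Nat.prime_two⟩
  have hdd : d * d = 1 := by rw [← pow_two, ← hd]; exact pow_orderOf_eq_one d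
  have hdi : d⁻¹ = d := inv_eq_of_mul_eq_one_left hdd
  obtain ⟨P, hP⟩ := (IsPGroup.of_card (p := 2) (n := 1)
    (show Nat.card (Subgroup.zpowers d) = 2 ^ 1 by rw [Nat.card_zpowers, hd, pow_one])).exists_le_sylow
  have hdP : d ∈ P := hP (Subgroup.mem_zpowers d)
  obtain ⟨N, hNn, hodd, hN⟩ := hZ P d hd hdP fun g hg => by
    obtain ⟨k, hk⟩ := hprod (g * d * g⁻¹) (isConj_iff.2 ⟨g, rfl⟩) d (IsConj.refl d)
    obtain ⟨j, hj⟩ := P.isPGroup' ⟨g * d * g⁻¹ * d, mul_mem hg hdP⟩
    have hj' : (g * d * g⁻¹ * d) ^ 2 ^ j = 1 := by simpa [Subtype.ext_iff] using hj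
    have hone : p ^ k = 1 := Nat.Coprime.eq_one_of_dvd
      (Nat.Coprime.pow k j ((Nat.coprime_primes hp Nat.prime_two).2 hp2))
      (hk ▸ orderOf_dvd_of_pow_eq_one hj')
    rw [hone, orderOf_eq_one_iff] at hk
    rw [eq_inv_of_mul_eq_one_left hk, hdi]
  refine mul_mem_pCore_of_mem_odd d hd hprod hodd ?_
  intro a ha b hb
  obtain ⟨g, rfl⟩ := isConj_iff.1 (show IsConj d a from ha)
  obtain ⟨h, rfl⟩ := isConj_iff.1 (show IsConj d b from hb)
  have := mul_mem (inv_mem (hN g)) (hN h)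
  simpa [mul_assoc, hdi, ← mul_assoc d d, hdd] using this

end H99
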