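/-
A class of 3-transpositions in which each member commutes with exactly one other member generates
the symmetric group of degree four.
-/
import Cfsg.Agent.H99.TTTransitive

set_option autoImplicit false

namespace H99

open Cfsg

variable {G : Type*} [Group G] [Finite G] {D : Set G}

theorem symFour_of_two (hD : IsThreeTranspositionClass D) {d : G} (hd : d ∈ D)
    (hD2 : ∃ a ∈ D, ∃ b ∈ D, a ≠ b) (hm : {y : G | y ∈ D ∧ Commute d y}.ncard = 2) :
    Nonempty (G ≃* Equiv.Perm (Fin 4)) := by
  have hT := hD.1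
  have hconj : ∀ g : G, ∀ d ∈ D, g * d * g⁻¹ ∈ D := fun g d hd => class_conj_mem hD g hd
  -- partners
  have hpart : ∀ c ∈ D, ∃ c' ∈ D, c' ≠ c ∧ Commute c c' ∧
      ∀ y ∈ D, Commute c y → y = c ∨ y = c' := by
    intro c hc
    have h2 : (perpIns D c).ncard = 2 := (ncard_perpIns_eq hD hc hd).trans hm
    obtain ⟨x, y, hxy, hS⟩ := Set.ncard_eq_two.1 h2
    have hcS : c ∈ ({x, y} : Set G) := hS ▸ ⟨hc, Commute.refl c⟩
    rcases hcS with rfl | rfl
    · obtain ⟨hy, hcy⟩ : y ∈ perpIns D c := hS ▸ Or.inr rfl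
      exact ⟨y, hy, hxy.symm, hcy, fun z hz hcz => (hS ▸ ⟨hz, hcz⟩ : z ∈ ({c, y} : Set G))⟩
    · obtain ⟨hx, hcx⟩ : x ∈ perpIns D c := hS ▸ Or.inl rfl
      exact ⟨x, hx, hxy, hcx, fun z hz hcz => ((hS ▸ ⟨hz, hcz⟩ : z ∈ ({x, c} : Set G))).symm⟩
  choose! p hpD hpne hpc hpu using hpart
  have huniq : ∀ c ∈ D, ∀ y ∈ D, y ≠ c → Commute c y → p c = y := fun c hc y hy hne hcy =>
    ((hpu c hc y hy hcy).resolve_left hne).symm
  -- two non-commuting members
  have pair : ∀ a ∈ D, ∀ b ∈ D, ¬ Commute a b →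
      ∃ φ : Equiv.Perm (Fin 4) →* G, Function.Injective φ ∧ φ (Equiv.swap 0 1) = a ∧
        φ (Equiv.swap 1 2) = b ∧ φ (Equiv.swap 2 3) = p a ∧ p b = φ (Equiv.swap 0 3) ∧
        p (a * b * a) = φ (Equiv.swap 1 3) := by
    intro a ha b hb hab
    have hbpa : ¬ Commute b (p a) := by
      intro h
      rcases hpu (p a) (hpD a ha) a ha (hpc a ha).symm with h1 | h1
      · exact hpne a ha h1.symm
      · rcases hpu (p a) (hpD a ha) b hb h.symm with h2 | h2
        · exact hab (h2 ▸ hpc a ha)
        · exact hab (by rw [h2, ← h1])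
    obtain ⟨φ, hinj, h1, h2, h3⟩ := exists_sym_four_of_string hT ha hb (hpD a ha) (hpne a ha).symm
      (hpc a ha) hab hbpa
    have hab' : a * b * a = φ (Equiv.swap 0 2) := by
      rw [← h1, ← h2, ← map_mul, ← map_mul]
      exact congrArg φ (by decide +kernel)
    have hsw : ∀ i j : Fin 4, i ≠ j → φ (Equiv.swap i j) ∈ D := by
      intro i j hij
      obtain ⟨g, hg⟩ := isConj_iff.1 (show IsConj (Equiv.swap (0 : Fin 4) 1) (Equiv.swap i j) from
        Equiv.Perm.isConj_iff_cycleType_eq.2 (by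
          rw [(Equiv.Perm.IsSwap.isCycle ⟨_, _, hij, rfl⟩).cycleType,
            (Equiv.Perm.IsSwap.isCycle ⟨_, _, (by decide : (0 : Fin 4) ≠ 1), rfl⟩).cycleType,
            Equiv.Perm.card_support_swap hij, Equiv.Perm.card_support_swap (by decide)]))
      rw [← hg, map_mul, map_mul, map_inv, h1]
      exact hconj _ a ha
    refine ⟨φ, hinj, h1, h2, h3, ?_, ?_⟩
    · refine huniq b hb _ (hsw 0 3 (by decide)) ?_ ?_
      · rw [← h2]
        exact fun h => absurd (hinj h) (by decide +kernel)
      · rw [← h2]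
        exact (show Commute (Equiv.swap 1 2 : Equiv.Perm (Fin 4)) (Equiv.swap 0 3) by
          rw [commute_iff_eq]; decide +kernel).map φ
    · refine huniq _ (hab' ▸ hsw 0 2 (by decide)) _ (hsw 1 3 (by decide)) ?_ ?_
      · rw [hab']
        exact fun h => absurd (hinj h) (by decide +kernel)
      · rw [hab']
        exact (show Commute (Equiv.swap 0 2 : Equiv.Perm (Fin 4)) (Equiv.swap 1 3) by
          rw [commute_iff_eq]; decide +kernel).map φ
  -- the transvection property
  have transv : ∀ a ∈ D, ∀ b ∈ D, ¬ Commute a b → b * (a * p a) * b = a * p a * (b * p b) ∧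
      a * b * a * p (a * b * a) = a * p a * (b * p b) := by
    intro a ha b hb hab
    obtain ⟨φ, -, h1, h2, h3, h4, h5⟩ := pair a ha b hb hab
    constructor
    · rw [h4, ← h3, ← h1, ← h2]
      simp only [← map_mul]
      exact congrArg φ (by decide +kernel)
    · rw [h5, h4, ← h3, ← h1, ← h2]
      simp only [← map_mul]
      exact congrArg φ (by decide +kernel)
  obtain ⟨e, he, hde⟩ := class_exists_not_commute hD hD2 hd
  obtain ⟨φ, hinj, h1, h2, h3, h4, h5⟩ := pair d hd e he hde
  have hrange : ∀ f ∈ D, f ∈ φ.range := by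
    intro f hf
    by_cases hfd : Commute d f
    · rcases hpu d hd f hf hfd with rfl | rfl
      · exact ⟨_, h1⟩
      · exact ⟨_, h3⟩
    by_cases hfe : Commute e f
    · rcases hpu e he f hf hfe with rfl | rfl
      · exact ⟨_, h2⟩
      · exact ⟨_, h4.symm⟩
    set g := d * e * d with hg
    have hgD : g ∈ D := by simpa [tt_inv hT hd] using hconj d e he
    by_cases hfg : Commute g f
    · rcases hpu g hgD f hf hfg with rfl | rfl
      · exact ⟨Equiv.swap 0 1 * Equiv.swap 1 2 * Equiv.swap 0 1, by rw [map_mul, map_mul, h1, h2]⟩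
      · exact ⟨_, h5.symm⟩
    exfalso
    obtain ⟨ta, -⟩ := transv d hd f hf hfd
    obtain ⟨tb, -⟩ := transv e he f hf hfe
    obtain ⟨tg, -⟩ := transv g hgD f hf hfg
    obtain ⟨-, hsum⟩ := transv d hd e he hde
    rw [← hg] at hsum
    rw [hsum] at tg
    have hff := tt_mul_self hT hf
    have hcc : Commute (f * p f) (e * p e) := by
      obtain ⟨ψ, -, k1, k2, k3, k4, -⟩ := pair f hf e he fun h => hfe h.symm
      rw [k4, ← k3, ← k1, ← k2]
      simp only [← map_mul]
      exact (show Commute (Equiv.swap 0 1 * Equiv.swap 2 3 : Equiv.Perm (Fin 4)) _ by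
        rw [commute_iff_eq]; decide +kernel).map ψ
    have hsq : (f * p f) * (f * p f) = 1 := by
      rw [(hpc f hf).symm.mul_mul_mul_comm, hff, tt_mul_self hT (hpD f hf), one_mul]
    have hlhs : f * (d * p d * (e * p e)) * f = d * p d * (e * p e) := by
      calc f * (d * p d * (e * p e)) * f = (f * (d * p d) * f) * (f * (e * p e) * f) := by
            rw [show f * (d * p d) * f * (f * (e * p e) * f) = f * (d * p d) * (f * f) * (e * p e) * f
              by group, hff, mul_one]
            group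
        _ = d * p d * (f * p f * (e * p e)) * (f * p f) := by rw [ta, tb]; group
        _ = d * p d * (e * p e) * ((f * p f) * (f * p f)) := by rw [hcc.eq]; group
        _ = d * p d * (e * p e) := by rw [hsq, mul_one]
    rw [hlhs] at tg
    have h := mul_eq_left.1 tg.symm
    have := eq_inv_of_mul_eq_one_left h
    rw [tt_inv hT (hpD f hf)] at this
    exact hpne f hf this.symm
  refine ⟨(MulEquiv.ofBijective φ ⟨hinj, fun x => ?_⟩).symm⟩
  have hle : Subgroup.closure D ≤ φ.range := (Subgroup.closure_le _).2 hrange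
  exact hle (hD.2.2 ▸ Subgroup.mem_top x)

end H99
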