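/-
A 3-transposition group whose commuting members are all equivalent: the Sylow 3-subgroup can be
chosen invariant under a given transposition.
-/
import Cfsg.Agent.H99.TTClass
import Cfsg.Agent.H73.KSeq

set_option autoImplicit false

namespace H99

open Cfsg

variable {G : Type*} [Group G]

/-- Conjugation. -/
def act (p b : G) : G := p * b * p⁻¹

/-- The sum over the orbit of an element of order three, written multiplicatively. -/
def norm3 (x a : G) : G := a * (x * a * x⁻¹) * (x * x * a * (x * x)⁻¹)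

lemma mem_normalizer_of_conj_mem [Finite G] {B : Subgroup G} {g : G}
    (h : ∀ b ∈ B, g * b * g⁻¹ ∈ B) : g ∈ Subgroup.normalizer (B : Set G) :=
  Subgroup.mem_normalizer_iff.2 fun b => by
    constructor
    · exact h b
    · intro hb
      obtain ⟨n, hn⟩ : ∃ n : ℕ, g ^ (n + 1) = 1 :=
        ⟨orderOf g - 1, by rw [Nat.sub_add_cancel (orderOf_pos g), pow_orderOf_eq_one]⟩
      have hall : ∀ m : ℕ, ∀ y ∈ B, g ^ m * y * (g ^ m)⁻¹ ∈ B := by
        intro m
        induction m with
        | zero => intro y hy; simpa using hy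
        | succ m ih =>
          intro y hy
          rw [pow_succ', show g * g ^ m * y * (g * g ^ m)⁻¹ = g * (g ^ m * y * (g ^ m)⁻¹) * g⁻¹ by group]
          exact h _ (ih y hy)
      have h1 := hall n _ hb
      have hgn : g ^ n = g⁻¹ := eq_inv_of_mul_eq_one_left (by rw [← pow_succ, hn])
      rw [hgn, inv_inv, show g⁻¹ * (g * b * g⁻¹) * g = b by group] at h1
      exact h1

/-- One step of the descent: an irreducible elementary abelian normal 2-subgroup. -/
theorem exists_conj_normalizer [Finite G] {W O P : Subgroup G} [W.Normal] [O.Normal] {d : G}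
    (hcomm : ∀ a ∈ W, ∀ b ∈ W, a * b = b * a) (hexp : ∀ a ∈ W, a * a = 1)
    (hirr : ∀ M : Subgroup G, M.Normal → M ≤ W → M = ⊥ ∨ M = W)
    (hO : IsPGroup 2 O) (hOW : ∀ o ∈ O, ∀ b ∈ W, o * b = b * o) (hWO : W ≤ O)
    (hP : IsPGroup 3 P) (hgen : O ⊔ P ⊔ Subgroup.zpowers d = ⊤)
    (hcls : Subgroup.closure (conjugatesOf d) = ⊤) (hdd : d * d = 1)
    (hnorm : d ∈ Subgroup.normalizer ((P ⊔ W : Subgroup G) : Set G))
    (hcube : ∀ p ∈ P, (d * (p * d * p⁻¹)) ^ 2 = 1 ∨ (d * (p * d * p⁻¹)) ^ 3 = 1) :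
    ∃ u ∈ W, u * d * u⁻¹ ∈ Subgroup.normalizer (P : Set G) := by
  haveI : Fact (Nat.Prime 2) := ⟨Nat.prime_two⟩
  haveI : Fact (Nat.Prime 3) := ⟨Nat.prime_three⟩
  have hWn : ∀ g : G, ∀ b ∈ W, g * b * g⁻¹ ∈ W := fun g b hb =>
    Subgroup.Normal.conj_mem inferInstance b hb g
  have hdi : d⁻¹ = d := inv_eq_of_mul_eq_one_left hdd
  have hWi : ∀ a ∈ W, a⁻¹ = a := fun a ha => inv_eq_of_mul_eq_one_left (hexp a ha)
  have hmid : ∀ a ∈ W, ∀ b ∈ W, ∀ c ∈ W, ∀ e ∈ W, a * b * (c * e) = (a * c) * (b * e) :=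
    fun a _ b hb c hc e _ => Commute.mul_mul_mul_comm (hcomm b hb c hc) a e
  have hPW : ∀ y, y ∈ P → y ∈ W → y = 1 := by
    intro y hy hyW
    obtain ⟨k, hk⟩ := hP ⟨y, hy⟩
    have h3 : y ^ 3 ^ k = 1 := by simpa [Subtype.ext_iff] using hk
    have h2 : y ^ 2 = 1 := by rw [pow_two, hexp y hyW]
    have h1 := pow_gcd_eq_one.2 ⟨h2, h3⟩
    rwa [Nat.Coprime.gcd_eq_one (Nat.Coprime.pow_right k (by norm_num)), pow_one] at h1
  -- `P` is a Sylow subgroup of `P ⊔ W`
  set H := P ⊔ W with hH
  have hmax : ∀ {Q : Subgroup H}, IsPGroup 3 Q → P.subgroupOf H ≤ Q → Q = P.subgroupOf H := by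
    intro Q hQ hle
    refine le_antisymm (fun q hq => ?_) hle
    obtain ⟨p, hp, b, hb, hpb⟩ := Subgroup.mem_sup_of_normal_right.1 q.2
    have hpm : (⟨p, Subgroup.mem_sup_left hp⟩ : H) ∈ Q := hle (show p ∈ P from hp)
    have hbQ : (⟨b, Subgroup.mem_sup_right hb⟩ : H) ∈ Q := by
      have := mul_mem (inv_mem hpm) hq
      convert this using 1
      apply Subtype.ext
      show b = p⁻¹ * (q : G)
      rw [← hpb, inv_mul_cancel_left]
    obtain ⟨k, hk⟩ := hQ ⟨_, hbQ⟩
    have h3 : b ^ 3 ^ k = 1 := by simpa [Subtype.ext_iff] using hk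
    have h2 : b ^ 2 = 1 := by rw [pow_two, hexp b hb]
    have h1 := pow_gcd_eq_one.2 ⟨h2, h3⟩
    rw [Nat.Coprime.gcd_eq_one (Nat.Coprime.pow_right k (by norm_num)), pow_one] at h1
    rw [h1, mul_one] at hpb
    show (q : G) ∈ P
    rw [← hpb]
    exact hp
  let S₁ : Sylow 3 H := ⟨P.subgroupOf H, hP.comap_of_injective H.subtype H.subtype_injective, hmax⟩
  have hdH := Subgroup.mem_normalizer_iff.1 hnorm
  let δ : H ≃* H :=
    { toFun := fun h => ⟨d * h * d⁻¹, (hdH h).1 h.2⟩
      invFun := fun h => ⟨d⁻¹ * h * d, (hdH _).2 (by simp [mul_assoc])⟩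
      left_inv := fun h => Subtype.ext (by simp [mul_assoc])
      right_inv := fun h => Subtype.ext (by simp [mul_assoc])
      map_mul' := fun a b => Subtype.ext (by simp [mul_assoc]) }
  obtain ⟨h, hh⟩ := MulAction.exists_smul_eq H S₁ (S₁.mapSurjective (f := δ.toMonoidHom) δ.surjective)
  obtain ⟨w, hw, p₀, hp₀, hwp⟩ : ∃ w ∈ W, ∃ p ∈ P, w * p = (h : G) := by
    have : (h : G) ∈ W ⊔ P := by rw [sup_comm]; exact h.2
    exact Subgroup.mem_sup_of_normal_left.1 this
  have hconj : ∀ y ∈ P, (w⁻¹ * d) * y * (w⁻¹ * d)⁻¹ ∈ P := by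
    intro y hy
    have h1 : (⟨d * y * d⁻¹, (hdH y).1 (Subgroup.mem_sup_left hy)⟩ : H) ∈
        (S₁.mapSurjective (f := δ.toMonoidHom) δ.surjective : Subgroup H) :=
      ⟨⟨y, Subgroup.mem_sup_left hy⟩, hy, rfl⟩
    rw [← hh, Sylow.coe_subgroup_smul, Subgroup.mem_pointwise_smul_iff_inv_smul_mem] at h1
    have h2 : (h : G)⁻¹ * (d * y * d⁻¹) * (h : G) ∈ P := by
      simpa [MulAut.smul_def, mul_assoc] using (Subgroup.mem_subgroupOf.1 h1)
    have h3 := mul_mem (mul_mem hp₀ h2) (inv_mem hp₀)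
    rw [← hwp] at h3
    convert h3 using 1
    group
  set M : Subgroup G := W ⊓ Subgroup.centralizer (P : Set G) with hMdef
  -- invariant subgroups are trivial
  have hinv : ∀ Z : Set G, (∀ b ∈ W, b ∈ Subgroup.centralizer Z → ∀ p ∈ P,
      p * b * p⁻¹ ∈ Subgroup.centralizer Z) → (∀ b ∈ W, b ∈ Subgroup.centralizer Z →
      d * b * d⁻¹ ∈ Subgroup.centralizer Z) →
      W ⊓ Subgroup.centralizer Z = ⊥ ∨ W ⊓ Subgroup.centralizer Z = W := by
    intro Z hZP hZd
    refine hirr _ ⟨?_⟩ inf_le_left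
    intro b hb g
    have hle : (⊤ : Subgroup G) ≤ Subgroup.normalizer ((W ⊓ Subgroup.centralizer Z : Subgroup G) : Set G) := by
      rw [← hgen, sup_le_iff, sup_le_iff]
      refine ⟨⟨fun o ho => mem_normalizer_of_conj_mem fun b hb => ?_, fun p hp => mem_normalizer_of_conj_mem fun b hb => ?_⟩,
        (Subgroup.zpowers_le).2 (mem_normalizer_of_conj_mem fun b hb => ?_)⟩
      · rw [hOW o ho b hb.1, mul_inv_cancel_right]; exact hb
      · exact ⟨hWn p b hb.1, hZP b hb.1 hb.2 p hp⟩
      · exact ⟨hWn d b hb.1, hZd b hb.1 hb.2⟩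
    exact (Subgroup.mem_normalizer_iff.1 (hle (Subgroup.mem_top g)) b).1 hb
  obtain ⟨d', hd'⟩ : ∃ d', d' = w⁻¹ * d := ⟨_, rfl⟩
  rw [← hd'] at hconj
  have hd'conj : ∀ b ∈ W, d' * b * d'⁻¹ = d * b * d⁻¹ := by
    intro b hb
    rw [show d' * b * d'⁻¹ = w⁻¹ * (d * b * d⁻¹) * w by rw [hd']; group,
      hcomm _ (inv_mem hw) _ (hWn d b hb), inv_mul_cancel_right]
  have hd'inv : ∀ y ∈ P, d'⁻¹ * y * d' ∈ P := fun y hy => by
    have := (Subgroup.mem_normalizer_iff.1 ((Subgroup.normalizer (P : Set G)).inv_mem (mem_normalizer_of_conj_mem hconj)) y).1 hy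
    simpa using this
  have hMP : ∀ b ∈ W, b ∈ Subgroup.centralizer (P : Set G) → ∀ p ∈ P,
      p * b * p⁻¹ ∈ Subgroup.centralizer (P : Set G) := by
    intro b hb hbc p hp
    refine Subgroup.mem_centralizer_iff.2 fun y hy => ?_
    have h1 := Subgroup.mem_centralizer_iff.1 hbc p hp
    rw [h1, mul_inv_cancel_right]
    exact Subgroup.mem_centralizer_iff.1 hbc y hy
  have hMd : ∀ b ∈ W, b ∈ Subgroup.centralizer (P : Set G) →
      d * b * d⁻¹ ∈ Subgroup.centralizer (P : Set G) := by
    intro b hb hbc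
    refine Subgroup.mem_centralizer_iff.2 fun y hy => ?_
    rw [← hd'conj b hb]
    have h1 := Subgroup.mem_centralizer_iff.1 hbc _ (hd'inv y hy)
    calc y * (d' * b * d'⁻¹) = d' * ((d'⁻¹ * y * d') * b) * d'⁻¹ := by group
      _ = d' * (b * (d'⁻¹ * y * d')) * d'⁻¹ := by rw [h1]
      _ = d' * b * d'⁻¹ * y := by group
  rcases hinv (P : Set G) hMP hMd with hbot | hall
  swap
  · -- P commutes with W
    have hc : ∀ b ∈ W, ∀ y ∈ P, y * b = b * y := fun b hb y hy =>
      Subgroup.mem_centralizer_iff.1 (show b ∈ W ⊓ Subgroup.centralizer (P : Set G) from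
        hall.symm ▸ hb).2 y hy
    refine ⟨1, one_mem _, ?_⟩
    rw [one_mul, inv_one, mul_one]
    have key : ∀ y ∈ P, d * y * d⁻¹ ∈ P := fun y hy => by
      have h1 := hconj y hy
      have h3 : d * y * d⁻¹ = w * (d' * y * d'⁻¹) * w⁻¹ := by rw [hd']; group
      rw [h3, ← hc w hw _ h1, mul_inv_cancel_right]
      exact h1
    refine Subgroup.mem_normalizer_iff.2 fun y => ⟨key y, fun h => ?_⟩
    have := key _ h
    simpa [mul_assoc, hdi, ← mul_assoc d d, hdd] using this
  have hfixbot : ∀ b ∈ W, (∀ y ∈ P, y * b = b * y) → b = 1 := by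
    intro b hb h
    have : b ∈ W ⊓ Subgroup.centralizer (P : Set G) := ⟨hb, Subgroup.mem_centralizer_iff.2 h⟩
    rwa [hbot, Subgroup.mem_bot] at this
  have hd'2 : d' * d' = 1 := by
    have hmW : d' * d' ∈ W := by
      have e : d' * d' = w⁻¹ * (d * w⁻¹ * d⁻¹) * (d * d) := by rw [hd']; group
      rw [e, hdd, mul_one]
      exact mul_mem (inv_mem hw) (hWn d _ (inv_mem hw))
    refine hfixbot _ hmW fun y hy => ?_
    have h1 : d' * d' * y * (d' * d')⁻¹ ∈ P := by
      have h0 := hconj _ (hconj y hy)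
      convert h0 using 1
      group
    have h2 : d' * d' * y * (d' * d')⁻¹ * y⁻¹ = 1 := by
      refine hPW _ (mul_mem h1 (inv_mem hy)) ?_
      have := mul_mem hmW (hWn y _ (inv_mem hmW))
      simpa [mul_assoc] using this
    exact (mul_inv_eq_iff_eq_mul.1 (mul_inv_eq_one.1 h2)).symm
  have hd'i : d'⁻¹ = d' := inv_eq_of_mul_eq_one_left hd'2
  have hdeq : d = w * d' := by rw [hd', mul_inv_cancel_left]
  have hw' : d' * w * d' = w := by
    have h1 : w * (d' * w * d') = 1 := by
      rw [show w * (d' * w * d') = (w * d') * (w * d') by group, ← hdeq, hdd]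
    rw [← inv_eq_of_mul_eq_one_right h1, hWi w hw]
  have hD' : ∀ b ∈ W, d' * b * d' ∈ W := fun b hb => by
    have := hWn d' b hb
    rwa [hd'i] at this
  -- the set of elements `b * d' b d'`
  set U : G → Prop := fun v => ∃ b ∈ W, v = b * (d' * b * d') with hU
  suffices hgoal : U w by
    obtain ⟨b, hb, hwb⟩ := hgoal
    refine ⟨b⁻¹, inv_mem hb, ?_⟩
    have e : b⁻¹ * d * b⁻¹⁻¹ = d' := by
      rw [inv_inv, hdeq, hwb,
        show b⁻¹ * (b * (d' * b * d') * d') * b = d' * b * (d' * d') * b by group, hd'2, mul_one,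
        mul_assoc, hexp b hb, mul_one]
    rw [e]
    refine Subgroup.mem_normalizer_iff.2 fun y => ⟨hconj y, fun h => ?_⟩
    have := hd'inv _ h
    simpa [mul_assoc] using this
  have hUmul : ∀ a b, U a → U b → U (a * b) := by
    rintro _ _ ⟨a, ha, rfl⟩ ⟨b, hb, rfl⟩
    refine ⟨a * b, mul_mem ha hb, ?_⟩
    rw [hmid a ha _ (hD' a ha) b hb _ (hD' b hb),
      show d' * (a * b) * d' = d' * a * 1 * b * d' by group, ← hd'2]
    group
  have hN3 : ∀ x a, a ∈ W → norm3 x a ∈ W := fun x a ha =>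
    mul_mem (mul_mem ha (hWn x a ha)) (hWn _ a ha)
  have hNfix : ∀ x a, a ∈ W → x ^ 3 = 1 → x * norm3 x a * x⁻¹ = norm3 x a := by
    intro x a ha hx
    have hx3 : x * x * x = 1 := by rw [← pow_three', hx]
    calc x * norm3 x a * x⁻¹ = (x * a * x⁻¹) * (x * x * a * (x * x)⁻¹) *
          (x * x * x * a * (x * x * x)⁻¹) := by rw [norm3]; group
      _ = (x * a * x⁻¹) * (x * x * a * (x * x)⁻¹) * a := by rw [hx3, one_mul, inv_one, mul_one]
      _ = norm3 x a := by
        rw [← hcomm a ha _ (mul_mem (hWn x a ha) (hWn _ a ha)), norm3, mul_assoc a]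
  have hNU : ∀ x v, v ∈ W → d' * v * d' = v → x ^ 3 = 1 → d' * x * d' = x⁻¹ → U (norm3 x v * v) := by
    intro x v hv hfix hx hdx
    have hx3 : x * x * x = 1 := by rw [← pow_three', hx]
    have hxx : x * x = x⁻¹ := eq_inv_of_mul_eq_one_left hx3
    refine ⟨x * v * x⁻¹, hWn x v hv, ?_⟩
    have e : d' * (x * v * x⁻¹) * d' = x⁻¹ * v * x⁻¹⁻¹ := by
      calc d' * (x * v * x⁻¹) * d' = (d' * x * d'⁻¹) * (d' * v * d'⁻¹) * (d' * x * d'⁻¹)⁻¹ *
            (d' * d') := by group
        _ = x⁻¹ * v * x⁻¹⁻¹ := by rw [hd'2, mul_one, hd'i, hdx, hfix]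
    rw [e, norm3, hxx, mul_assoc v, hcomm v hv _ (mul_mem (hWn x v hv) (hWn _ v hv)), mul_assoc _ v v,
      hexp v hv, mul_one]
  -- the relation coming from the orders of products
  have hrel : ∀ p ∈ P, d' * p * d' * p⁻¹ ≠ 1 →
      (d' * p * d' * p⁻¹) ^ 3 = 1 ∧ d' * (d' * p * d' * p⁻¹) * d' = (d' * p * d' * p⁻¹)⁻¹ ∧
      norm3 (d' * p * d' * p⁻¹) (p * w * p⁻¹) = norm3 (d' * p * d' * p⁻¹) w := by
    intro p hp hne
    obtain ⟨x, hxdef⟩ : ∃ x, x = d' * p * d' * p⁻¹ := ⟨_, rfl⟩
    rw [← hxdef] at hne ⊢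
    obtain ⟨wp, hwpdef⟩ : ∃ wp, wp = p * w * p⁻¹ := ⟨_, rfl⟩
    rw [← hwpdef]
    have hwpW : wp ∈ W := hwpdef ▸ hWn p w hw
    obtain ⟨a, hadef⟩ : ∃ a, a = w * (d' * wp * d') := ⟨_, rfl⟩
    have haW : a ∈ W := hadef ▸ mul_mem hw (hD' wp hwpW)
    have hxP : x ∈ P := by
      have h := mul_mem (hconj p hp) (inv_mem hp)
      rw [hd'i] at h
      rwa [hxdef]
    have hde : d * (p * d * p⁻¹) = a * x := by
      calc d * (p * d * p⁻¹) = (w * d') * (p * w * p⁻¹ * 1 * (p * d' * p⁻¹)) := by rw [hdeq]; group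
        _ = (w * d') * (p * w * p⁻¹ * (d' * d') * (p * d' * p⁻¹)) := by rw [hd'2]
        _ = a * x := by rw [hadef, hwpdef, hxdef]; group
    have hxinv : d' * x * d' = x⁻¹ := by
      rw [hxdef, show d' * (d' * p * d' * p⁻¹) * d' = (d' * d') * p * d' * p⁻¹ * d' by group, hd'2,
        one_mul, mul_inv_rev, mul_inv_rev, mul_inv_rev, inv_inv, hd'i]
      group
    rcases hcube p hp with h | h
    · exfalso
      rw [hde] at h
      have hsq : a * (x * a * x⁻¹) * (x * x) = 1 := by rw [← h, pow_two]; group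
      have hxxW : x * x ∈ W := by
        rw [eq_inv_of_mul_eq_one_right hsq]
        exact inv_mem (mul_mem haW (hWn x a haW))
      have h2 : x ^ 2 = 1 := by rw [pow_two]; exact hPW _ (mul_mem hxP hxP) hxxW
      obtain ⟨k, hk⟩ := hP ⟨x, hxP⟩
      have h3 : x ^ 3 ^ k = 1 := by simpa [Subtype.ext_iff] using hk
      have h1 := pow_gcd_eq_one.2 ⟨h2, h3⟩
      rw [Nat.Coprime.gcd_eq_one (Nat.Coprime.pow_right k (by norm_num)), pow_one] at h1
      exact hne h1
    · rw [hde] at h
      have hcu : norm3 x a * (x * x * x) = 1 := by rw [← h, pow_three', norm3]; group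
      have hx3 : x * x * x = 1 := by
        refine hPW _ (mul_mem (mul_mem hxP hxP) hxP) ?_
        rw [eq_inv_of_mul_eq_one_right hcu]
        exact inv_mem (hN3 x a haW)
      have hxp : x ^ 3 = 1 := by rw [pow_three', hx3]
      refine ⟨hxp, hxinv, ?_⟩
      rw [hx3, mul_one] at hcu
      have hxx : x * x = x⁻¹ := eq_inv_of_mul_eq_one_left hx3
      obtain ⟨v, hvdef⟩ : ∃ v, v = d' * wp * d' := ⟨_, rfl⟩
      have hv : v ∈ W := hvdef ▸ hD' wp hwpW
      -- the norm is multiplicative
      have hmul : norm3 x a = norm3 x w * norm3 x v := by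
        rw [hadef, ← hvdef, norm3, norm3, norm3,
          show x * (w * v) * x⁻¹ = (x * w * x⁻¹) * (x * v * x⁻¹) by group,
          show x * x * (w * v) * (x * x)⁻¹ = (x * x * w * (x * x)⁻¹) * (x * x * v * (x * x)⁻¹) by group,
          hmid w hw v hv _ (hWn x w hw) _ (hWn x v hv),
          hmid _ (mul_mem hw (hWn x w hw)) _ (mul_mem hv (hWn x v hv)) _ (hWn _ w hw) _ (hWn _ v hv)]
      -- conjugation by `d'`
      have hcj : ∀ t b, d' * (t * b * t⁻¹) * d' = (d' * t * d') * (d' * b * d') * (d' * t * d')⁻¹ := by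
        intro t b
        rw [mul_inv_rev, mul_inv_rev, hd'i]
        calc d' * (t * b * t⁻¹) * d' = d' * t * 1 * b * 1 * t⁻¹ * d' := by group
          _ = d' * t * (d' * d') * b * (d' * d') * t⁻¹ * d' := by rw [hd'2]
          _ = d' * t * d' * (d' * b * d') * (d' * (t⁻¹ * d')) := by group
      have hsplit : ∀ s t : G, d' * (s * t) * d' = (d' * s * d') * (d' * t * d') := by
        intro s t
        calc d' * (s * t) * d' = d' * s * 1 * t * d' := by group
          _ = d' * s * (d' * d') * t * d' := by rw [hd'2]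
          _ = (d' * s * d') * (d' * t * d') := by group
      have hflip : ∀ b ∈ W, d' * norm3 x b * d' = norm3 x (d' * b * d') := by
        intro b hb
        have e2 : d' * (x * x) * d' = x := by
          rw [hsplit, hxinv, ← mul_inv_rev, hxx, inv_inv]
        rw [norm3, norm3, hsplit, hsplit, hcj x, hcj (x * x), e2, hxinv, mul_assoc (d' * b * d'),
          hcomm _ (hWn x⁻¹ _ (hD' b hb)) _ (hWn x _ (hD' b hb)), ← mul_assoc, hxx]
      have h1 : norm3 x w = norm3 x v := by
        rw [hmul] at hcu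
        rw [eq_inv_of_mul_eq_one_left hcu, hWi _ (hN3 x v hv)]
      calc norm3 x wp = norm3 x (d' * v * d') := by
            rw [hvdef, show d' * (d' * wp * d') * d' = (d' * d') * wp * (d' * d') by group, hd'2,
              one_mul, mul_one]
        _ = d' * norm3 x v * d' := (hflip v hv).symm
        _ = d' * norm3 x w * d' := by rw [h1]
        _ = norm3 x (d' * w * d') := hflip w hw
        _ = norm3 x w := by rw [hw']
  -- a central element of the action
  set K : Subgroup P := (Subgroup.centralizer (W : Set G)).subgroupOf P with hKdef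
  haveI : (Subgroup.centralizer (W : Set G)).Normal := by
    refine ⟨fun c hc g => Subgroup.mem_centralizer_iff.2 fun b hb => ?_⟩
    have hb' : g⁻¹ * b * g ∈ W := by simpa using hWn g⁻¹ b hb
    calc b * (g * c * g⁻¹) = g * ((g⁻¹ * b * g) * c) * g⁻¹ := by group
      _ = g * (c * (g⁻¹ * b * g)) * g⁻¹ := by rw [Subgroup.mem_centralizer_iff.1 hc _ hb']
      _ = g * c * g⁻¹ * b := by group
  by_cases hKtop : K = ⊤
  · -- trivial action forces `w = 1`
    refine ⟨1, one_mem _, ?_⟩
    rw [one_mul, mul_one, hd'2]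
    refine hfixbot w hw fun y hy => (Subgroup.mem_centralizer_iff.1 ?_ w hw).symm
    exact (show (⟨y, hy⟩ : P) ∈ K from hKtop ▸ Subgroup.mem_top _)
  haveI : Nontrivial (P ⧸ K) := QuotientGroup.nontrivial_iff.2 hKtop
  have hPK : IsPGroup 3 (P ⧸ K) := hP.to_quotient K
  haveI := hPK.center_nontrivial
  obtain ⟨k, hk⟩ := IsPGroup.iff_card.1 (hPK.to_subgroup (Subgroup.center (P ⧸ K)))
  have hk0 : k ≠ 0 := fun h => by
    rw [h, pow_zero] at hk
    exact (Finite.one_lt_card (α := Subgroup.center (P ⧸ K))).ne' hk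
  obtain ⟨zq, hzq⟩ := exists_prime_orderOf_dvd_card' (G := Subgroup.center (P ⧸ K)) 3
    (hk ▸ dvd_pow_self 3 hk0)
  obtain ⟨z, hz⟩ := QuotientGroup.mk'_surjective K (zq : P ⧸ K)
  have hK' : ∀ p : P, p ∈ K ↔ ∀ b ∈ W, act (p : G) b = b := by
    intro p
    show (p : G) ∈ Subgroup.centralizer (W : Set G) ↔ _
    rw [Subgroup.mem_centralizer_iff]
    exact forall₂_congr fun b _ => ⟨fun h => mul_inv_eq_iff_eq_mul.2 h.symm,
      fun h => (mul_inv_eq_iff_eq_mul.1 h).symm⟩
  have hzW : ∃ b ∈ W, act (z : G) b ≠ b := by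
    by_contra hc
    push Not at hc
    have h1 : QuotientGroup.mk' K z = 1 := (QuotientGroup.eq_one_iff z).2 ((hK' z).2 hc)
    rw [hz] at h1
    have : zq = 1 := Subtype.ext h1
    rw [this, orderOf_one] at hzq
    norm_num at hzq
  have hact_mul : ∀ p q b : G, act (p * q) b = act p (act q b) := fun p q b => by
    simp only [act, mul_inv_rev]; group
  have hact_inv : ∀ p b : G, act p⁻¹ (act p b) = b := fun p b => by simp only [act]; group
  have hz3 : ∀ b ∈ W, act (z : G) (act (z : G) (act (z : G) b)) = b := by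
    intro b hb
    have h1 : QuotientGroup.mk' K (z * z * z) = 1 := by
      have : zq ^ 3 = 1 := hzq ▸ pow_orderOf_eq_one zq
      rw [map_mul, map_mul, hz, ← pow_three', ← Subgroup.coe_pow, this]; rfl
    have h2 := (hK' _).1 ((QuotientGroup.eq_one_iff _).1 h1) b hb
    push_cast at h2
    rwa [hact_mul, hact_mul] at h2
  have hzc : ∀ p ∈ P, ∀ b ∈ W, act p (act (z : G) b) = act (z : G) (act p b) := by
    intro p hp b hb
    have h0 : (QuotientGroup.mk' K ⟨p, hp⟩) * QuotientGroup.mk' K z =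
        QuotientGroup.mk' K z * QuotientGroup.mk' K ⟨p, hp⟩ := by
      rw [hz]; exact (Subgroup.mem_center_iff.1 zq.2 _)
    rw [← map_mul, ← map_mul] at h0
    have h1 := (hK' _).1 ((QuotientGroup.eq).1 h0) b hb
    push_cast at h1
    simp only [act] at h1 ⊢
    have h2 : (z : G) * p * b * (z * p : G)⁻¹ = (p * z : G) * b * (p * z : G)⁻¹ := by
      have := congrArg (fun t => (p * z : G) * t * (p * z : G)⁻¹) h1
      rw [← this]; group
    calc p * ((z : G) * b * (z : G)⁻¹) * p⁻¹ = (p * z : G) * b * (p * z : G)⁻¹ := by group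
      _ = (z : G) * p * b * (z * p : G)⁻¹ := h2.symm
      _ = (z : G) * (p * b * p⁻¹) * (z : G)⁻¹ := by group
  have hWa : ∀ p b : G, b ∈ W → act p b ∈ W := fun p b hb => hWn p b hb
  have hd'act : ∀ p b : G, act (d' * p * d') b = d' * act p (d' * b * d') * d' := by
    intro p b
    simp only [act, mul_inv_rev, hd'i]
    group
  obtain ⟨z', hz'⟩ : ∃ z', z' = d' * (z : G) * d' := ⟨_, rfl⟩
  have hz'P : z' ∈ P := by
    have := hconj _ z.2
    rw [hd'i] at this
    rwa [hz']
  have hz'c : ∀ p ∈ P, ∀ b ∈ W, act p (act z' b) = act z' (act p b) := by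
    intro p hp b hb
    have hp' : d' * p * d' ∈ P := by
      have := hconj _ hp
      rwa [hd'i] at this
    have h := hzc _ hp' (d' * b * d') (hD' b hb)
    have hflat : ∀ q : G, ∀ r s : G, act (d' * q * d') (d' * act r s * d') =
        d' * act q (act r s) * d' := by
      intro q r s
      rw [hd'act, show d' * (d' * act r s * d') * d' = (d' * d') * act r s * (d' * d') by group,
        hd'2, one_mul, mul_one]
    calc act p (act z' b) = act (d' * (d' * p * d') * d') (act z' b) := by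
          rw [show d' * (d' * p * d') * d' = (d' * d') * p * (d' * d') by group, hd'2, one_mul, mul_one]
      _ = d' * act (d' * p * d') (act (z : G) (d' * b * d')) * d' := by rw [hz', hd'act (z : G) b, hflat]
      _ = d' * act (z : G) (act (d' * p * d') (d' * b * d')) * d' := by rw [h]
      _ = act z' (act p b) := by
          rw [hd'act p (d' * b * d'), show d' * (d' * b * d') * d' = (d' * d') * b * (d' * d') by group,
            hd'2, one_mul, mul_one, hz', hd'act (z : G) (act p b)]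
  -- fixed points of a central nontrivial element are trivial
  have hfix : ∀ y ∈ P, (∀ p ∈ P, ∀ b ∈ W, act p (act y b) = act y (act p b)) →
      (∀ b ∈ W, act y b = b → act (d' * y * d') b = b) → (∃ b ∈ W, act y b ≠ b) →
      ∀ b ∈ W, act y b = b → b = 1 := by
    intro y hy hyc hyd hne b hb hyb
    have hiff : ∀ b, b ∈ Subgroup.centralizer ({y} : Set G) ↔ act y b = b := fun b => by
      rw [Subgroup.mem_centralizer_singleton_iff]
      exact ⟨fun h => mul_inv_eq_iff_eq_mul.2 h.symm, fun h => (mul_inv_eq_iff_eq_mul.1 h).symm⟩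
    have hZP : ∀ b ∈ W, b ∈ Subgroup.centralizer ({y} : Set G) → ∀ p ∈ P,
        p * b * p⁻¹ ∈ Subgroup.centralizer ({y} : Set G) := by
      intro b hb hbc p hp
      rw [hiff] at hbc ⊢
      show act y (act p b) = act p b
      rw [← hyc p hp b hb, hbc]
    have hZd : ∀ b ∈ W, b ∈ Subgroup.centralizer ({y} : Set G) →
        d * b * d⁻¹ ∈ Subgroup.centralizer ({y} : Set G) := by
      intro b hb hbc
      rw [hiff] at hbc ⊢
      have h1 := hyd b hb hbc
      rw [hd'act] at h1
      have h2 : d * b * d⁻¹ = d' * b * d' := by rw [← hd'conj b hb, hd'i]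
      rw [h2]
      calc act y (d' * b * d') = (d' * d') * act y (d' * b * d') * (d' * d') := by
            rw [hd'2, one_mul, mul_one]
        _ = d' * (d' * act y (d' * b * d') * d') * d' := by group
        _ = d' * b * d' := by rw [h1]
    rcases hinv ({y} : Set G) hZP hZd with h | h
    · have : b ∈ W ⊓ Subgroup.centralizer ({y} : Set G) := ⟨hb, (hiff b).2 hyb⟩
      rwa [h, Subgroup.mem_bot] at this
    · obtain ⟨b', hb', hne'⟩ := hne
      exact absurd ((hiff b').1 (show b' ∈ W ⊓ Subgroup.centralizer ({y} : Set G) from h.symm ▸ hb').2) hne'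
  obtain ⟨c, hc⟩ : ∃ c, c = (z : G) * z' := ⟨_, rfl⟩
  by_cases hA : ∀ b ∈ W, act c b = b
  · -- `d'` inverts the action of `z`
    have hz'inv : ∀ b ∈ W, act z' b = act (z : G) (act (z : G) b) := by
      intro b hb
      have h1 := hA b hb
      rw [hc, hact_mul] at h1
      have h2 := hz3 _ (hWa z' b hb)
      rw [show act (z : G) (act z' b) = b from h1] at h2
      exact h2.symm
    obtain ⟨x, hxdef⟩ : ∃ x, x = d' * (z : G) * d' * (z : G)⁻¹ := ⟨_, rfl⟩
    have hxact : ∀ b ∈ W, act x b = act (z : G) b := by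
      intro b hb
      rw [show x = z' * (z : G)⁻¹ by rw [hxdef, hz'], hact_mul, hz'inv _ (hWa _ b hb)]
      congr 1
      simp only [act]; group
    have hxne : x ≠ 1 := by
      intro h
      obtain ⟨b, hb, hne⟩ := hzW
      exact hne (by rw [← hxact b hb, h]; simp [act])
    obtain ⟨hx3, hxinv, -⟩ := hrel z z.2 (hxdef ▸ hxne)
    rw [← hxdef] at hx3 hxinv
    have hone : norm3 x w = 1 := by
      refine hfix z z.2 hzc (fun b hb h => ?_) hzW _ (hN3 x w hw) ?_
      · rw [← hz', hz'inv b hb, h, h]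
      · rw [← hxact _ (hN3 x w hw)]
        exact hNfix x w hw hx3
    have := hNU x w hw hw' hx3 hxinv
    rwa [hone, one_mul] at this
  · push Not at hA
    have hcP : c ∈ P := hc ▸ mul_mem z.2 hz'P
    have hcc : ∀ p ∈ P, ∀ b ∈ W, act p (act c b) = act c (act p b) := by
      intro p hp b hb
      rw [hc, hact_mul, hact_mul, hzc p hp _ (hWa z' b hb), hz'c p hp b hb]
    have hcd : ∀ b ∈ W, act (d' * c * d') b = act c b := by
      intro b hb
      have e : d' * c * d' = z' * z := by
        rw [hc, hz', show d' * ((z : G) * (d' * z * d')) * d' = d' * (z : G) * d' * z * (d' * d') by group,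
          hd'2, mul_one]
      rw [e, hc, hact_mul, hact_mul, hzc z' hz'P b hb]
    have hcfix := hfix c hcP hcc (fun b hb h => (hcd b hb).trans h) hA
    obtain ⟨x₀, hx₀⟩ : ∃ x₀, x₀ = d' * c * d' * c⁻¹ := ⟨_, rfl⟩
    by_cases hx₀1 : x₀ = 1
    · -- `c` commutes with `d'`
      have hcd' : d' * c * d' = c := mul_inv_eq_one.1 (hx₀ ▸ hx₀1)
      obtain ⟨p, hp, hpx⟩ : ∃ p ∈ P, d' * p * d' * p⁻¹ ≠ 1 := by
        by_contra hno
        push Not at hno
        have hMn : (O ⊔ Subgroup.zpowers d).Normal := by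
          refine ⟨fun m hm g => ?_⟩
          have hle : (⊤ : Subgroup G) ≤ Subgroup.normalizer ((O ⊔ Subgroup.zpowers d : Subgroup G) : Set G) := by
            rw [← hgen, sup_le_iff, sup_le_iff]
            refine ⟨⟨le_sup_left.trans Subgroup.le_normalizer, fun q hq => ?_⟩,
              le_sup_right.trans Subgroup.le_normalizer⟩
            have hfwd : ∀ q ∈ P, ∀ m ∈ O ⊔ Subgroup.zpowers d, q * m * q⁻¹ ∈ O ⊔ Subgroup.zpowers d := by
              intro q hq m hm
              have hle' : O ⊔ Subgroup.zpowers d ≤ (O ⊔ Subgroup.zpowers d).comap (MulAut.conj q).toMonoidHom := by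
                refine sup_le (fun o ho => Subgroup.mem_sup_left
                  (Subgroup.Normal.conj_mem inferInstance o ho q)) ((Subgroup.zpowers_le).2 ?_)
                show q * d * q⁻¹ ∈ O ⊔ Subgroup.zpowers d
                have hqd : q * d' = d' * q := by
                  have h1 := mul_inv_eq_one.1 (hno q hq)
                  calc q * d' = d' * q * d' * d' := by rw [h1]
                    _ = d' * q := by rw [mul_assoc, hd'2, mul_one]
                have e : q * d * q⁻¹ = (q * w * q⁻¹ * w⁻¹) * d := by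
                  calc q * d * q⁻¹ = q * w * (d' * q⁻¹) := by rw [hdeq]; group
                    _ = q * w * (q⁻¹ * d') := by
                      rw [show d' * q⁻¹ = q⁻¹ * (q * d') * q⁻¹ by group, hqd]; group
                    _ = (q * w * q⁻¹ * w⁻¹) * d := by rw [hdeq]; group
                rw [e]
                exact mul_mem (Subgroup.mem_sup_left (hWO (mul_mem (hWn q w hw) (inv_mem hw))))
                  (Subgroup.mem_sup_right (Subgroup.mem_zpowers d))
              exact hle' hm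
            refine Subgroup.mem_normalizer_iff.2 fun m => ⟨hfwd q hq m, fun h => ?_⟩
            have := hfwd q⁻¹ (inv_mem hq) _ h
            simpa [mul_assoc] using this
          exact (Subgroup.mem_normalizer_iff.1 (hle (Subgroup.mem_top g)) m).1 hm
        have htop : O ⊔ Subgroup.zpowers d = ⊤ := by
          rw [eq_top_iff, ← hcls, Subgroup.closure_le]
          intro e he
          obtain ⟨g, rfl⟩ := isConj_iff.1 (show IsConj d e from he)
          exact hMn.conj_mem d (Subgroup.mem_sup_right (Subgroup.mem_zpowers d)) g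
        have hzd : IsPGroup 2 (Subgroup.zpowers d) := fun y => ⟨1, by
          obtain ⟨m, hm⟩ := y.2
          apply Subtype.ext
          push_cast
          rw [← hm, ← zpow_natCast, ← zpow_mul, mul_comm, zpow_mul]
          simp [pow_two, hdd]⟩
        have h2 : IsPGroup 2 (O ⊔ Subgroup.zpowers d : Subgroup G) := hO.to_sup_of_normal_left hzd
        obtain ⟨b, hb, hne⟩ := hzW
        refine hne ?_
        obtain ⟨j, hj⟩ := hP z
        obtain ⟨i, hi⟩ := h2 ⟨(z : G), htop ▸ Subgroup.mem_top _⟩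
        have hj' : (z : G) ^ 3 ^ j = 1 := by
          have := congrArg Subtype.val hj
          simpa using this
        have hi' : (z : G) ^ 2 ^ i = 1 := by simpa [Subtype.ext_iff] using hi
        have h1 := pow_gcd_eq_one.2 ⟨hi', hj'⟩
        rw [Nat.Coprime.gcd_eq_one (Nat.Coprime.pow i j (by norm_num)), pow_one] at h1
        simp [act, h1]
      obtain ⟨x, hxdef⟩ : ∃ x, x = d' * p * d' * p⁻¹ := ⟨_, rfl⟩
      obtain ⟨hx3, hxinv, -⟩ := hrel p hp hpx
      rw [← hxdef] at hx3 hxinv hpx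
      have hxP : x ∈ P := by
        have h := mul_mem (hconj p hp) (inv_mem hp)
        rw [hd'i] at h
        rwa [hxdef]
      have hxc : d' * (x * c) * d' * (x * c)⁻¹ = x := by
        rw [show d' * (x * c) * d' * (x * c)⁻¹ = d' * x * 1 * c * d' * c⁻¹ * x⁻¹ by group, ← hd'2,
          show d' * x * (d' * d') * c * d' * c⁻¹ * x⁻¹ = (d' * x * d') * (d' * c * d') * c⁻¹ * x⁻¹ by group,
          hxinv, hcd', mul_inv_cancel_right]
        rw [← mul_inv_rev]
        exact inv_eq_of_mul_eq_one_right (by rw [← pow_three', hx3])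
      obtain ⟨-, -, hrel'⟩ := hrel (x * c) (mul_mem hxP hcP) (by rw [hxc]; exact hpx)
      rw [hxc] at hrel'
      have hcwW : act c w ∈ W := hWa c w hw
      have e : norm3 x (x * c * w * (x * c)⁻¹) = norm3 x (act c w) := by
        rw [← hNfix x (act c w) hcwW hx3]
        simp only [norm3, act]; group
      rw [e] at hrel'
      have hcwfix : d' * act c w * d' = act c w := by
        have := hd'act c w
        rw [hcd', hw'] at this
        exact this.symm
      have hU1 : U (act c w * w) := by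
        have h1 := hUmul _ _ (hNU x _ hcwW hcwfix hx3 hxinv) (hNU x w hw hw' hx3 hxinv)
        rwa [hrel', hmid _ (hN3 x w hw) _ hcwW _ (hN3 x w hw) _ hw, hexp _ (hN3 x w hw), one_mul] at h1
      have hψU : ∀ v, U v → U (act c v * v) := by
        rintro v ⟨b, hb, rfl⟩
        refine hUmul _ _ ⟨act c b, hWa c b hb, ?_⟩ ⟨b, hb, rfl⟩
        have := hd'act c (d' * b * d')
        rw [hcd', show d' * (d' * b * d') * d' = (d' * d') * b * (d' * d') by group, hd'2, one_mul,
          mul_one] at this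
        rw [← this]
        simp only [act]; group
      have hUW : ∀ v, U v → v ∈ W := by
        rintro v ⟨b, hb, rfl⟩; exact mul_mem hb (hD' b hb)
      have hinjψ : ∀ u ∈ W, ∀ v ∈ W, act c u * u = act c v * v → u = v := by
        intro u hu v hv huv
        have h1 : act c (u * v) = u * v := by
          have h2 : act c u * u * (act c v * v) = 1 := by
            rw [huv]; exact hexp _ (mul_mem (hWa c v hv) hv)
          rw [hmid _ (hWa c u hu) _ hu _ (hWa c v hv) _ hv] at h2
          rw [show act c (u * v) = act c u * act c v by simp only [act]; group,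
            eq_inv_of_mul_eq_one_left h2, hWi _ (mul_mem hu hv)]
        have h3 := hcfix _ (mul_mem hu hv) h1
        rw [eq_inv_of_mul_eq_one_left h3, hWi v hv]
      let f : {v : G // U v} → {v : G // U v} := fun v => ⟨act c v * v, hψU v v.2⟩
      have hfs : Function.Surjective f := Finite.injective_iff_surjective.1 fun u v huv =>
        Subtype.ext (hinjψ _ (hUW u u.2) _ (hUW v v.2) (congrArg Subtype.val huv))
      obtain ⟨⟨u, hu⟩, hfu⟩ := hfs ⟨_, hU1⟩
      have := hinjψ u (hUW u hu) w hw (congrArg Subtype.val hfu)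
      exact this ▸ hu
    · -- the commutator acts trivially
      obtain ⟨hx3, -, hrel'⟩ := hrel c hcP (hx₀ ▸ hx₀1)
      rw [← hx₀] at hrel'
      have hx₀triv : ∀ b ∈ W, act x₀ b = b := by
        intro b hb
        rw [hx₀, hact_mul, hcd _ (hWa c⁻¹ b hb)]
        simp only [act]; group
      have hnorm : ∀ b ∈ W, norm3 x₀ b = b := by
        intro b hb
        show b * act x₀ b * act (x₀ * x₀) b = b
        rw [hact_mul, hx₀triv b hb, hx₀triv b hb, hexp b hb, one_mul]
      rw [show c * w * c⁻¹ = act c w from rfl, hnorm _ (hWa c w hw), hnorm w hw] at hrel'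
      rw [hcfix w hw hrel']
      exact ⟨1, one_mem _, by rw [one_mul, mul_one, hd'2]⟩

end H99
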