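/-
When every member commuting with `d` is equivalent to `d`, the group is generated by `d`, a
`d`-invariant Sylow 3-subgroup and the 2-core.
-/
import Cfsg.Agent.H99.TTWidthOneLift
import Cfsg.Agent.H99.TTTransitive

set_option autoImplicit false

namespace H99

open Cfsg

variable {G : Type*} [Group G] [Finite G] {D : Set G}

theorem exists_sylow_three_normalized (hD : IsThreeTranspositionClass D)
    (hD2 : ∃ a ∈ D, ∃ b ∈ D, a ≠ b) {d : G} (hd : d ∈ D)
    (hV : ∀ y ∈ D, Commute d y → VRel D d y) :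
    ∃ P : Sylow 3 G, d ∈ Subgroup.normalizer ((P : Subgroup G) : Set G) ∧
      Subgroup.zpowers d ⊔ (P : Subgroup G) ⊔ Cfsg.pCore 2 G = ⊤ := by
  haveI : Fact (Nat.Prime 2) := ⟨Nat.prime_two⟩
  haveI : Fact (Nat.Prime 3) := ⟨Nat.prime_three⟩
  have hT := hD.1
  have hconj : ∀ g : G, ∀ d ∈ D, g * d * g⁻¹ ∈ D := fun g d hd => class_conj_mem hD g hd
  set O := Cfsg.pCore 2 G with hOdef
  haveI hOn : O.Normal := H1.pCore_normal' 2 G
  set q := QuotientGroup.mk' O with hq
  -- width one modulo `O`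
  have hVall : ∀ a ∈ D, ∀ b ∈ D, Commute a b → q a = q b := by
    intro a ha b hb hab
    obtain ⟨g, rfl⟩ := class_isConj hD hd ha
    have hy : g⁻¹ * b * g ∈ D := by simpa using hconj g⁻¹ b hb
    have hc : Commute d (g⁻¹ * b * g) := (conj_commute_iff g d _).1 (by
      rwa [show g * (g⁻¹ * b * g) * g⁻¹ = b by group])
    have hm := ((v_class_eq hD hD2 hd).1.1 ⟨hy, hV _ hy hc⟩).2
    have h1 : q (d⁻¹ * (g⁻¹ * b * g)) = 1 := (QuotientGroup.eq_one_iff _).2 hm
    rw [map_mul, map_inv, inv_mul_eq_one, map_mul, map_mul, map_inv] at h1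
    rw [map_mul, map_mul, map_inv, h1]
    group
  have hqD : ∀ u ∈ q '' D, u * u = 1 := by
    rintro _ ⟨e, he, rfl⟩
    rw [← map_mul, tt_mul_self hT he, map_one]
  have hqc : ∀ g : G ⧸ O, ∀ u ∈ q '' D, g * u * g⁻¹ ∈ q '' D := by
    rintro g _ ⟨e, he, rfl⟩
    obtain ⟨k, rfl⟩ := QuotientGroup.mk'_surjective O g
    exact ⟨k * e * k⁻¹, hconj k e he, by simp [map_mul, q]⟩
  have hq1 : ∀ u ∈ q '' D, ∀ v ∈ q '' D, (u * v) ^ 3 = 1 := by
    rintro _ ⟨x, hx, rfl⟩ _ ⟨y, hy, rfl⟩
    by_cases hc : Commute x y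
    · rw [hVall x hx y hy hc, ← map_mul, tt_mul_self hT hy, map_one, one_pow]
    · rw [← map_mul, ← map_pow, tt_cube_of_not_commute hT hx hy hc, map_one]
  set N := (Cfsg.pCore 3 (G ⧸ O)).comap q with hN
  haveI : (Cfsg.pCore 3 (G ⧸ O)).Normal := H1.pCore_normal' 3 _
  have hdN : Subgroup.zpowers d ⊔ N = ⊤ := by
    rw [eq_top_iff, ← hD.2.2, Subgroup.closure_le]
    intro e he
    have hm : d * e ∈ N := by
      show q (d * e) ∈ Cfsg.pCore 3 (G ⧸ O)
      rw [map_mul]
      exact width_one_mem_pCore hqD hqc hq1 ⟨d, hd, rfl⟩ ⟨e, he, rfl⟩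
    have : e = d * (d * e) := by rw [← mul_assoc, tt_mul_self hT hd, one_mul]
    rw [this]
    exact mul_mem (Subgroup.mem_sup_left (Subgroup.mem_zpowers d)) (Subgroup.mem_sup_right hm)
  -- every Sylow 3-subgroup covers `N / O`
  have hcover : ∀ P : Sylow 3 G, (P : Subgroup G) ⊔ O = N := by
    intro P
    haveI : N.Normal := Subgroup.normal_comap q
    have hPN : (P : Subgroup G) ≤ N := by
      intro x hx
      set π := QuotientGroup.mk' N
      have hd2 : ∀ y : G ⧸ N, y * y = 1 := by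
        intro y
        obtain ⟨g, rfl⟩ := QuotientGroup.mk'_surjective N y
        obtain ⟨a, ha, b, hb, rfl⟩ := Subgroup.mem_sup_of_normal_right.1
          (hdN ▸ Subgroup.mem_top g : g ∈ Subgroup.zpowers d ⊔ N)
        obtain ⟨i, rfl⟩ := ha
        have hb1 : π b = 1 := (QuotientGroup.eq_one_iff b).2 hb
        show π (d ^ i * b) * π (d ^ i * b) = 1
        rw [map_mul, hb1, mul_one, map_zpow, ← (Commute.refl (π d)).mul_zpow, ← map_mul,
          tt_mul_self hT hd, map_one, one_zpow]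
      obtain ⟨k, hk⟩ := P.isPGroup' ⟨x, hx⟩
      have h3 : π x ^ 3 ^ k = 1 := by
        rw [← map_pow, show x ^ 3 ^ k = 1 by simpa [Subtype.ext_iff] using hk, map_one]
      have h2 : π x ^ 2 = 1 := by rw [pow_two, hd2]
      have h1 := pow_gcd_eq_one.2 ⟨h2, h3⟩
      rw [Nat.Coprime.gcd_eq_one (Nat.Coprime.pow_right k (by norm_num)), pow_one] at h1
      exact (QuotientGroup.eq_one_iff x).1 h1
    refine le_antisymm (sup_le hPN fun x hx => ?_) fun x hx => ?_
    · show q x ∈ Cfsg.pCore 3 (G ⧸ O)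
      rw [show q x = 1 from (QuotientGroup.eq_one_iff x).2 hx]
      exact one_mem _
    · set PQ := P.mapSurjective (f := q) (QuotientGroup.mk'_surjective O)
      have hle : Cfsg.pCore 3 (G ⧸ O) ≤ (PQ : Subgroup (G ⧸ O)) := by
        obtain ⟨S, hS⟩ := (H1.isPGroup_pCore 3 (G ⧸ O)).exists_le_sylow
        obtain ⟨g, hg⟩ := MulAction.exists_smul_eq (G ⧸ O) S PQ
        rw [← hg, Sylow.coe_subgroup_smul]
        intro y hy
        rw [Subgroup.mem_pointwise_smul_iff_inv_smul_mem]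
        refine hS ?_
        simpa [MulAut.smul_def, mul_assoc] using Subgroup.Normal.conj_mem inferInstance y hy g⁻¹
      obtain ⟨p, hp, hpx⟩ := hle hx
      have : x = p * (p⁻¹ * x) := by group
      rw [this]
      exact mul_mem (Subgroup.mem_sup_left hp) (Subgroup.mem_sup_right ((QuotientGroup.eq).1 hpx))
  -- descend to the trivial subgroup
  set 𝒲 : Set (Subgroup G) := {W | W.Normal ∧ W ≤ O ∧ ∃ P : Sylow 3 G,
    d ∈ Subgroup.normalizer (((P : Subgroup G) ⊔ W : Subgroup G) : Set G)}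
  have hO𝒲 : O ∈ 𝒲 := by
    refine ⟨hOn, le_rfl, default, ?_⟩
    haveI : N.Normal := Subgroup.normal_comap q
    rw [hcover, Subgroup.normalizer_eq_top]
    exact Subgroup.mem_top d
  obtain ⟨W, hW, hWmin⟩ := Set.Finite.exists_minimal (Set.toFinite 𝒲) ⟨O, hO𝒲⟩
  obtain ⟨hWn, hWO, P, hP⟩ := hW
  by_cases hWbot : W = ⊥
  · subst hWbot
    rw [sup_bot_eq] at hP
    refine ⟨P, hP, ?_⟩
    rw [sup_assoc, hcover]
    exact hdN
  exfalso
  -- a maximal normal subgroup of `G` inside `W`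
  obtain ⟨W', ⟨hW'n, hW'lt⟩, hW'max⟩ := Set.Finite.exists_maximal
    (Set.toFinite {M : Subgroup G | M.Normal ∧ M < W}) ⟨⊥, inferInstance, bot_lt_iff_ne_bot.2 hWbot⟩
  haveI := hW'n
  haveI := hWn
  set r := QuotientGroup.mk' W' with hr
  have hrs : Function.Surjective r := QuotientGroup.mk'_surjective W'
  haveI : (W.map r).Normal := Subgroup.Normal.map hWn r hrs
  haveI : (O.map r).Normal := Subgroup.Normal.map hOn r hrs
  have hirr : ∀ M : Subgroup (G ⧸ W'), M.Normal → M ≤ W.map r → M = ⊥ ∨ M = W.map r := by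
    intro M hM hMW
    have h1 : W' ≤ M.comap r := fun x hx => by
      show r x ∈ M
      rw [show r x = 1 from (QuotientGroup.eq_one_iff x).2 hx]
      exact one_mem _
    have h2 : M.comap r ≤ W := by
      refine le_trans (Subgroup.comap_mono hMW) ?_
      rw [Subgroup.comap_map_eq, QuotientGroup.ker_mk']
      exact sup_le le_rfl hW'lt.le
    rcases h2.lt_or_eq with h | h
    · left
      have h3 : M.comap r = W' := le_antisymm (hW'max ⟨hM.comap r, h⟩ h1) h1
      rw [← Subgroup.map_comap_eq_self_of_surjective hrs M, h3, Subgroup.map_eq_bot_iff,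
        QuotientGroup.ker_mk']
    · right
      rw [← Subgroup.map_comap_eq_self_of_surjective hrs M, h]
  have hOp : IsPGroup 2 (O.map r) := (H1.isPGroup_pCore 2 G).map r
  have hWO' : W.map r ≤ O.map r := Subgroup.map_mono hWO
  have hWne : W.map r ≠ ⊥ := by
    intro h
    rw [Subgroup.map_eq_bot_iff, QuotientGroup.ker_mk'] at h
    exact hW'lt.not_ge h
  -- `O` centralises the chief factor
  have hcent : ∀ o ∈ O.map r, ∀ b ∈ W.map r, o * b = b * o := by
    set C := W.map r ⊓ Subgroup.centralizer ((O.map r : Subgroup (G ⧸ W')) : Set (G ⧸ W'))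
    have hCn : C.Normal := by
      refine ⟨fun b hb g => ⟨Subgroup.Normal.conj_mem inferInstance b hb.1 g,
        Subgroup.mem_centralizer_iff.2 fun o ho => ?_⟩⟩
      have ho' : g⁻¹ * o * g ∈ O.map r := by
        simpa using Subgroup.Normal.conj_mem (inferInstance : (O.map r).Normal) o ho g⁻¹
      have := Subgroup.mem_centralizer_iff.1 hb.2 _ ho'
      calc o * (g * b * g⁻¹) = g * ((g⁻¹ * o * g) * b) * g⁻¹ := by group
        _ = g * (b * (g⁻¹ * o * g)) * g⁻¹ := by rw [this]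
        _ = g * b * g⁻¹ * o := by group
    rcases hirr C hCn inf_le_left with h | h
    · exfalso
      have hne : (W.map r).subgroupOf (O.map r) ≠ ⊥ := by
        rw [Ne, Subgroup.subgroupOf_eq_bot, disjoint_iff, inf_eq_left.2 hWO']
        exact hWne
      apply H73.inf_center_ne_bot hOp (N := (W.map r).subgroupOf (O.map r)) hne
      rw [eq_bot_iff]
      rintro x ⟨hx1, hx2⟩
      have : (x : G ⧸ W') ∈ C := ⟨hx1, Subgroup.mem_centralizer_iff.2 fun o ho =>
        congrArg Subtype.val (Subgroup.mem_center_iff.1 hx2 ⟨o, ho⟩)⟩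
      rw [h, Subgroup.mem_bot] at this
      exact Subgroup.mem_bot.2 (Subtype.ext this)
    · intro o ho b hb
      exact Subgroup.mem_centralizer_iff.1 (show b ∈ C from h.symm ▸ hb).2 o ho
  have hcomm : ∀ a ∈ W.map r, ∀ b ∈ W.map r, a * b = b * a := fun a ha b hb =>
    hcent a (hWO' ha) b hb
  have hexp : ∀ a ∈ W.map r, a * a = 1 := by
    let S : Subgroup (G ⧸ W') :=
      { carrier := {a | a ∈ W.map r ∧ a * a = 1}
        one_mem' := ⟨one_mem _, mul_one 1⟩
        mul_mem' := fun {a b} ha hb => ⟨mul_mem ha.1 hb.1, by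
          rw [Commute.mul_mul_mul_comm (hcomm b hb.1 a ha.1) a b, ha.2, hb.2, one_mul]⟩
        inv_mem' := fun {a} ha => ⟨inv_mem ha.1, by rw [← mul_inv_rev, ha.2, inv_one]⟩ }
    have hSn : S.Normal := ⟨fun a ha g => ⟨Subgroup.Normal.conj_mem inferInstance a ha.1 g, by
      rw [show g * a * g⁻¹ * (g * a * g⁻¹) = g * (a * a) * g⁻¹ by group, ha.2, mul_one,
        mul_inv_cancel]⟩⟩
    rcases hirr S hSn (fun a ha => ha.1) with h | h
    · exfalso
      obtain ⟨k, hk⟩ := IsPGroup.iff_card.1 (hOp.to_le hWO')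
      have hk0 : k ≠ 0 := fun h0 => hWne (Subgroup.card_eq_one.1 (by rw [hk, h0, pow_zero]))
      obtain ⟨t, ht⟩ := exists_prime_orderOf_dvd_card' (G := W.map r) 2 (hk ▸ dvd_pow_self 2 hk0)
      have htS : (t : G ⧸ W') ∈ S := ⟨t.2, by
        rw [← pow_two, ← Subgroup.coe_pow, ← ht, pow_orderOf_eq_one]; rfl⟩
      rw [h, Subgroup.mem_bot] at htS
      have : t = 1 := Subtype.ext htS
      rw [this, orderOf_one] at ht
      norm_num at ht
    · intro a ha
      exact (show a ∈ S from h.symm ▸ ha).2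
  have hgen : O.map r ⊔ (P : Subgroup G).map r ⊔ Subgroup.zpowers (r d) = ⊤ := by
    rw [← MonoidHom.map_zpowers, ← Subgroup.map_sup, ← Subgroup.map_sup, sup_comm O, hcover,
      sup_comm, hdN, Subgroup.map_top_of_surjective r hrs]
  have hcls : Subgroup.closure (conjugatesOf (r d)) = ⊤ := by
    rw [eq_top_iff, ← Subgroup.map_top_of_surjective r hrs, ← hD.2.2, MonoidHom.map_closure,
      Subgroup.closure_le]
    rintro _ ⟨e, he, rfl⟩
    obtain ⟨g, rfl⟩ := class_isConj hD hd he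
    exact Subgroup.subset_closure (isConj_iff.2 ⟨r g, by simp [map_mul]⟩)
  have hdd : r d * r d = 1 := by rw [← map_mul, tt_mul_self hT hd, map_one]
  have hnorm : r d ∈ Subgroup.normalizer
      ((((P : Subgroup G).map r ⊔ W.map r : Subgroup (G ⧸ W'))) : Set (G ⧸ W')) := by
    rw [← Subgroup.map_sup]
    exact Subgroup.le_normalizer_map r ⟨d, hP, rfl⟩
  have hcube : ∀ p ∈ (P : Subgroup G).map r,
      (r d * (p * r d * p⁻¹)) ^ 2 = 1 ∨ (r d * (p * r d * p⁻¹)) ^ 3 = 1 := by
    rintro _ ⟨p, -, rfl⟩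
    rw [← map_inv, ← map_mul, ← map_mul, ← map_mul, ← map_pow, ← map_pow]
    rcases hT.2 d hd _ (hconj p d hd) with h | h
    · exact Or.inl (by rw [h, map_one])
    · exact Or.inr (by rw [h, map_one])
  obtain ⟨_, ⟨u, hu, rfl⟩, hu'⟩ :=
    exists_conj_normalizer hcomm hexp hirr hOp hcent hWO' (P.isPGroup'.map r) hgen hcls hdd hnorm hcube
  -- the conjugated Sylow subgroup
  have h3 : u * d * u⁻¹ ∈ Subgroup.normalizer (((P : Subgroup G) ⊔ W' : Subgroup G) : Set G) := by
    rw [← map_inv, ← map_mul, ← map_mul] at hu'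
    refine mem_normalizer_of_conj_mem fun x hx => ?_
    have hx' : r x ∈ (P : Subgroup G).map r := by
      have : ((P : Subgroup G) ⊔ W').map r = (P : Subgroup G).map r := by
        rw [Subgroup.map_sup, sup_eq_left]
        intro y hy
        obtain ⟨z, hz, rfl⟩ := hy
        rw [show r z = 1 from (QuotientGroup.eq_one_iff z).2 hz]
        exact one_mem _
      exact this ▸ ⟨x, hx, rfl⟩
    obtain ⟨p, hp, hpx⟩ := (Subgroup.mem_normalizer_iff.1 hu' _).1 hx'
    rw [← map_inv, ← map_mul, ← map_mul] at hpx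
    have e : u * d * u⁻¹ * x * (u * d * u⁻¹)⁻¹ = p * (p⁻¹ * (u * d * u⁻¹ * x * (u * d * u⁻¹)⁻¹)) := by
      group
    rw [e]
    exact mul_mem (Subgroup.mem_sup_left hp) (Subgroup.mem_sup_right ((QuotientGroup.eq).1 hpx))
  set P' : Sylow 3 G := u⁻¹ • P with hP'
  have hmemP' : ∀ y ∈ (P : Subgroup G), u⁻¹ * y * u ∈ (P' : Subgroup G) := by
    intro y hy
    rw [hP', Sylow.coe_subgroup_smul, Subgroup.mem_pointwise_smul_iff_inv_smul_mem]
    simpa [MulAut.smul_def, mul_assoc] using hy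
  have hback : ∀ y ∈ (P' : Subgroup G), u * y * u⁻¹ ∈ (P : Subgroup G) := by
    intro y hy
    rw [hP', Sylow.coe_subgroup_smul, Subgroup.mem_pointwise_smul_iff_inv_smul_mem] at hy
    simpa [MulAut.smul_def, mul_assoc] using hy
  have hfin : W' ∈ 𝒲 := by
    refine ⟨hW'n, hW'lt.le.trans hWO, P', mem_normalizer_of_conj_mem fun y hy => ?_⟩
    obtain ⟨a, ha, b, hb, rfl⟩ := Subgroup.mem_sup_of_normal_right.1 hy
    have h4 : u * (a * b) * u⁻¹ ∈ (P : Subgroup G) ⊔ W' := by
      rw [show u * (a * b) * u⁻¹ = (u * a * u⁻¹) * (u * b * u⁻¹) by group]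
      exact mul_mem (Subgroup.mem_sup_left (hback a ha))
        (Subgroup.mem_sup_right (hW'n.conj_mem b hb u))
    have h5 := (Subgroup.mem_normalizer_iff.1 h3 _).1 h4
    obtain ⟨c, hc, e, he, hce⟩ := Subgroup.mem_sup_of_normal_right.1 h5
    have h6 : d * (a * b) * d⁻¹ = (u⁻¹ * c * u) * (u⁻¹ * e * u) := by
      rw [show u⁻¹ * c * u * (u⁻¹ * e * u) = u⁻¹ * (c * e) * u by group, hce]
      group
    rw [h6]
    exact mul_mem (Subgroup.mem_sup_left (hmemP' c hc))
      (Subgroup.mem_sup_right (by simpa using hW'n.conj_mem e he u⁻¹))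
  exact hW'lt.not_ge (hWmin hfin hW'lt.le)

end H99
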