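/-
3-transpositions with a symmetric group of degree three on the partners of each member: the two cases.
-/
import Cfsg.Agent.H99.TTSymmetricThree

set_option autoImplicit false

namespace H99

open Cfsg

set_option synthInstance.maxSize 1024 in
lemma perm_three_facts : ∀ σ τ ρ : Equiv.Perm (Fin 3), σ * σ = 1 → τ * τ = 1 → ρ * ρ = 1 → σ ≠ 1 →
    τ ≠ 1 → ρ ≠ 1 → σ ≠ τ → σ * τ ≠ τ * σ ∧ (ρ = σ ∨ ρ = τ ∨ ρ = σ * τ * σ) := by decide +kernel

lemma perm_three_center : ∀ σ : Equiv.Perm (Fin 3), σ * Equiv.swap 0 1 = Equiv.swap 0 1 * σ →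
    σ * Equiv.swap 1 2 = Equiv.swap 1 2 * σ → σ = 1 := by decide +kernel

variable {G : Type*} [Group G] {D : Set G}

lemma perpLine_of_iso (hT : IsThreeTranspositionSet D) (hconj : ∀ g : G, ∀ d ∈ D, g * d * g⁻¹ ∈ D)
    (h : ∀ d ∈ D, Nonempty (↥(Subgroup.closure (perp D d)) ≃* Equiv.Perm (Fin 3))) : PerpLine D := by
  classical
  intro d hd
  obtain ⟨e⟩ := h d hd
  obtain ⟨a, ha, b, hb, hne⟩ : ∃ a ∈ perp D d, ∃ b ∈ perp D d, a ≠ b := by
    by_contra! hall
    have hcomm : IsMulCommutative (Subgroup.closure (perp D d)) :=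
      Subgroup.isMulCommutative_closure fun x hx y hy => by rw [hall x hx y hy]
    have hc := congrArg e (hcomm.is_comm.comm (e.symm (Equiv.swap 0 1)) (e.symm (Equiv.swap 1 2)))
    rw [map_mul, map_mul, e.apply_symm_apply, e.apply_symm_apply] at hc
    exact absurd hc (by decide +kernel)
  have inv : ∀ x (hx : x ∈ perp D d), e ⟨x, Subgroup.subset_closure hx⟩ * e ⟨x, Subgroup.subset_closure hx⟩ = 1 ∧
      e ⟨x, Subgroup.subset_closure hx⟩ ≠ 1 := fun x hx =>
    ⟨by
      rw [← map_mul, show (⟨x, _⟩ : Subgroup.closure (perp D d)) * ⟨x, _⟩ = 1 from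
        Subtype.ext (tt_mul_self hT hx.1), map_one],
    fun h => tt_ne_one hT hx.1 (congrArg Subtype.val (e.map_eq_one_iff.1 h))⟩
  have facts := fun x hx => perm_three_facts _ _ (e ⟨x, Subgroup.subset_closure hx⟩) (inv a ha).1
    (inv b hb).1 (inv x hx).1 (inv a ha).2 (inv b hb).2 (inv x hx).2
    (fun h => hne (congrArg Subtype.val (e.injective h)))
  have hab : ¬ Commute a b := fun hc => (facts a ha).1 (by
    rw [← map_mul, ← map_mul]; exact congrArg e (Subtype.ext hc.eq))
  refine ⟨a, b, ha, hb, hab, Set.Subset.antisymm (fun x hx => ?_) ?_⟩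
  · rcases (facts x hx).2 with h | h | h
    · exact Or.inl (congrArg Subtype.val (e.injective h))
    · exact Or.inr (Or.inl (congrArg Subtype.val (e.injective h)))
    · rw [← map_mul, ← map_mul] at h
      exact Or.inr (Or.inr (congrArg Subtype.val (e.injective h)))
  · rintro x (rfl | rfl | rfl)
    · exact ha
    · exact hb
    · refine ⟨by simpa [tt_inv hT ha.1] using hconj a b hb.1, fun h => hb.2.1 ?_,
        (ha.2.2.mul_right hb.2.2).mul_right ha.2.2⟩
      have haa := tt_mul_self hT ha.1
      calc b = a * a * b * (a * a) := by rw [haa, one_mul, mul_one]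
        _ = a * (a * b * a) * a := by simp only [mul_assoc]
        _ = a * d * a := by rw [h]
        _ = d := by rw [ha.2.2.symm.eq, mul_assoc, haa, mul_one]

variable [Finite G]

/-- The statement of the two cases. -/
theorem symmetric_three_cases (hT : IsThreeTranspositionSet D)
    (hconj : ∀ g : G, ∀ d ∈ D, g * d * g⁻¹ ∈ D) (hne : D.Nonempty)
    (hloc : ∀ d ∈ D, Nonempty (↥(Subgroup.closure (perp D d)) ≃* Equiv.Perm (Fin 3)))
    (hcore : ∀ d ∈ D, Nat.card (pCore 3 ↥(Subgroup.centralizer ({d} : Set G))) = 3) :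
    Nonempty (↥(Subgroup.closure D) ≃* Equiv.Perm (Fin 5)) ∨
      Nonempty (↥(Subgroup.closure D) ≃* Equiv.Perm (Fin 3) × Equiv.Perm (Fin 3)) := by
  classical
  haveI : Fact (Nat.Prime 3) := ⟨Nat.prime_three⟩
  have hp := perpLine_of_iso hT hconj hloc
  obtain ⟨d, hd⟩ := hne
  set H := Subgroup.closure D with hH
  by_cases hcl : ∀ x ∈ D, ∃ g ∈ H, g * d * g⁻¹ = x
  · left
    set E : Set H := {x | (x : G) ∈ D} with hE
    have hmem : ∀ x ∈ D, x ∈ H := fun x hx => Subgroup.subset_closure hx
    have hET : IsThreeTranspositionSet E :=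
      ⟨fun x hx => (Subgroup.orderOf_coe x).symm.trans (hT.1 _ hx), fun x hx y hy => by
        rcases hT.2 _ hx _ hy with h | h
        · exact Or.inl (Subtype.ext (by simpa using h))
        · exact Or.inr (Subtype.ext (by simpa using h))⟩
    have hEc : IsThreeTranspositionClass E := by
      refine ⟨hET, ⟨⟨d, hmem d hd⟩, hd, Set.ext fun x => ?_⟩, Subgroup.closure_closure_coe_preimage⟩
      show x ∈ E ↔ IsConj _ _
      rw [isConj_iff]
      refine ⟨fun hx => ?_, ?_⟩
      · obtain ⟨g, hg, hgx⟩ := hcl _ hx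
        exact ⟨⟨g, hg⟩, Subtype.ext hgx⟩
      · rintro ⟨g, rfl⟩
        exact hconj (g : G) d hd
    have hperp : ∀ x y : H, y ∈ perp E x ↔ (y : G) ∈ perp D (x : G) := fun x y => by
      constructor
      · exact fun ⟨h1, h2, h3⟩ => ⟨h1, fun h => h2 (Subtype.ext h), congrArg Subtype.val h3⟩
      · exact fun ⟨h1, h2, h3⟩ => ⟨h1, fun h => h2 (congrArg Subtype.val h), Subtype.ext h3⟩
    refine class_iso_symFive hEc ?_ ?_
    · intro x hx
      obtain ⟨a, b, ha, hb, hab, hs⟩ := hp _ hx
      refine ⟨⟨a, hmem a ha.1⟩, ⟨b, hmem b hb.1⟩, (hperp _ _).2 ha, (hperp _ _).2 hb,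
        fun h => hab (congrArg Subtype.val h), Set.ext fun y => ?_⟩
      rw [hperp, hs]
      simp [Subtype.ext_iff]
    · intro x hx a ha b hb hab u hu hux
      have ha' := (hperp _ _).1 ha
      have hb' := (hperp _ _).1 hb
      have hab' : (a : G) ≠ b := fun h => hab (Subtype.ext h)
      obtain ⟨hnc, hs⟩ := perpLine_pair hT hp hx ha' hb' hab'
      set C := Subgroup.centralizer ({(x : G)} : Set G) with hC
      set P := pCore 3 ↥C
      have hCmem : ∀ y : G, y ∈ C ↔ Commute y x := fun y => Subgroup.mem_centralizer_singleton_iff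
      set m : C := ⟨(a : G) * b, (hCmem _).2 (ha'.2.2.symm.mul_left hb'.2.2.symm)⟩ with hm
      have hm3 : m ^ 3 = 1 := Subtype.ext (by simpa [hm] using tt_cube_of_not_commute hT ha'.1 hb'.1 hnc)
      -- `m` generates a normal subgroup of the centraliser
      haveI hMn : (Subgroup.zpowers m).Normal := by
        constructor
        intro n hn g
        obtain ⟨k, rfl⟩ := Subgroup.mem_zpowers_iff.1 hn
        rw [← conj_zpow]
        refine Subgroup.zpow_mem _ ?_ k
        have img : ∀ w ∈ perp D (x : G), (g : G) * w * (g : G)⁻¹ ∈ perp D (x : G) := fun w hw => by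
          have := perp_conj hconj (g : G) hw
          rwa [((hCmem _).1 g.2).eq, mul_inv_cancel_right] at this
        have haa := tt_mul_self hT ha'.1
        have hbb := tt_mul_self hT hb'.1
        have hbr := tt_braid hT ha'.1 hb'.1 hnc
        have key : ∀ p ∈ perp D (x : G), ∀ q ∈ perp D (x : G), ∀ hc : p * q ∈ C,
            (⟨p * q, hc⟩ : C) ∈ Subgroup.zpowers m := by
          intro p hp' q hq hc
          have c1 : (⟨p * q, hc⟩ : C) = 1 ∨ (⟨p * q, hc⟩ : C) = m ∨ (⟨p * q, hc⟩ : C) = m⁻¹ := by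
            simp only [hm, Subtype.ext_iff, Subgroup.coe_one, Subgroup.coe_inv, mul_inv_rev,
              tt_inv hT ha'.1, tt_inv hT hb'.1]
            rw [hs] at hp' hq
            simp only [Set.mem_insert_iff, Set.mem_singleton_iff] at hp' hq
            have r1 : ∀ w, (a : G) * ((a : G) * w) = w := fun w => by rw [← mul_assoc, haa, one_mul]
            have r2 : ∀ w, (b : G) * ((b : G) * w) = w := fun w => by rw [← mul_assoc, hbb, one_mul]
            have r3 : (b : G) * ((a : G) * b) = a * (b * a) := by rw [← mul_assoc, ← hbr, mul_assoc]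
            have r4 : ∀ w, (b : G) * ((a : G) * (b * w)) = a * (b * (a * w)) := fun w => by
              rw [← mul_assoc, ← mul_assoc, ← hbr, mul_assoc, mul_assoc]
            rcases hp' with rfl | rfl | rfl <;> rcases hq with rfl | rfl | rfl <;>
              simp [mul_assoc, haa, hbb, r1, r2, r3, r4]
          rcases c1 with h | h | h <;> rw [h]
          · exact one_mem _
          · exact Subgroup.mem_zpowers _
          · exact inv_mem (Subgroup.mem_zpowers _)
        have hgm : (g : G) * a * (g : G)⁻¹ * ((g : G) * b * (g : G)⁻¹) ∈ C :=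
          (hCmem _).2 ((img _ ha').2.2.symm.mul_left (img _ hb').2.2.symm)
        have he : g * m * g⁻¹ = ⟨_, hgm⟩ := Subtype.ext (by simp [hm, mul_assoc])
        rw [he]
        exact key _ (img _ ha') _ (img _ hb') hgm
      have hm1 : m ≠ 1 := fun h => hab' (by
        have := eq_inv_of_mul_eq_one_left (congrArg Subtype.val h)
        rwa [tt_inv hT hb'.1] at this)
      have hom : orderOf m = 3 := orderOf_eq_prime hm3 hm1
      have hMP : Subgroup.zpowers m = P := by
        refine Subgroup.eq_of_le_of_card_ge (H1.le_pCore (IsPGroup.of_card (n := 1) (by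
          rw [Nat.card_zpowers, hom, pow_one]))) ?_
        rw [Nat.card_zpowers, hom, hcore _ hx]
      -- the image of the 3-core
      haveI hHn : H.Normal := ⟨fun n hn g => by
        have : H ≤ H.comap (MulAut.conj g).toMonoidHom :=
          (Subgroup.closure_le _).2 fun y hy => hmem _ (hconj g y hy)
        exact this hn⟩
      haveI := H1.pCore_characteristic 3 H
      set N := (pCore 3 ↥H).map H.subtype
      haveI hNn : N.Normal := inferInstance
      have huN : (u : G) ∈ N := ⟨u, hu, rfl⟩
      have hN3 : IsPGroup 3 N := (H1.isPGroup_pCore 3 _).map _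
      have hu' : (⟨(u : G), (hCmem _).2 (congrArg Subtype.val hux)⟩ : C) ∈ N.subgroupOf C := huN
      have hle : N.subgroupOf C ≤ P := H1.le_pCore (hN3.comap_of_injective _ Subtype.coe_injective)
      obtain ⟨k, hk⟩ := Subgroup.mem_zpowers_iff.1 (hMP.symm ▸ hle hu')
      refine Subgroup.mem_zpowers_iff.2 ⟨k, Subtype.ext ?_⟩
      have := congrArg Subtype.val hk
      simpa [hm] using this
  · right
    push Not at hcl
    obtain ⟨r, hr, hrne⟩ := hcl
    set O := {x : G | x ∈ D ∧ ∃ g ∈ H, g * d * g⁻¹ = x} with hO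
    have hcross : ∀ o ∈ O, ∀ y ∈ D, y ∉ O → y ∈ perp D o := by
      rintro o ⟨ho, g, hg, hgo⟩ y hy hyO
      refine ⟨hy, fun h => hyO ⟨hy, g, hg, hgo.trans h.symm⟩, ?_⟩
      by_contra hnc
      refine hyO ⟨hy, (o * y) * g, mul_mem (mul_mem (Subgroup.subset_closure ho) (Subgroup.subset_closure hy)) hg, ?_⟩
      rw [show o * y * g * d * (o * y * g)⁻¹ = o * y * (g * d * g⁻¹) * (o * y)⁻¹ by group, hgo,
        mul_inv_rev, tt_inv hT ho, tt_inv hT hy,
        show o * y * o * (y * o) = (o * y * o) * y * o by group, tt_braid hT ho hy hnc,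
        mul_assoc (y * o) y y, tt_mul_self hT hy, mul_one, mul_assoc, tt_mul_self hT ho, mul_one]
    have hdO : d ∈ O := ⟨hd, 1, one_mem _, by simp⟩
    have hrO : r ∉ O := fun ⟨_, g, hg, h⟩ => hrne g hg h
    -- the complement of `O` is the line of `d`, and `O` is the line of `r`
    have hline : ∀ x ∈ D, ∀ y ∈ D, ∀ z ∈ D, z ∈ perp D x → y ∈ perp D x → z ≠ y → ¬ Commute y z :=
      fun x hx y _ z _ hz hy hne => (perpLine_pair hT hp hx hy hz hne.symm).1
    have hR : ∀ x ∈ D, x ∉ O → perp D d ⊆ D \ O := by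
      intro x hx hxO y hy
      refine ⟨hy.1, fun hyO => ?_⟩
      have hxy := hcross y hyO x hx hxO
      exact hline d hd y hy.1 x hx (hcross d hdO x hx hxO) hy hxy.2.1 hxy.2.2
    have hRd : D \ O = perp D d :=
      Set.Subset.antisymm (fun x hx => hcross d hdO x hx.1 hx.2) (hR r hr hrO)
    have hOr : O = perp D r := by
      refine Set.Subset.antisymm (fun o ho => ?_) (fun y hy => ?_)
      · have := hcross o ho r hr hrO
        exact ⟨ho.1, fun h => this.2.1 h.symm, this.2.2.symm⟩
      · by_contra hyO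
        exact hline d hd r hr y hy.1 (hcross d hdO y hy.1 hyO) (hcross d hdO r hr hrO) hy.2.1 hy.2.2
    have hcommute : ∀ u ∈ perp D r, ∀ v ∈ perp D d, Commute u v := fun u hu v hv => by
      rw [← hOr] at hu
      rw [← hRd] at hv
      exact (hcross u hu v hv.1 hv.2).2.2
    set A := Subgroup.closure (perp D r)
    set B := Subgroup.closure (perp D d)
    have hAB : ∀ u ∈ A, ∀ v ∈ B, Commute u v := by
      have h1 : ∀ v ∈ perp D d, A ≤ Subgroup.centralizer {v} := fun v hv =>
        (Subgroup.closure_le _).2 fun u hu => Subgroup.mem_centralizer_singleton_iff.2 (hcommute u hu v hv)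
      intro u hu
      have h2 : B ≤ Subgroup.centralizer {u} := (Subgroup.closure_le _).2 fun v hv =>
        Subgroup.mem_centralizer_singleton_iff.2 (Subgroup.mem_centralizer_singleton_iff.1 (h1 v hv hu)).symm
      intro v hv
      exact (Subgroup.mem_centralizer_singleton_iff.1 (h2 hv)).symm
    let φ : A × B →* G := MonoidHom.noncommCoprod A.subtype B.subtype fun u v => hAB u u.2 v v.2
    obtain ⟨eA⟩ := hloc r hr
    obtain ⟨eB⟩ := hloc d hd
    have hinj : Function.Injective φ := by
      rw [injective_iff_map_eq_one]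
      rintro ⟨u, v⟩ h
      change (u : G) * (v : G) = 1 at h
      have huB : (u : G) ∈ B := by rw [eq_inv_of_mul_eq_one_left h]; exact inv_mem v.2
      have hu1 : eA u = 1 := by
        have hc : ∀ w : A, u * w = w * u := fun w => Subtype.ext (hAB w w.2 u huB).symm.eq
        refine perm_three_center _ ?_ ?_ <;>
        · conv_lhs => rw [← eA.apply_symm_apply (Equiv.swap _ _), ← map_mul, hc, map_mul, eA.apply_symm_apply]
      have hu : u = 1 := eA.map_eq_one_iff.1 hu1
      rw [hu, Subgroup.coe_one, one_mul] at h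
      exact Prod.ext hu (Subtype.ext h)
    have hrange : φ.range = H := by
      refine le_antisymm ?_ ?_
      · rintro _ ⟨⟨u, v⟩, rfl⟩
        exact mul_mem (Subgroup.closure_mono (fun y hy => hy.1) u.2)
          (Subgroup.closure_mono (fun y hy => hy.1) v.2)
      · refine (Subgroup.closure_le _).2 fun y hy => ?_
        by_cases hyO : y ∈ O
        · rw [hOr] at hyO
          exact ⟨(⟨y, Subgroup.subset_closure hyO⟩, 1), mul_one y⟩
        · have hyd : y ∈ perp D d := hRd ▸ (⟨hy, hyO⟩ : y ∈ D \ O)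
          exact ⟨(1, ⟨y, Subgroup.subset_closure hyd⟩), one_mul y⟩
    exact ⟨(((MonoidHom.ofInjective hinj).trans (MulEquiv.subgroupCongr hrange)).symm).trans
      (eA.prodCongr eB)⟩

end H99
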