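/-
A connected system of transvections on a perfectly paired space is the full one or a symplectic one.
-/
import Cfsg.Agent.H99.TransvSys

set_option autoImplicit false

namespace H99.Transv

variable {k V V' : Type*} [Field k] [AddCommGroup V] [Module k V] [AddCommGroup V'] [Module k V']
variable {β : V →ₗ[k] V' →ₗ[k] k}

/-- Every nonzero vector is a centre, every nonzero functional an axis, and the pairing is perfect. -/
structure Sys.Whole (S : Sys β) : Prop where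
  centre : ∀ v, v ≠ 0 → ∃ φ, S.P v φ
  axis' : ∀ φ, φ ≠ 0 → ∃ v, S.P v φ
  left : ∀ v, (∀ φ, β v φ = 0) → v = 0
  right : ∀ φ, (∀ v, β v φ = 0) → φ = 0
  conn : S.Connected

variable {S : Sys β}

lemma Sys.Whole.flip (h : S.Whole) : S.dual.Whole :=
  ⟨h.axis', h.centre, h.right, h.left, S.connected_dual h.conn⟩

lemma Sys.Whole.separate (h : S.Whole) {v w : V} (hw : ∀ c : k, w ≠ c • v) :
    ∃ φ, β v φ = 0 ∧ β w φ ≠ 0 := by
  by_contra! hcon
  by_cases hv : v = 0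
  · refine hw 0 ?_
    rw [zero_smul]
    exact h.left w fun φ => hcon φ (by rw [hv, map_zero, LinearMap.zero_apply])
  obtain ⟨φ₁, hφ₁⟩ : ∃ φ, β v φ ≠ 0 := by
    by_contra! h0; exact hv (h.left v h0)
  refine hw (β w φ₁ / β v φ₁) (sub_eq_zero.1 (h.left _ fun φ => ?_))
  have := hcon (φ - (β v φ / β v φ₁) • φ₁) (by simp [div_mul_cancel₀ _ hφ₁])
  simp only [map_sub, map_smul, LinearMap.sub_apply, LinearMap.smul_apply, smul_eq_mul] at this ⊢
  linear_combination this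

/-- The axes of one centre. -/
def Sys.axesAt (S : Sys β) (v : V) : Submodule k V' where
  carrier := {φ | φ = 0 ∨ S.P v φ}
  zero_mem' := Or.inl rfl
  add_mem' {φ ψ} hφ hψ := by
    rcases hφ with rfl | hφ
    · rwa [zero_add]
    rcases hψ with rfl | hψ
    · rw [add_zero]; exact Or.inr hφ
    by_cases h : φ + ψ = 0
    · exact Or.inl h
    · exact Or.inr (S.addR hφ hψ h)
  smul_mem' c φ hφ := by
    rcases hφ with rfl | hφ
    · exact Or.inl (smul_zero c)
    by_cases hc : c = 0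
    · exact Or.inl (by rw [hc, zero_smul])
    · exact Or.inr (S.smulR hφ hc)

variable [FiniteDimensional k V']

lemma Sys.finrank_axesAt {v w : V} {φ : V'} (h : S.P v φ) (hc : β w φ ≠ 0) :
    Module.finrank k ↥(S.axesAt w) ≤ Module.finrank k ↥(S.axesAt v) ∧
      ((∀ ψ, S.P w ψ → β v ψ = 0) →
        Module.finrank k ↥(S.axesAt w) < Module.finrank k ↥(S.axesAt v)) := by
  set K := S.axesAt w ⊓ LinearMap.ker (β v) with hK
  have hle : K ⊔ Submodule.span k {φ} ≤ S.axesAt v := by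
    refine sup_le ?_ ((Submodule.span_singleton_le_iff_mem _ _).2 (Or.inr h))
    rintro ψ ⟨hψ1, hψ2⟩
    rcases hψ1 with rfl | hψ1
    · exact Or.inl rfl
    · exact Or.inr (S.comm h hψ1 (LinearMap.mem_ker.1 hψ2) hc)
  have hlt : K < K ⊔ Submodule.span k {φ} := by
    refine lt_of_le_of_ne le_sup_left fun he => ?_
    have : φ ∈ K := he ▸ Submodule.mem_sup_right (Submodule.mem_span_singleton_self φ)
    rcases this.1 with h0 | h0
    · exact (S.ne h).2.1 h0
    · exact hc (S.ne h0).2.2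
  have h1 : Module.finrank k ↥K < Module.finrank k ↥(S.axesAt v) :=
    lt_of_lt_of_le (Submodule.finrank_lt_finrank_of_lt hlt) (Submodule.finrank_mono hle)
  refine ⟨?_, fun hall => ?_⟩
  · have h2 := Submodule.finrank_sup_add_finrank_inf_eq (S.axesAt w) (LinearMap.ker (β v))
    have h3 := LinearMap.finrank_range_add_finrank_ker (β v)
    have h4 : Module.finrank k ↥(LinearMap.range (β v)) ≤ 1 :=
      (Submodule.finrank_le _).trans (Module.finrank_self k).le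
    have h5 := Submodule.finrank_le (S.axesAt w ⊔ LinearMap.ker (β v))
    rw [← hK] at h2
    omega
  · have : K = S.axesAt w := inf_eq_left.2 fun ψ hψ => by
      rcases hψ with rfl | hψ
      · exact zero_mem _
      · exact LinearMap.mem_ker.2 (hall ψ hψ)
    rwa [this] at h1

lemma Sys.finrank_axesAt_eq (h2 : (2 : k) ≠ 0) (hS : S.Connected) {v w φ ψ} (h : S.P v φ)
    (h' : S.P w ψ) : Module.finrank k ↥(S.axesAt v) = Module.finrank k ↥(S.axesAt w) := by
  obtain ⟨z, φ', ψ', θ, hv, hw, hz, zv, zw, vz, wz⟩ := S.two_all h2 hS h h'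
  have e1 := le_antisymm (S.finrank_axesAt hz vz).1 (S.finrank_axesAt hv zv).1
  have e2 := le_antisymm (S.finrank_axesAt hz wz).1 (S.finrank_axesAt hw zw).1
  exact e1.trans e2.symm

lemma Sys.meet_symm (h2 : (2 : k) ≠ 0) (hS : S.Whole) {v φ w} (h : S.P v φ) (hc : β w φ ≠ 0) :
    ∃ ψ, S.P w ψ ∧ β v ψ ≠ 0 := by
  have hw0 : w ≠ 0 := fun h0 => hc (by rw [h0, map_zero, LinearMap.zero_apply])
  obtain ⟨χ, hχ⟩ := hS.centre w hw0
  by_contra! hall
  exact (S.finrank_axesAt_eq h2 hS.conn hχ h).not_lt ((S.finrank_axesAt h hc).2 hall)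

/-- Either all incident pairs occur or every centre has one axis. -/
theorem Sys.full_or_line (h2 : (2 : k) ≠ 0) (hS : S.Whole) :
    (∀ v φ, v ≠ 0 → φ ≠ 0 → β v φ = 0 → S.P v φ) ∨
      (∀ v φ ψ, S.P v φ → S.P v ψ → ∃ c : k, ψ = c • φ) := by
  refine or_iff_not_imp_right.2 fun hline => ?_
  push Not at hline
  obtain ⟨v₁, φ₁, ψ₁, hp1, hq1, hind⟩ := hline
  have hd : ∀ v φ, S.P v φ → ∀ θ : V', ∃ ψ, S.P v ψ ∧ ∀ c : k, ψ ≠ c • θ := by
    intro v φ hv θ
    by_contra! hall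
    have hle : S.axesAt v ≤ Submodule.span k {θ} := by
      intro ψ hψ
      rcases hψ with rfl | hψ
      · exact zero_mem _
      · obtain ⟨c, rfl⟩ := hall ψ hψ
        exact Submodule.smul_mem _ _ (Submodule.mem_span_singleton_self θ)
    have hθ0 : θ ≠ 0 := fun h0 => by
      obtain ⟨c, hc⟩ := hall φ hv
      exact (S.ne hv).2.1 (by rw [hc, h0, smul_zero])
    have h1 := Submodule.finrank_mono hle
    rw [finrank_span_singleton hθ0, S.finrank_axesAt_eq h2 hS.conn hv hp1] at h1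
    have hφ1 : Submodule.span k {φ₁} ≤ S.axesAt v₁ :=
      (Submodule.span_singleton_le_iff_mem _ _).2 (Or.inr hp1)
    have heq := Submodule.eq_of_le_of_finrank_le hφ1 (h1.trans (finrank_span_singleton (S.ne hp1).2.1).ge)
    obtain ⟨c, hc⟩ := Submodule.mem_span_singleton.1
      (show ψ₁ ∈ Submodule.span k {φ₁} by rw [heq]; exact Or.inr hq1)
    exact hind c hc.symm
  intro v θ hv0 hθ0 hvθ
  obtain ⟨w, hw⟩ := hS.axis' θ hθ0
  by_contra hn
  obtain ⟨φ, hv⟩ := hS.centre v hv0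
  obtain ⟨φa, hφa, hφa'⟩ := hd v φ hv θ
  obtain ⟨φb, hφb, hφb'⟩ := hd w θ hw θ
  have hsep : ∀ χ : V', (∀ c : k, χ ≠ c • θ) → ∃ z, β z θ = 0 ∧ β z χ ≠ 0 := fun χ hχ =>
    hS.flip.separate hχ
  obtain ⟨z₁, hz1, hz1'⟩ := hsep φb hφb'
  obtain ⟨z₂, hz2, hz2'⟩ := hsep φa hφa'
  -- a vector in the kernel of `θ` meeting both
  obtain ⟨z, hzθ, hza, hzb⟩ : ∃ z, β z θ = 0 ∧ β z φa ≠ 0 ∧ β z φb ≠ 0 := by
    by_cases c1 : β z₁ φa = 0
    swap
    · exact ⟨z₁, hz1, c1, hz1'⟩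
    by_cases c2 : β z₂ φb = 0
    swap
    · exact ⟨z₂, hz2, hz2', c2⟩
    exact ⟨z₁ + z₂, by simp [hz1, hz2], by simpa [c1] using hz2', by simpa [c2] using hz1'⟩
  obtain ⟨χ, hχ, hwχ⟩ := S.meet_symm h2 hS hφb hzb
  exact hn (S.comm hφa (S.comm hχ hw hzθ hwχ) hvθ hza)

variable [FiniteDimensional k V]

/-- The classification. -/
theorem Sys.classify (h2 : (2 : k) ≠ 0) (hS : S.Whole) :
    (∀ v φ, v ≠ 0 → φ ≠ 0 → β v φ = 0 → S.P v φ) ∨
      ∃ L : V →ₗ[k] V', (∀ v, β v (L v) = 0) ∧ (∀ v, v ≠ 0 → S.P v (L v)) ∧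
        ∀ v φ, S.P v φ → ∃ c : k, φ = c • L v := by
  classical
  rcases S.full_or_line h2 hS with hfull | hline
  · exact Or.inl hfull
  by_cases hV : ∀ v : V, v = 0
  · exact Or.inl fun v φ h => absurd (hV v) h
  right
  push Not at hV
  obtain ⟨v₀, hv₀⟩ := hV
  obtain ⟨φ₀, hφ₀⟩ := hS.centre v₀ hv₀
  -- one centre to an axis
  have hcline : ∀ v w φ, S.P v φ → S.P w φ → ∃ c : k, w = c • v := by
    intro v w φ hv hw
    rcases S.dual.full_or_line h2 hS.flip with hfull | hl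
    · by_contra! hc
      obtain ⟨φ', h1, h1'⟩ := hS.separate hc
      have hne : φ' ≠ 0 := fun h0 => h1' (by rw [h0, map_zero])
      obtain ⟨c, rfl⟩ := hline v φ φ' hv (hfull φ' v hne (S.ne hv).1 h1)
      exact h1' (by simp [(S.ne hw).2.2])
    · exact hl φ v w hv hw
  -- the normalised axis
  have hJ : ∀ x, β x φ₀ ≠ 0 → ∃ χ, S.P x χ ∧ β v₀ χ = - β x φ₀ := by
    intro x hx
    obtain ⟨χ, hχ, hv⟩ := S.meet_symm h2 hS hφ₀ hx
    exact ⟨_, S.smulR hχ (div_ne_zero (neg_ne_zero.2 hx) hv), by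
      rw [map_smul, smul_eq_mul, div_mul_cancel₀ _ hv]⟩
  choose! J hJP hJv using hJ
  have tri : ∀ {v x y φ χ θ}, S.P v φ → S.P x χ → S.P y θ → β x φ ≠ 0 → β y φ ≠ 0 →
      β v χ = - β x φ → β v θ = - β y φ → β x θ = - β y χ := by
    intro v x y φ χ θ hv hx hy hx0 hy0 hnx hny
    have hvx : β v χ ≠ 0 := by rw [hnx]; exact neg_ne_zero.2 hx0
    have hl := S.line hv hx hx0 hvx (-β y χ) (β y φ) (Or.inr hy0)
    have hz : β ((-β y χ) • v + β y φ • x) θ = 0 := by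
      by_contra hne
      obtain ⟨η, hη, hyη⟩ := S.meet_symm h2 hS hy hne
      obtain ⟨c, rfl⟩ := hline _ _ _ hl hη
      apply hyη
      simp only [map_smul, map_sub, smul_eq_mul, hnx]
      ring
    simp only [map_add, map_smul, LinearMap.add_apply, LinearMap.smul_apply, smul_eq_mul, hny] at hz
    have : β y φ * (β x θ + β y χ) = 0 := by linear_combination hz
    exact eq_neg_of_add_eq_zero_left ((mul_eq_zero.1 this).resolve_left hy0)
  have hanti : ∀ x y, β x φ₀ ≠ 0 → β y φ₀ ≠ 0 → β x (J y) = - β y (J x) := fun x y hx hy =>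
    tri hφ₀ (hJP x hx) (hJP y hy) hx hy (hJv x hx) (hJv y hy)
  obtain ⟨x₀, η₀, -, hx₀, -⟩ := S.partner hφ₀
  have hext : ∀ ℓ : V', (∀ y, β y φ₀ ≠ 0 → β y ℓ = 0) → ℓ = 0 := fun ℓ h => hS.right ℓ fun y => by
    by_cases hy : β y φ₀ = 0
    · have h1 := h (y + x₀) (by simpa [hy] using hx₀)
      simpa [h x₀ hx₀] using h1
    · exact h y hy
  have hex : ∀ w, ∃ ℓ : V', ∀ y, β y φ₀ ≠ 0 → β y ℓ = - β w (J y) := by
    intro w
    by_cases hw : β w φ₀ = 0
    · refine ⟨J (w + x₀) - J x₀, fun y hy => ?_⟩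
      have hwx : β (w + x₀) φ₀ ≠ 0 := by simpa [hw] using hx₀
      rw [map_sub, hanti y (w + x₀) hy hwx, hanti y x₀ hy hx₀, map_add, LinearMap.add_apply]
      ring
    · exact ⟨J w, fun y hy => hanti y w hy hw⟩
  choose ℓ hℓ using hex
  let L : V →ₗ[k] V' :=
    { toFun := ℓ
      map_add' := fun a b => sub_eq_zero.1 (hext _ fun y hy => by
        simp only [map_sub, map_add, hℓ _ y hy, LinearMap.add_apply]; ring)
      map_smul' := fun c a => sub_eq_zero.1 (hext _ fun y hy => by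
        simp only [map_sub, map_smul, hℓ _ y hy, LinearMap.smul_apply, smul_eq_mul, RingHom.id_apply]
        ring) }
  have hL : ∀ w y, β y φ₀ ≠ 0 → β y (L w) = - β w (J y) := hℓ
  have hLJ : ∀ x, β x φ₀ ≠ 0 → L x = J x := fun x hx => sub_eq_zero.1 (hext _ fun y hy => by
    rw [map_sub, hL x y hy, hanti y x hy hx, sub_self])
  have halt : ∀ v, β v (L v) = 0 := by
    intro v
    by_cases hv : β v φ₀ = 0
    · have hwx : β (v + x₀) φ₀ ≠ 0 := by simpa [hv] using hx₀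
      have e : L v = J (v + x₀) - J x₀ := by
        rw [← hLJ _ hwx, ← hLJ _ hx₀, map_add, add_sub_cancel_right]
      have k1 := (S.ne (hJP _ hwx)).2.2
      have k2 := (S.ne (hJP _ hx₀)).2.2
      have k3 := hanti x₀ (v + x₀) hx₀ hwx
      simp only [map_add, LinearMap.add_apply] at k1 k3
      rw [e, map_sub]
      linear_combination k1 - k3 + k2
    · rw [hLJ v hv]; exact (S.ne (hJP v hv)).2.2
  have hL0 : L v₀ = φ₀ := sub_eq_zero.1 (hext _ fun y hy => by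
    rw [map_sub, hL v₀ y hy, hJv y hy, neg_neg, sub_self])
  have hall : ∀ w ψ, S.P w ψ → ∃ c : k, ψ = c • L w := by
    intro w ψ hw
    by_cases hwU : β w φ₀ = 0
    swap
    · obtain ⟨c, hc⟩ := hline w _ _ (hJP w hwU) hw
      exact ⟨c, by rw [hLJ w hwU]; exact hc⟩
    by_cases hprop : ∃ c : k, ψ = c • φ₀
    · obtain ⟨c, rfl⟩ := hprop
      have hc : c ≠ 0 := fun h0 => (S.ne hw).2.1 (by rw [h0, zero_smul])
      obtain ⟨d, rfl⟩ := hcline v₀ w (c • φ₀) (S.smulR hφ₀ hc) hw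
      have hd : d ≠ 0 := fun h0 => (S.ne hw).1 (by rw [h0, zero_smul])
      exact ⟨c / d, by rw [map_smul, hL0, smul_smul, div_mul_cancel₀ _ hd]⟩
    push Not at hprop
    obtain ⟨x₁, hx₁, hx₁'⟩ : ∃ x, β x φ₀ ≠ 0 ∧ β x ψ ≠ 0 := by
      obtain ⟨z, hz, hz'⟩ := hS.flip.separate hprop
      simp only [LinearMap.flip_apply] at hz hz'
      by_cases h0 : β x₀ ψ = 0
      · exact ⟨x₀ + z, by simpa [hz] using hx₀, by simpa [h0] using hz'⟩
      · exact ⟨x₀, hx₀, h0⟩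
    obtain ⟨y₁, hy₁, hy₁'⟩ : ∃ y, β y ψ = 0 ∧ β y φ₀ ≠ 0 := by
      refine hS.flip.separate fun c hc => ?_
      by_cases hc0 : c = 0
      · exact (S.ne hφ₀).2.1 (by rw [hc, hc0, zero_smul])
      · exact hprop c⁻¹ (by rw [hc, smul_smul, inv_mul_cancel₀ hc0, one_smul])
    have hwx : β w (J x₁) ≠ 0 := by
      intro h0
      obtain ⟨θ, hθ, hθ'⟩ := S.meet_symm h2 hS hw hx₁'
      obtain ⟨c, rfl⟩ := hline x₁ _ _ (hJP x₁ hx₁) hθ
      exact hθ' (by simp [h0])
    have hc0 : - β w (J x₁) / β x₁ ψ ≠ 0 := div_ne_zero (neg_ne_zero.2 hwx) hx₁'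
    set ψ' := (- β w (J x₁) / β x₁ ψ) • ψ with hψd
    have hw' : S.P w ψ' := S.smulR hw hc0
    have hx1ψ : β x₁ ψ' = - β w (J x₁) := by
      rw [hψd, map_smul, smul_eq_mul, div_mul_cancel₀ _ hx₁']
    have hkill : ∀ y, β y φ₀ ≠ 0 → β y ψ = 0 → β w (J y) = 0 := by
      intro y hy hyψ
      by_contra hne
      obtain ⟨θ, hθ, hθ'⟩ := S.meet_symm h2 hS (hJP y hy) hne
      obtain ⟨c, rfl⟩ := hline w _ _ hw hθ
      exact hθ' (by simp [hyψ])
    have hker : ∀ y, β y ψ = 0 → β y (ψ' - L w) = 0 := by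
      have base : ∀ y, β y φ₀ ≠ 0 → β y ψ = 0 → β y (ψ' - L w) = 0 := fun y hy hyψ => by
        rw [map_sub, hL w y hy, hkill y hy hyψ, hψd, map_smul, hyψ, smul_zero, neg_zero, sub_zero]
      intro y hyψ
      by_cases hy : β y φ₀ = 0
      · have h1 := base (y + y₁) (by simpa [hy] using hy₁') (by simp [hyψ, hy₁])
        simpa [base y₁ hy₁' hy₁] using h1
      · exact base y hy hyψ
    refine ⟨(- β w (J x₁) / β x₁ ψ)⁻¹, ?_⟩
    have e : ψ' = L w := sub_eq_zero.1 (hS.right _ fun y => by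
      have h1 := hker (y - (β y ψ / β x₁ ψ) • x₁) (by simp [div_mul_cancel₀ _ hx₁'])
      have h3 : β x₁ (ψ' - L w) = 0 := by rw [map_sub, hL w x₁ hx₁, hx1ψ, sub_self]
      rw [LinearMap.map_sub₂, map_smul, LinearMap.smul_apply, h3, smul_zero, sub_zero] at h1
      exact h1)
    rw [← e, hψd, smul_smul, inv_mul_cancel₀ hc0, one_smul]
  refine ⟨L, halt, fun w hw => ?_, hall⟩
  obtain ⟨ψ, hψ⟩ := hS.centre w hw
  obtain ⟨c, rfl⟩ := hall w ψ hψ
  have hc : c ≠ 0 := fun h0 => (S.ne hψ).2.1 (by rw [h0, zero_smul])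
  simpa [smul_smul, inv_mul_cancel₀ hc] using S.smulR hψ (inv_ne_zero hc)

end H99.Transv
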