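/-
Groups generated by transvections without normal p-subgroups, over the prime field.
-/
import Cfsg.Agent.H99.TransvGroup
import Cfsg.Agent.H99.TransvClassify
import Cfsg.Agent.H99.TransvGen

set_option autoImplicit false

namespace H99.Transv

variable {p : ℕ} [Fact p.Prime] {V : Type*} [AddCommGroup V] [Module (ZMod p) V] [Finite V]

/-- The subsystem on a pair of subspaces containing all centres and axes. -/
def Sys.restrict {k U U' : Type*} [Field k] [AddCommGroup U] [Module k U] [AddCommGroup U'] [Module k U']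
    {β : U →ₗ[k] U' →ₗ[k] k} (S : Sys β) (W : Submodule k U) (Φ : Submodule k U')
    (h : ∀ v φ, S.P v φ → v ∈ W ∧ φ ∈ Φ) :
    Sys ((β.domRestrict W).compl₂ Φ.subtype) where
  P v φ := S.P v φ
  ne {v φ} hP := ⟨fun h0 => (S.ne hP).1 (congrArg Subtype.val h0),
    fun h0 => (S.ne hP).2.1 (congrArg Subtype.val h0), (S.ne hP).2.2⟩
  smulL hP hc := S.smulL hP hc
  smulR hP hc := S.smulR hP hc
  conj hP hQ := S.conj hP hQ
  addL hP hQ hne := S.addL hP hQ fun h0 => hne (Subtype.ext h0)
  addR hP hQ hne := S.addR hP hQ fun h0 => hne (Subtype.ext h0)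
  delta hx h1 h2 a b c hr hd := S.delta hx h1 h2 a b c (fun h0 => hr (Subtype.ext h0))
    (fun h0 => hd (Subtype.ext h0))
  partner hP := by
    obtain ⟨y, η, hy, a, b⟩ := S.partner hP
    exact ⟨⟨y, (h y η hy).1⟩, ⟨η, (h y η hy).2⟩, hy, a, b⟩

lemma two_ne_zero_zmod (hp : Odd p) : (2 : ZMod p) ≠ 0 := by
  intro h0
  have := (ZMod.natCast_eq_zero_iff 2 p).1 (by exact_mod_cast h0)
  have h3 := Nat.le_of_dvd (by norm_num) this
  rcases hp with ⟨m, hm⟩
  have := (Fact.out : p.Prime).two_le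
  omega

theorem mclaughlin (hp : Odd p) (H : Subgroup (V ≃ₗ[ZMod p] V)) (T : Set (V ≃ₗ[ZMod p] V))
    (hHT : H = Subgroup.closure T)
    (hT : ∀ t ∈ T, orderOf t = p ∧
      Module.finrank (ZMod p) ↥(LinearMap.ker ((t : V →ₗ[ZMod p] V) - LinearMap.id)) + 1 =
        Module.finrank (ZMod p) V)
    (hOp : Cfsg.pCore p ↥H = ⊥) :
    ∃ (n : ℕ) (W : Fin (n + 1) → Submodule (ZMod p) V) (K : Fin n → Subgroup (V ≃ₗ[ZMod p] V)),
      1 ≤ n ∧ DirectSum.IsInternal W ∧
      (∀ h ∈ H, ∀ i, (W i).map (h : V →ₗ[ZMod p] V) = W i) ∧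
      (∀ j, K j ≤ H ∧ ((K j).subgroupOf H).Normal) ∧ ⨆ j, K j = H ∧
      (∀ j, K j ⊓ (⨆ j' ∈ {j' : Fin n | j' ≠ j}, K j') = ⊥) ∧
      (∀ j j', j ≠ j' → ∀ a ∈ K j, ∀ b ∈ K j', a * b = b * a) ∧
      (∀ j, ∀ h ∈ K j, ∀ i : Fin (n + 1), i ≠ j.succ → ∀ v ∈ W i, h v = v) ∧
      (∀ j, ∃ ρ : ↥(K j) →* (↥(W j.succ) ≃ₗ[ZMod p] ↥(W j.succ)),
        (∀ (h : ↥(K j)) (v : ↥(W j.succ)), ((ρ h v : ↥(W j.succ)) : V) = (h : V ≃ₗ[ZMod p] V) (v : V)) ∧
        ((ρ.range : Set (↥(W j.succ) ≃ₗ[ZMod p] ↥(W j.succ))) =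
            {f : ↥(W j.succ) ≃ₗ[ZMod p] ↥(W j.succ) | LinearMap.det (f : ↥(W j.succ) →ₗ[ZMod p] ↥(W j.succ)) = 1} ∨
          ∃ B : LinearMap.BilinForm (ZMod p) ↥(W j.succ), B.IsAlt ∧ B.Nondegenerate ∧
            (ρ.range : Set (↥(W j.succ) ≃ₗ[ZMod p] ↥(W j.succ))) = {f : ↥(W j.succ) ≃ₗ[ZMod p] ↥(W j.succ) | ∀ x y, B (f x) (f y) = B x y})) := by
  classical
  haveI : Module.Finite (ZMod p) V := Module.Finite.of_finite
  haveI : Finite (V ≃ₗ[ZMod p] V) := Finite.of_injective (fun g => (g : V → V)) DFunLike.coe_injective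
  haveI : Finite (Module.Dual (ZMod p) V) := Finite.of_injective (fun f => (f : V → ZMod p)) DFunLike.coe_injective
  have h2 := two_ne_zero_zmod hp
  set S := groupSys H hp hOp with hS
  have hSP : ∀ v φ, S.P v φ ↔ IsPair H v φ := fun _ _ => Iff.rfl
  -- the components
  let s : Setoid {q : V × Module.Dual (ZMod p) V // S.P q.1 q.2} :=
    { r := fun a b => S.Conn a.1 b.1
      iseqv := ⟨fun _ => Relation.ReflTransGen.refl, fun h => S.conn_symm h, fun h h' => h.trans h'⟩ }
  haveI : Fintype (Option (Quotient s)) := Fintype.ofFinite _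
  let pairsOf : Option (Quotient s) → Set (V × Module.Dual (ZMod p) V) := fun i =>
    i.elim ∅ (fun c => {q | S.P q.1 q.2 ∧ S.Conn c.out.1 q})
  have memP : ∀ i q, q ∈ pairsOf i → S.P q.1 q.2 := fun i q hq => by
    cases i with
    | none => exact absurd hq (Set.notMem_empty q)
    | some c => exact hq.1
  have hclass : ∀ q, ∀ hq : S.P q.1 q.2, q ∈ pairsOf (some ⟦⟨q, hq⟩⟧) := fun q hq => by
    have h := Quotient.mk_out (s := s) ⟨q, hq⟩
    exact ⟨hq, h⟩
  have hconn : ∀ i, ∀ a ∈ pairsOf i, ∀ b, S.Conn a b → b ∈ pairsOf i := fun i a ha b hb => by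
    cases i with
    | none => exact absurd ha (Set.notMem_empty a)
    | some c => exact ⟨S.conn_mem ha.1 hb, ha.2.trans hb⟩
  have hsame : ∀ i j, ∀ a ∈ pairsOf i, ∀ b ∈ pairsOf j, S.Conn a b → i = j := fun i j a ha b hb hab => by
    cases i with
    | none => exact absurd ha (Set.notMem_empty a)
    | some c =>
      cases j with
      | none => exact absurd hb (Set.notMem_empty b)
      | some d =>
        have : c.out.1 = c.out.1 := rfl
        have h1 : S.Conn c.out.1 d.out.1 := (ha.2.trans hab).trans (S.conn_symm hb.2)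
        have h3 : (⟦c.out⟧ : Quotient s) = ⟦d.out⟧ := Quotient.sound h1
        rw [Quotient.out_eq, Quotient.out_eq] at h3
        rw [h3]
  let Wc : Option (Quotient s) → Submodule (ZMod p) V := fun i => Submodule.span _ (Prod.fst '' pairsOf i)
  let Φc : Option (Quotient s) → Submodule (ZMod p) (Module.Dual (ZMod p) V) := fun i =>
    Submodule.span _ (Prod.snd '' pairsOf i)
  have hmemW : ∀ i q, q ∈ pairsOf i → q.1 ∈ Wc i := fun i q hq => Submodule.subset_span ⟨q, hq, rfl⟩
  have hmemΦ : ∀ i q, q ∈ pairsOf i → q.2 ∈ Φc i := fun i q hq => Submodule.subset_span ⟨q, hq, rfl⟩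
  -- different components do not meet
  have hcross0 : ∀ i j, i ≠ j → ∀ a ∈ pairsOf i, ∀ b ∈ pairsOf j, a.2 b.1 = 0 := by
    intro i j hij a ha b hb
    by_contra hne
    exact hij (hsame i j a ha b hb (S.conn_of_cross (memP i a ha) (memP j b hb) hne))
  have hcross : ∀ i j, i ≠ j → ∀ φ ∈ Φc i, ∀ x ∈ Wc j, φ x = 0 := by
    intro i j hij φ hφ x hx
    have h1 : ∀ b ∈ pairsOf j, φ b.1 = 0 := fun b hb => by
      induction hφ using Submodule.span_induction with
      | mem ψ hψ => obtain ⟨a, ha, rfl⟩ := hψ; exact hcross0 i j hij a ha b hb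
      | zero => rfl
      | add _ _ _ _ h1 h2 => rw [LinearMap.add_apply, h1, h2, add_zero]
      | smul c _ _ h1 => rw [LinearMap.smul_apply, h1, smul_zero]
    induction hx using Submodule.span_induction with
    | mem y hy => obtain ⟨b, hb, rfl⟩ := hy; exact h1 b hb
    | zero => exact map_zero φ
    | add _ _ _ _ h1 h2 => rw [map_add, h1, h2, add_zero]
    | smul c _ _ h1 => rw [map_smul, h1, smul_zero]
  -- nonzero members of the spans are centres and axes of the component
  have hspanW : ∀ i, ∀ x ∈ Wc i, x ≠ 0 → ∃ φ, (x, φ) ∈ pairsOf i := by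
    intro i x hx hx0
    cases i with
    | none =>
      exfalso
      apply hx0
      simpa [Wc, pairsOf] using hx
    | some c =>
      let Sc := S.comp c.out.1 c.out.2
      have hle : Wc (some c) ≤ Sc.centres h2 (S.comp_connected c.out.1 c.out.2) :=
        Submodule.span_le.2 (by rintro _ ⟨q, hq, rfl⟩; exact Or.inr ⟨q.2, hq⟩)
      rcases hle hx with h0 | ⟨φ, hφ⟩
      · exact absurd h0 hx0
      · exact ⟨φ, hφ⟩
  have hspanΦ : ∀ i, ∀ φ ∈ Φc i, φ ≠ 0 → ∃ x, (x, φ) ∈ pairsOf i := by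
    intro i φ hφ hφ0
    cases i with
    | none =>
      exfalso
      apply hφ0
      simpa [Φc, pairsOf] using hφ
    | some c =>
      let Sc := S.comp c.out.1 c.out.2
      have hle : Φc (some c) ≤ Sc.axes h2 (S.comp_connected c.out.1 c.out.2) :=
        Submodule.span_le.2 (by rintro _ ⟨q, hq, rfl⟩; exact Or.inr ⟨q.1, hq⟩)
      rcases hle hφ with h0 | ⟨x, hx⟩
      · exact absurd h0 hφ0
      · exact ⟨x, hx⟩
  have hleft : ∀ i, ∀ x ∈ Wc i, (∀ φ ∈ Φc i, φ x = 0) → x = 0 := by
    intro i x hx hall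
    by_contra h0
    obtain ⟨φ, hφ⟩ := hspanW i x hx h0
    obtain ⟨y, η, hy, a, b⟩ := S.partner (memP i _ hφ)
    exact b (hall η (hmemΦ i (y, η) (hconn i _ hφ (y, η) (S.conn_of_cross (memP i _ hφ) hy a))))
  have hright : ∀ i, ∀ φ ∈ Φc i, (∀ x ∈ Wc i, φ x = 0) → φ = 0 := by
    intro i φ hφ hall
    by_contra h0
    obtain ⟨x, hx⟩ := hspanΦ i φ hφ h0
    obtain ⟨y, η, hy, a, b⟩ := S.partner (memP i _ hx)
    exact a (hall y (hmemW i (y, η) (hconn i _ hx (y, η) (S.conn_of_cross (memP i _ hx) hy a))))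
  -- projections
  have hproj : ∀ i, ∃ π : V →ₗ[ZMod p] Wc i, ∀ x, ∀ φ ∈ Φc i, φ (π x : V) = φ x := by
    intro i
    let θ : Wc i →ₗ[ZMod p] Module.Dual (ZMod p) (Φc i) :=
      ((Module.Dual.eval (ZMod p) V).domRestrict (Wc i)).compl₂ (Φc i).subtype
    let θ' : Φc i →ₗ[ZMod p] Module.Dual (ZMod p) (Wc i) := θ.flip
    have inj : Function.Injective θ := by
      rw [injective_iff_map_eq_zero]
      exact fun x hx => Subtype.ext (hleft i x x.2 fun φ hφ => LinearMap.congr_fun hx ⟨φ, hφ⟩)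
    have inj' : Function.Injective θ' := by
      rw [injective_iff_map_eq_zero]
      exact fun φ hφ => Subtype.ext (hright i φ φ.2 fun x hx => LinearMap.congr_fun hφ ⟨x, hx⟩)
    have e1 := LinearMap.finrank_le_finrank_of_injective inj
    have e2 := LinearMap.finrank_le_finrank_of_injective inj'
    rw [Subspace.dual_finrank_eq] at e1 e2
    let e := LinearMap.linearEquivOfInjective θ inj (by rw [Subspace.dual_finrank_eq]; omega)
    refine ⟨e.symm.toLinearMap ∘ₗ ((Module.Dual.eval (ZMod p) V).compl₂ (Φc i).subtype), fun x φ hφ => ?_⟩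
    exact LinearMap.congr_fun (e.apply_symm_apply ((Module.Dual.eval (ZMod p) V).compl₂ (Φc i).subtype x)) ⟨φ, hφ⟩
  choose π hπ using hproj
  have hπj : ∀ i j, ∀ x ∈ Wc j, (π i x : V) = if i = j then x else 0 := by
    intro i j x hx
    by_cases hij : i = j
    · subst hij
      rw [if_pos rfl]
      exact sub_eq_zero.1 (hleft i _ (sub_mem (π i x).2 hx) fun φ hφ => by rw [map_sub, hπ i x φ hφ, sub_self])
    · rw [if_neg hij]
      exact hleft i _ (π i x).2 fun φ hφ => by rw [hπ i x φ hφ]; exact hcross i j hij φ hφ x hx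
  let Z : Submodule (ZMod p) V := ⨅ i, ⨅ φ ∈ Φc i, LinearMap.ker φ
  have hZ : ∀ {x}, x ∈ Z ↔ ∀ i, ∀ φ ∈ Φc i, φ x = 0 := fun {x} => by
    simp [Z, Submodule.mem_iInf]
  have hrec : ∀ x ∈ ⨆ i, Wc i, x = ∑ i, (π i x : V) := by
    intro x hx
    induction hx using Submodule.iSup_induction' with
    | mem j y hy => simp [hπj _ j y hy]
    | zero => simp
    | add a b _ _ ha hb => simp only [map_add, Submodule.coe_add, Finset.sum_add_distrib, ← ha, ← hb]
  have hsub : ∀ x, x - ∑ i, (π i x : V) ∈ Z := by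
    intro x
    rw [hZ]
    intro i φ hφ
    rw [map_sub, map_sum, Finset.sum_eq_single i (fun j _ hj => hcross i j (Ne.symm hj) φ hφ _ (π j x).2)
      (by simp), hπ i x φ hφ, sub_self]
  -- the index set
  let n := Fintype.card (Option (Quotient s))
  let e : Option (Quotient s) ≃ Fin n := Fintype.equivFin _
  let W : Fin (n + 1) → Submodule (ZMod p) V := Fin.cons Z (fun j => Wc (e.symm j))
  let gens : Option (Quotient s) → Set (V ≃ₗ[ZMod p] V) := fun i =>
    {g | ∃ q ∈ pairsOf i, ∃ h : q.2 q.1 = 0, g = LinearEquiv.transvection h}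
  let Kc : Option (Quotient s) → Subgroup (V ≃ₗ[ZMod p] V) := fun i => Subgroup.closure (gens i)
  have hgenH : ∀ i, gens i ⊆ H := fun i g ⟨q, hq, h, hg⟩ => by
    obtain ⟨-, -, h', hm⟩ := memP i q hq
    rw [hg]; exact hm
  have hTgen : ∀ t ∈ T, ∃ i, t ∈ gens i := by
    intro t ht
    have htH : t ∈ H := hHT ▸ Subgroup.subset_closure ht
    obtain ⟨v, φ, h, hP, e⟩ := exists_pair_of_mem H htH (hT t ht).1 (hT t ht).2
    have hP' : S.P (v, φ).1 (v, φ).2 := hP
    exact ⟨some ⟦⟨(v, φ), hP'⟩⟧, (v, φ), hclass (v, φ) hP', h, e⟩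
  have hinH : ∀ (P : Subgroup (V ≃ₗ[ZMod p] V)), (∀ i, gens i ⊆ P) → H ≤ P := fun P hP => by
    rw [hHT, Subgroup.closure_le]
    intro t ht
    obtain ⟨i, hi⟩ := hTgen t ht
    exact hP i hi
  -- action on the summands
  have hact : ∀ i j, ∀ g ∈ gens i, ∀ x ∈ Wc j, (i ≠ j → g x = x) ∧ g x ∈ Wc j := by
    rintro i j g ⟨q, hq, h, rfl⟩ x hx
    by_cases hij : i = j
    · subst hij
      exact ⟨fun h => absurd rfl h, add_mem hx (Submodule.smul_mem _ _ (hmemW i q hq))⟩
    · have : LinearEquiv.transvection h x = x := by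
        rw [LinearEquiv.transvection.apply, hcross i j hij q.2 (hmemΦ i q hq) x hx, zero_smul, add_zero]
      exact ⟨fun _ => this, by rw [this]; exact hx⟩
  have hfixZ : ∀ i, ∀ g ∈ gens i, ∀ x ∈ Z, g x = x := by
    rintro i g ⟨q, hq, h, rfl⟩ x hx
    rw [LinearEquiv.transvection.apply, hZ.1 hx i q.2 (hmemΦ i q hq), zero_smul, add_zero]
  let stab : Submodule (ZMod p) V → Subgroup (V ≃ₗ[ZMod p] V) := fun U =>
    { carrier := {g | U.map (g : V →ₗ[ZMod p] V) = U}
      one_mem' := Submodule.map_id U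
      mul_mem' := fun {a b} ha hb => by
        show U.map ((a : V →ₗ[ZMod p] V) ∘ₗ (b : V →ₗ[ZMod p] V)) = U
        rw [Submodule.map_comp, hb, ha]
      inv_mem' := fun {a} ha => by
        show U.map (a.symm : V →ₗ[ZMod p] V) = U
        conv_lhs => rw [← (show U.map (a : V →ₗ[ZMod p] V) = U from ha)]
        rw [← Submodule.map_comp, show (a.symm : V →ₗ[ZMod p] V) ∘ₗ (a : V →ₗ[ZMod p] V) = LinearMap.id
          from LinearMap.ext a.symm_apply_apply, Submodule.map_id] }
  have hstab : ∀ U : Submodule (ZMod p) V, (∀ i, ∀ g ∈ gens i, ∀ x ∈ U, g x ∈ U) → H ≤ stab U := by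
    intro U hU
    refine hinH _ fun i g hg => ?_
    show U.map (g : V →ₗ[ZMod p] V) = U
    refine Submodule.eq_of_le_of_finrank_eq ?_ (LinearEquiv.finrank_map_eq g U)
    rintro _ ⟨x, hx, rfl⟩
    exact hU i g hg x hx
  have hinv : ∀ h ∈ H, ∀ i, (W i).map (h : V →ₗ[ZMod p] V) = W i := by
    intro h hh i
    refine Fin.cases ?_ (fun j => ?_) i
    · exact hstab Z (fun i g hg x hx => by rw [hfixZ i g hg x hx]; exact hx) hh
    · exact hstab (Wc (e.symm j)) (fun i g hg x hx => (hact i _ g hg x hx).2) hh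
  have hKH : ∀ i, Kc i ≤ H := fun i => (Subgroup.closure_le _).2 (hgenH i)
  have hKnorm : ∀ i, H ≤ Subgroup.normalizer ((Kc i : Subgroup _) : Set (V ≃ₗ[ZMod p] V)) := by
    intro i
    refine hinH _ fun j g hg => H65.mem_normalizer_closure ?_
    rintro u ⟨q, hq, h, rfl⟩
    obtain ⟨r, hr, h', rfl⟩ := hg
    have hPq := memP i q hq
    have hPr := memP j r hr
    have hnew := hconn i _ hq _ (S.conn_conj hPr hPq)
    refine ⟨_, hnew, (S.ne (memP i _ hnew)).2.2, ?_⟩
    rw [tv_conj_eq]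
    refine LinearEquiv.ext fun x => ?_
    simp only [LinearEquiv.transvection.apply, LinearMap.comp_apply, LinearEquiv.coe_coe, tv_symm_apply,
      Module.Dual.eval_apply, map_sub, map_smul, LinearMap.sub_apply, LinearMap.smul_apply, smul_eq_mul]
    congr 2
    ring
  have hfix : ∀ i, ∀ g ∈ Kc i, (∀ x ∈ Z, g x = x) ∧ ∀ j, i ≠ j → ∀ x ∈ Wc j, g x = x := by
    intro i g hg
    induction hg using Subgroup.closure_induction with
    | mem a ha => exact ⟨hfixZ i a ha, fun j hij x hx => (hact i j a ha x hx).1 hij⟩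
    | one => exact ⟨fun _ _ => rfl, fun _ _ _ _ => rfl⟩
    | mul a b _ _ ha hb =>
      exact ⟨fun x hx => by rw [LinearEquiv.mul_apply, hb.1 x hx, ha.1 x hx],
        fun j hij x hx => by rw [LinearEquiv.mul_apply, hb.2 j hij x hx, ha.2 j hij x hx]⟩
    | inv a _ ha =>
      refine ⟨fun x hx => ?_, fun j hij x hx => ?_⟩
      · show a.symm x = x
        rw [a.symm_apply_eq, ha.1 x hx]
      · show a.symm x = x
        rw [a.symm_apply_eq, ha.2 j hij x hx]
  have hdecomp : ∀ x, ∃ z ∈ Z, x = z + ∑ i, (π i x : V) := fun x => ⟨_, hsub x, by abel⟩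
  have hext : ∀ a b : V ≃ₗ[ZMod p] V, (∀ x ∈ Z, a x = b x) → (∀ i, ∀ x ∈ Wc i, a x = b x) → a = b := by
    intro a b hZ' hW'
    refine LinearEquiv.ext fun x => ?_
    obtain ⟨z, hz, hx⟩ := hdecomp x
    rw [hx, map_add, map_add, map_sum, map_sum, hZ' z hz,
      Finset.sum_congr rfl fun i _ => hW' i _ (π i x).2]
  have hcomm : ∀ i j, i ≠ j → ∀ a ∈ Kc i, ∀ b ∈ Kc j, a * b = b * a := by
    intro i j hij a ha b hb
    refine hext _ _ (fun x hx => ?_) (fun l x hx => ?_)
    · rw [LinearEquiv.mul_apply, LinearEquiv.mul_apply, (hfix j b hb).1 x hx, (hfix i a ha).1 x hx,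
        (hfix j b hb).1 x hx]
    · by_cases hil : i = l
      · subst hil
        have hax : a x ∈ Wc i := by
          have := hstab (Wc i) (fun i' g hg y hy => (hact i' _ g hg y hy).2) (hKH i ha)
          rw [← this]; exact ⟨x, hx, rfl⟩
        rw [LinearEquiv.mul_apply, LinearEquiv.mul_apply, (hfix j b hb).2 i (Ne.symm hij) x hx,
          (hfix j b hb).2 i (Ne.symm hij) _ hax]
      · have hbx : b x ∈ Wc l := by
          have := hstab (Wc l) (fun i' g hg y hy => (hact i' _ g hg y hy).2) (hKH j hb)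
          rw [← this]; exact ⟨x, hx, rfl⟩
        rw [LinearEquiv.mul_apply, LinearEquiv.mul_apply, (hfix i a ha).2 l hil x hx,
          (hfix i a ha).2 l hil _ hbx]
  refine ⟨n, W, fun j => Kc (e.symm j), Fintype.card_pos_iff.2 ⟨none⟩, ?_, hinv,
    fun j => ⟨hKH _, ?_⟩, ?_, ?_, fun j j' hjj => hcomm _ _ (e.symm.injective.ne hjj), ?_, ?_⟩
  · -- the decomposition
    rw [DirectSum.isInternal_submodule_iff_iSupIndep_and_iSup_eq_top]
    refine ⟨?_, ?_⟩
    · rw [iSupIndep_def]
      intro i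
      rw [Submodule.disjoint_def]
      intro x hx hx'
      revert hx hx'
      refine Fin.cases ?_ (fun j => ?_) i
      · intro hx hx'
        have hle : (⨆ l, ⨆ _ : l ≠ (0 : Fin (n + 1)), W l) ≤ ⨆ i, Wc i := by
          refine iSup₂_le fun l hl => ?_
          obtain ⟨l', rfl⟩ := Fin.exists_succ_eq.2 hl
          exact le_iSup Wc (e.symm l')
        rw [hrec x (hle hx')]
        refine Finset.sum_eq_zero fun i _ => hleft i _ (π i x).2 fun φ hφ => ?_
        rw [hπ i x φ hφ]
        exact hZ.1 hx i φ hφ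
      · intro hx hx'
        refine hleft _ x hx fun φ hφ => ?_
        have hle : (⨆ l, ⨆ _ : l ≠ j.succ, W l) ≤ LinearMap.ker φ := by
          refine iSup₂_le fun l hl => ?_
          revert hl
          refine Fin.cases ?_ (fun l' => ?_) l
          · exact fun _ y hy => hZ.1 hy _ φ hφ
          · intro hl y hy
            exact hcross _ _ (fun h => hl (congrArg Fin.succ (e.symm.injective h).symm)) φ hφ y hy
        exact hle hx'
    · rw [eq_top_iff]
      intro x _
      obtain ⟨z, hz, hx⟩ := hdecomp x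
      rw [hx]
      refine add_mem (Submodule.mem_iSup_of_mem 0 hz) (sum_mem fun i _ => ?_)
      refine Submodule.mem_iSup_of_mem (e i).succ ?_
      show (π i x : V) ∈ Wc (e.symm (e i))
      rw [e.symm_apply_apply]; exact (π i x).2
  · refine ⟨fun u hu g => ?_⟩
    exact (Subgroup.mem_normalizer_iff.1 (hKnorm _ g.2) u).1 hu
  · refine le_antisymm (iSup_le fun j => hKH _) (hinH _ fun i g hg => ?_)
    refine Subgroup.mem_iSup_of_mem (e i) ?_
    show g ∈ Kc (e.symm (e i))
    rw [e.symm_apply_apply]; exact Subgroup.subset_closure hg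
  · intro j
    rw [eq_bot_iff]
    rintro a ⟨ha, ha'⟩
    rw [Subgroup.mem_bot]
    let F : Subgroup (V ≃ₗ[ZMod p] V) :=
      { carrier := {g | ∀ x ∈ Wc (e.symm j), g x = x}
        one_mem' := fun _ _ => rfl
        mul_mem' := fun {a b} ha hb x hx => by rw [LinearEquiv.mul_apply, hb x hx, ha x hx]
        inv_mem' := fun {a} ha x hx => by
          show a.symm x = x
          rw [a.symm_apply_eq, ha x hx] }
    have hle : (⨆ j' ∈ {j' : Fin n | j' ≠ j}, Kc (e.symm j')) ≤ F :=
      iSup₂_le fun l hl g hg x hx => (hfix _ g hg).2 _ (e.symm.injective.ne hl) x hx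
    refine hext a 1 (hfix _ a ha).1 fun i x hx => ?_
    by_cases hi : e.symm j = i
    · subst hi; exact hle ha' x hx
    · exact (hfix _ a ha).2 i hi x hx
  · intro j h hh i
    refine Fin.cases ?_ (fun l => ?_) i
    · exact fun _ v hv => (hfix _ h hh).1 v hv
    · exact fun hl v hv => (hfix _ h hh).2 _ (e.symm.injective.ne fun h' => hl (by rw [h'])) v hv
  · intro j
    set i := e.symm j with hi
    show ∃ ρ : ↥(Kc i) →* (↥(Wc i) ≃ₗ[ZMod p] ↥(Wc i)),
      (∀ (h : ↥(Kc i)) (v : ↥(Wc i)), ((ρ h v : ↥(Wc i)) : V) = (h : V ≃ₗ[ZMod p] V) (v : V)) ∧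
        ((ρ.range : Set (↥(Wc i) ≃ₗ[ZMod p] ↥(Wc i))) =
            {f : ↥(Wc i) ≃ₗ[ZMod p] ↥(Wc i) | LinearMap.det (f : ↥(Wc i) →ₗ[ZMod p] ↥(Wc i)) = 1} ∨
          ∃ B : LinearMap.BilinForm (ZMod p) ↥(Wc i), B.IsAlt ∧ B.Nondegenerate ∧
            (ρ.range : Set (↥(Wc i) ≃ₗ[ZMod p] ↥(Wc i))) = {f : ↥(Wc i) ≃ₗ[ZMod p] ↥(Wc i) | ∀ x y, B (f x) (f y) = B x y})
    clear_value i
    clear hi
    have hmap : ∀ h : Kc i, (Wc i).map ((h : V ≃ₗ[ZMod p] V) : V →ₗ[ZMod p] V) = Wc i := fun h =>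
      hstab (Wc i) (fun i' g hg y hy => (hact i' _ g hg y hy).2) (hKH i h.2)
    let ρ : ↥(Kc i) →* (↥(Wc i) ≃ₗ[ZMod p] ↥(Wc i)) :=
      MonoidHom.mk' (fun h => LinearEquiv.ofSubmodules (h : V ≃ₗ[ZMod p] V) _ _ (hmap h))
        (fun a b => LinearEquiv.ext fun x => Subtype.ext rfl)
    refine ⟨ρ, fun h v => rfl, ?_⟩
    let β := ((Module.Dual.eval (ZMod p) V).domRestrict (Wc i)).compl₂ (Φc i).subtype
    have hrange : ρ.range = Subgroup.closure (ρ '' ((Subtype.val) ⁻¹' gens i)) := by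
      rw [← MonoidHom.map_closure, MonoidHom.range_eq_map]
      congr 1
      exact Subgroup.closure_closure_coe_preimage.symm
    -- the transvection of a pair, restricted
    have hgen : ∀ u ∈ ρ '' ((Subtype.val) ⁻¹' gens i), ∃ (w : Wc i) (φ : Φc i) (h : β.flip φ w = 0),
        ((w : V), (φ : Module.Dual (ZMod p) V)) ∈ pairsOf i ∧ u = LinearEquiv.transvection h := by
      rintro _ ⟨g, ⟨q, hq, h, hg⟩, rfl⟩
      refine ⟨⟨q.1, hmemW i q hq⟩, ⟨q.2, hmemΦ i q hq⟩, h, hq, LinearEquiv.ext fun x => Subtype.ext ?_⟩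
      show (g : V ≃ₗ[ZMod p] V) x = (x : V) + q.2 x • q.1
      rw [hg]; rfl
    have hput : ∀ (w : Wc i) (φ : Φc i) (h : β.flip φ w = 0),
        ((w : V), (φ : Module.Dual (ZMod p) V)) ∈ pairsOf i → LinearEquiv.transvection h ∈ ρ.range := by
      intro w φ h hq
      refine ⟨⟨LinearEquiv.transvection (f := (φ : Module.Dual (ZMod p) V)) (v := (w : V)) h,
        Subgroup.subset_closure ⟨_, hq, h, rfl⟩⟩, LinearEquiv.ext fun x => Subtype.ext rfl⟩
    have hclassify : (∀ (w : Wc i) (φ : Φc i), w ≠ 0 → φ ≠ 0 → β.flip φ w = 0 →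
          ((w : V), (φ : Module.Dual (ZMod p) V)) ∈ pairsOf i) ∨
        ∃ L : Wc i →ₗ[ZMod p] Φc i, (∀ w, β w (L w) = 0) ∧
          (∀ w : Wc i, w ≠ 0 → ((w : V), (L w : Module.Dual (ZMod p) V)) ∈ pairsOf i) ∧
          ∀ (w : Wc i) (φ : Φc i), ((w : V), (φ : Module.Dual (ZMod p) V)) ∈ pairsOf i →
            ∃ c : ZMod p, φ = c • L w := by
      cases i with
      | none =>
        refine Or.inl fun w φ hw _ _ => absurd ?_ hw
        apply Subtype.ext
        simpa [Wc, pairsOf] using w.2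
      | some c =>
        let Sc := S.comp c.out.1 c.out.2
        have hmem : ∀ v φ, Sc.P v φ → v ∈ Wc (some c) ∧ φ ∈ Φc (some c) := fun v φ hP =>
          ⟨hmemW _ (v, φ) hP, hmemΦ _ (v, φ) hP⟩
        let R := Sc.restrict _ _ hmem
        have hlift : ∀ a b, Sc.Conn a b → ∀ (a1 : a.1 ∈ Wc (some c)) (a2 : a.2 ∈ Φc (some c))
            (b1 : b.1 ∈ Wc (some c)) (b2 : b.2 ∈ Φc (some c)),
            R.Conn (⟨a.1, a1⟩, ⟨a.2, a2⟩) (⟨b.1, b1⟩, ⟨b.2, b2⟩) := by
          intro a b hab
          induction hab with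
          | refl => exact fun _ _ _ _ => Relation.ReflTransGen.refl
          | @tail m m' _ hl ih =>
            intro a1 a2 b1 b2
            exact (ih a1 a2 (hmem m.1 m.2 hl.1).1 (hmem m.1 m.2 hl.1).2).tail hl
        have hwhole : R.Whole :=
          { centre := fun v hv => by
              obtain ⟨φ, hφ⟩ := hspanW _ v v.2 fun h0 => hv (Subtype.ext h0)
              exact ⟨⟨φ, hmemΦ _ _ hφ⟩, hφ⟩
            axis' := fun φ hφ => by
              obtain ⟨v, hv⟩ := hspanΦ _ φ φ.2 fun h0 => hφ (Subtype.ext h0)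
              exact ⟨⟨v, hmemW _ _ hv⟩, hv⟩
            left := fun v hv => Subtype.ext (hleft _ v v.2 fun φ hφ => hv ⟨φ, hφ⟩)
            right := fun φ hφ => Subtype.ext (hright _ φ φ.2 fun x hx => hφ ⟨x, hx⟩)
            conn := fun a b ha hb =>
              hlift ((a.1 : V), (a.2 : Module.Dual (ZMod p) V)) ((b.1 : V), (b.2 : Module.Dual (ZMod p) V))
                (S.comp_connected c.out.1 c.out.2 _ _ ha hb) a.1.2 a.2.2 b.1.2 b.2.2 }
        exact R.classify h2 hwhole
    rcases hclassify with hfull | ⟨L, hL0, hLP, hLall⟩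
    · left
      ext f
      constructor
      · intro hf
        have hle : ρ.range ≤ (LinearEquiv.det : (↥(Wc i) ≃ₗ[ZMod p] ↥(Wc i)) →* (ZMod p)ˣ).ker := by
          rw [hrange, Subgroup.closure_le]
          intro u hu
          obtain ⟨w, φ, h, -, rfl⟩ := hgen u hu
          rw [SetLike.mem_coe, MonoidHom.mem_ker, Units.ext_iff, LinearEquiv.coe_det]
          rw [show ((LinearEquiv.transvection h : ↥(Wc i) ≃ₗ[ZMod p] ↥(Wc i)) : ↥(Wc i) →ₗ[ZMod p] ↥(Wc i))
            = LinearMap.transvection (β.flip φ) w from rfl, LinearMap.transvection.det, h, add_zero]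
          rfl
        have := hle hf
        rw [MonoidHom.mem_ker, Units.ext_iff, LinearEquiv.coe_det] at this
        exact this
      · intro hf
        refine det_one_mem_of_transvections ρ.range (fun φ' w h => ?_) hf
        by_cases hz : w = 0 ∨ φ' = 0
        · have : LinearEquiv.transvection h = 1 := LinearEquiv.ext fun x => by
            rcases hz with h0 | h0 <;> simp [LinearMap.transvection.apply, h0]
          rw [this]; exact one_mem _
        push Not at hz
        have inj' : Function.Injective β.flip := by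
          rw [injective_iff_map_eq_zero]
          exact fun φ hφ => Subtype.ext (hright i φ φ.2 fun x hx => LinearMap.congr_fun hφ ⟨x, hx⟩)
        have inj : Function.Injective β := by
          rw [injective_iff_map_eq_zero]
          exact fun x hx => Subtype.ext (hleft i x x.2 fun φ hφ => LinearMap.congr_fun hx ⟨φ, hφ⟩)
        have e1 := LinearMap.finrank_le_finrank_of_injective inj
        have e2 := LinearMap.finrank_le_finrank_of_injective inj'
        have d1 : Module.finrank (ZMod p) (↥(Φc i) →ₗ[ZMod p] ZMod p) = _ := Subspace.dual_finrank_eq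
        have d2 : Module.finrank (ZMod p) (↥(Wc i) →ₗ[ZMod p] ZMod p) = _ := Subspace.dual_finrank_eq
        rw [d1] at e1
        rw [d2] at e2
        have heq : Module.finrank (ZMod p) (↥(Φc i)) = Module.finrank (ZMod p) (↥(Wc i) →ₗ[ZMod p] ZMod p) := by
          rw [d2]; omega
        obtain ⟨φ, rfl⟩ := (LinearMap.injective_iff_surjective_of_finrank_eq_finrank (f := β.flip) heq).1 inj' φ'
        exact hput w φ h (hfull w φ hz.1 (fun h0 => hz.2 (by rw [h0, map_zero])) h)
    · right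
      let B : LinearMap.BilinForm (ZMod p) ↥(Wc i) := β.flip.comp L
      have hB : B.IsAlt := fun w => hL0 w
      have hinjL : ∀ w, L w = 0 → w = 0 := by
        intro w hw
        by_contra h0
        exact (S.ne (memP i _ (hLP w h0))).2.1 (congrArg Subtype.val hw)
      have hnl : ∀ x, (∀ y, B x y = 0) → x = 0 := fun x hx =>
        hinjL x (Subtype.ext (hright i _ (L x).2 fun y hy => hx ⟨y, hy⟩))
      have hn : B.Nondegenerate :=
        ⟨hnl, fun x hx => hnl x fun y => by rw [← hB.neg_eq y x, hx y, neg_zero]⟩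
      refine ⟨B, hB, hn, ?_⟩
      ext f
      constructor
      · intro hf
        let I : Subgroup (↥(Wc i) ≃ₗ[ZMod p] ↥(Wc i)) :=
          { carrier := {f | ∀ x y, B (f x) (f y) = B x y}
            one_mem' := fun _ _ => rfl
            mul_mem' := fun {a b} ha hb x y => by rw [LinearEquiv.mul_apply, LinearEquiv.mul_apply, ha, hb]
            inv_mem' := fun {a} ha x y => by
              show B (a.symm x) (a.symm y) = B x y
              conv_rhs => rw [← a.apply_symm_apply x, ← a.apply_symm_apply y, ha] }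
        have hle : ρ.range ≤ I := by
          rw [hrange, Subgroup.closure_le]
          intro u hu x y
          obtain ⟨w, φ, h, hq, rfl⟩ := hgen u hu
          obtain ⟨c, rfl⟩ := hLall w φ hq
          have : LinearEquiv.transvection h = sympTv hB w c := LinearEquiv.ext fun z => by
            show z + β.flip (c • L w) z • w = z + (c • B w) z • w
            rw [map_smul]; rfl
          rw [this]; exact sympTv_isometry hB w x y c
        exact hle hf
      · intro hf
        refine isometry_mem_of_transvections hB hn ρ.range (fun w c => ?_) hf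
        by_cases hz : w = 0 ∨ c = 0
        · have : sympTv hB w c = 1 := LinearEquiv.ext fun x => by
            rcases hz with h0 | h0 <;> simp [sympTv_apply, h0]
          rw [this]; exact one_mem _
        push Not at hz
        have hq : ((w : V), ((c • L w : Φc i) : Module.Dual (ZMod p) V)) ∈ pairsOf i := by
          have hP := memP i _ (hLP w hz.1)
          exact hconn i _ (hLP w hz.1) _ (S.conn_same_centre hP (S.smulR hP hz.2))
        have h0 : β.flip (c • L w) w = 0 := by rw [map_smul, LinearMap.smul_apply]; simp [β]; exact Or.inr (hL0 w)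
        have : sympTv hB w c = LinearEquiv.transvection h0 := LinearEquiv.ext fun z => by
          show z + (c • B w) z • w = z + β.flip (c • L w) z • w
          rw [map_smul]; rfl
        rw [this]; exact hput w _ h0 hq

end H99.Transv
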